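import Cfsg.Agent.Lib.Involutions.CubeSFour.Vectors
import Cfsg.Agent.Lib.ThreeLocalChars.CubeByFour

/-!
# From the linear character to the whole group

The linear character gives a normal subgroup of index two, the transfer one of index three below
it, and the result for `3³ : 2²` applies to the latter.
-/

set_option autoImplicit false
set_option linter.style.haveILetI false
set_option linter.unusedSectionVars false

namespace CfsgLib.CubeSFour

open CfsgLib.ThreeLocalChars

universe u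

namespace Config

variable {G : Type u} [Group G] {H : Subgroup G} (c : Config H)

/-- Parity on `H`. -/
def Even' (g : G) : Prop := isEven (c.code g) = true

theorem parity_mul {g h : G} (hg : g ∈ H) (hh : h ∈ H) :
    isEven (c.code (g * h)) = (isEven (c.code g) == isEven (c.code h)) := by
  let S : Subgroup G :=
    { carrier := {g | g ∈ H ∧ ∀ k ∈ H,
        isEven (c.code (g * k)) = (isEven (c.code g) == isEven (c.code k))}
      one_mem' := ⟨H.one_mem, fun k _ => by
        rw [one_mul, c.code_one, show isEven idc = true by decide +kernel]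
        cases isEven (c.code k) <;> rfl⟩
      mul_mem' := by
        rintro x y ⟨hx, px⟩ ⟨hy, py⟩
        refine ⟨H.mul_mem hx hy, fun k hk => ?_⟩
        rw [mul_assoc, px _ (H.mul_mem hy hk), py k hk, px y hy]
        cases isEven (c.code x) <;> cases isEven (c.code y) <;> cases isEven (c.code k) <;> rfl
      inv_mem' := by
        rintro x ⟨hx, px⟩
        refine ⟨H.inv_mem hx, fun k hk => ?_⟩
        have h1 := px _ (H.mul_mem (H.inv_mem hx) hk)
        rw [mul_inv_cancel_left] at h1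
        have h2 := px _ (H.inv_mem hx)
        rw [mul_inv_cancel, c.code_one, show isEven idc = true by decide +kernel] at h2
        revert h1 h2
        cases isEven (c.code x) <;> cases isEven (c.code x⁻¹) <;> cases isEven (c.code k) <;>
          cases isEven (c.code (x⁻¹ * k)) <;> simp }
  have hS : H ≤ S := c.gen_induction fun a ha => by
    refine ⟨c.el_mem a, fun k hk => ?_⟩
    have hK : a ∈ KL := mem_of_inK
      (List.all_eq_true.mp (show gens.all inK = true by decide +kernel) a ha)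
    have h := List.all_eq_true.mp (List.all_eq_true.mp even_ok _ (c.mem_KL k hk)) a ha
    rw [beq_iff_eq] at h
    rw [c.code_mul _ (c.el_mem a) _ hk, c.code_el hK]
    exact h
  exact (hS hg).2 h hh

theorem hom_eq [Finite G] {μ : G →* ℂˣ} (hμ : μ c.sE ≠ 1) {g : G} (hg : g ∈ H) :
    μ g = if isEven (c.code g) = true then 1 else -1 := by
  haveI := Fintype.ofFinite G
  have hs : μ c.sE = -1 := by
    have h2 : μ c.sE * μ c.sE = 1 := by rw [← map_mul, c.s_involution, map_one]
    have h3 : ((μ c.sE : ℂˣ) : ℂ) * (μ c.sE : ℂˣ) = 1 := by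
      rw [← Units.val_mul, h2, Units.val_one]
    rcases mul_self_eq_one_iff.mp h3 with h | h
    · exact absurd (Units.ext h) hμ
    · exact Units.ext (by rw [h, Units.val_neg, Units.val_one])
  let S : Subgroup G :=
    { carrier := {g | g ∈ H ∧ μ g = if isEven (c.code g) = true then 1 else -1}
      one_mem' := ⟨H.one_mem, by
        rw [c.code_one, show isEven idc = true by decide +kernel, map_one, if_pos rfl]⟩
      mul_mem' := by
        rintro x y ⟨hx, px⟩ ⟨hy, py⟩
        refine ⟨H.mul_mem hx hy, ?_⟩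
        rw [map_mul, px, py, c.parity_mul hx hy]
        cases isEven (c.code x) <;> cases isEven (c.code y) <;> simp
      inv_mem' := by
        rintro x ⟨hx, px⟩
        refine ⟨H.inv_mem hx, ?_⟩
        have h2 := c.parity_mul hx (H.inv_mem hx)
        rw [mul_inv_cancel, c.code_one, show isEven idc = true by decide +kernel] at h2
        rw [map_inv, px]
        revert h2
        cases isEven (c.code x) <;> cases isEven (c.code x⁻¹) <;> simp }
  have hS : H ≤ S := c.conj_induction fun h hh => by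
    have h' := List.all_eq_true.mp parity_vals.2 _ (c.mem_KL h hh)
    rw [← c.code_s, ← c.code_conj hh c.sE_mem, Bool.not_eq_true'] at h'
    refine ⟨conj_mem hh c.sE_mem, ?_⟩
    rw [h', map_mul, map_mul, map_inv, hs]
    simp
  exact (hS hg).2

theorem J_even {g : G} (hg : g ∈ H) (h : inJ (c.code g) = true) :
    isEven (c.code g) = true ∧ rot (c.code g) = 0 := by
  have := List.all_eq_true.mp JL_rot _ ((inJ_iff _).mp h)
  simpa using this

theorem rot_mul {g h : G} (hg : g ∈ H) (hh : h ∈ H) (eg : isEven (c.code g) = true)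
    (eh : isEven (c.code h) = true) :
    rot (c.code (g * h)) = (rot (c.code g) + rot (c.code h)) % 3 := by
  have base : ∀ a ∈ evenSet, a ∈ KL ∧ ∀ k ∈ H, isEven (c.code k) = true →
      rot (c.code (c.el a * k)) = (rot a + rot (c.code k)) % 3 := by
    intro a ha
    have h1 := List.all_eq_true.mp rot_all a ha
    simp only [Bool.and_eq_true, List.all_eq_true] at h1
    refine ⟨mem_of_inK h1.1.2, fun k hk ek => ?_⟩
    have h2 := h1.2 _ (c.mem_KL k hk)
    rw [ek, Bool.not_true, Bool.false_or, beq_iff_eq] at h2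
    rw [c.code_mul _ (c.el_mem a) _ hk, c.code_el (mem_of_inK h1.1.2)]
    exact h2
  obtain ⟨q, hq, j, hj, e⟩ := decomp (c.mem_KL g hg)
  have hjs : j ∈ evenSet := List.mem_append_right _ hj
  obtain ⟨hjK, pj⟩ := base j hjs
  have hqK : q ∈ KL := mem_of_inK
    (List.all_eq_true.mp (show QL.all inK = true by decide +kernel) q hq)
  have hje : isEven j = true ∧ rot j = 0 := by
    simpa using List.all_eq_true.mp JL_rot j hj
  have hge : g = c.el q * c.el j := by rw [← c.el_comp hqK hjK, ← e, c.el_code hg]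
  have hqe : isEven q = true := by
    have h2 := c.parity_mul (c.el_mem q) (c.el_mem j)
    rw [← hge, eg, c.code_el hqK, c.code_el hjK, hje.1] at h2
    simpa using h2.symm
  obtain ⟨-, pq⟩ := base q (List.mem_append_left _ (List.mem_filter.mpr ⟨hq, hqe⟩))
  have h1 := pq _ (H.mul_mem (c.el_mem j) hh)
    (by rw [c.parity_mul (c.el_mem j) hh, c.code_el hjK, hje.1, eh]; rfl)
  have h2 := pj h hh eh
  have h3 := pq _ (c.el_mem j) (by rw [c.code_el hjK]; exact hje.1)
  rw [c.code_el hjK] at h3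
  rw [← hge] at h3
  rw [← mul_assoc, ← hge, h2] at h1
  rw [h1, h3]
  omega

theorem rot_lt {g : G} (hg : g ∈ H) (eg : isEven (c.code g) = true) : rot (c.code g) < 3 := by
  have h := c.rot_mul hg H.one_mem eg (by rw [c.code_one]; decide +kernel)
  rw [mul_one] at h
  rw [h]
  exact Nat.mod_lt _ (by norm_num)

/-- The centralizing element of `3³` of an outer element of order three. -/
theorem exists_z {w : G} (hw : w ∈ H) (h3 : w ^ 3 = 1) (hJ : inJ (c.code w) = false) :
    ∃ z ∈ H, inJ (c.code z) = true ∧ z ≠ 1 ∧ z ^ 3 = 1 ∧ w * z = z * w ∧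
      (∀ h ∈ H, h * w = w * h → h * z = z * h → h ^ 9 = 1 → ∃ a b : ℕ, h = w ^ a * z ^ b) ∧
      (∀ a b : ℕ, inJ (c.code (w ^ a * z ^ b)) = true → ∃ k : ℕ, w ^ a * z ^ b = z ^ k) := by
  have h := List.all_eq_true.mp outer_three _ (c.mem_KL w hw)
  rw [← c.code_pow hw, h3, c.code_one, hJ, beq_self_eq_true, Bool.not_true, Bool.false_or,
    Bool.false_or] at h
  generalize zOf (c.code w) = zc at h
  simp only [outerOK, Bool.and_eq_true, List.all_eq_true, Bool.or_eq_true, Bool.not_eq_true',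
    beq_eq_false_iff_ne, beq_iff_eq, List.any_eq_true, List.contains_iff_mem] at h
  obtain ⟨⟨⟨⟨⟨h1, h2⟩, h4⟩, h5⟩, h6⟩, h7⟩ := h
  have hzK := J_mem_KL h5
  have hz : c.code (c.el zc) = zc := c.code_el' hzK
  set z := c.el zc
  have hzH : z ∈ H := c.el_mem _
  have hzJ : inJ (c.code z) = true := by rw [hz]; exact h5
  have hz3 : z ^ 3 = 1 := c.J_pow_three hzH hzJ
  have hpow : ∀ a b : ℕ, c.code (w ^ a * z ^ b) = comp (cpow (c.code w) a) (cpow zc b) := by
    intro a b
    rw [c.code_mul _ (H.pow_mem hw a) _ (H.pow_mem hzH b), c.code_pow hw, c.code_pow hzH, hz]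
  refine ⟨z, hzH, hzJ, fun e => h1 (by rw [← hz, e, c.code_one]), hz3,
    (c.comm_iff hw hzH).mpr (by rw [hz]; exact h2), fun g hg hgw hgz hg9 => ?_, fun a b hab => ?_⟩
  · have hgw' := (c.comm_iff hg hw).mp hgw
    have hgz' := (c.comm_iff hg hzH).mp hgz
    rw [hz] at hgz'
    rcases h6 _ (c.mem_KL g hg) with ((h8 | h8) | h8) | h8
    · exact absurd hgw' h8
    · exact absurd hgz' h8
    · exact absurd (by rw [← c.code_pow hg, hg9, c.code_one]) h8
    · simp only [pairGroup, List.mem_flatMap, List.mem_map, List.mem_range] at h8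
      obtain ⟨a, -, b, -, e⟩ := h8
      exact ⟨a, b, c.inj _ hg _ (H.mul_mem (H.pow_mem hw a) (H.pow_mem hzH b))
        (by rw [hpow, e])⟩
  · have hw' : w ^ a = w ^ (a % 3) := pow_eq_pow_mod a h3
    have hz' : z ^ b = z ^ (b % 3) := pow_eq_pow_mod b hz3
    rw [hw', hz'] at hab ⊢
    rw [hpow] at hab
    have hmem : comp (cpow (c.code w) (a % 3)) (cpow zc (b % 3)) ∈ pairGroup (c.code w) zc := by
      simp only [pairGroup, List.mem_flatMap, List.mem_map, List.mem_range]
      exact ⟨_, Nat.mod_lt _ (by norm_num), _, Nat.mod_lt _ (by norm_num), rfl⟩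
    rcases h7 _ hmem with h8 | ⟨k, -, h8⟩
    · rw [hab] at h8; exact absurd h8 (by simp)
    · refine ⟨k, c.inj _ (H.mul_mem (H.pow_mem hw _) (H.pow_mem hzH _)) _ (H.pow_mem hzH k) ?_⟩
      rw [hpow, c.code_pow hzH, hz, h8]

variable [Finite G]

/-- Fusion of outer elements of order three preserves the rotation. -/
theorem fusion {μ : G →* ℂˣ} (hμ : μ c.sE ≠ 1) {w w' g : G} (hw : w ∈ H) (hw' : w' ∈ H)
    (h3 : w ^ 3 = 1) (hJ : inJ (c.code w) = false) (hJ' : inJ (c.code w') = false)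
    (hμg : μ g = 1) (hconj : g * w * g⁻¹ = w') (ew : μ w = 1) :
    rot (c.code w') = rot (c.code w) := by
  have h3' : w' ^ 3 = 1 := by rw [← hconj, conj_pow, h3, mul_one, mul_inv_cancel]
  have ew' : μ w' = 1 := by rw [← hconj, map_mul, map_mul, map_inv, hμg, ew]; simp
  have hker : ∀ x ∈ H, μ x = 1 → isEven (c.code x) = true := by
    intro x hx h1
    rw [c.hom_eq hμ hx] at h1
    by_contra hne
    rw [if_neg hne] at h1
    have := congrArg (fun z : ℂˣ => (z : ℂ)) h1
    norm_num at this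
  obtain ⟨z, hz, hzJ, hz1, hz3, hzw, -, -⟩ := c.exists_z hw h3 hJ
  obtain ⟨z', hz', hzJ', hz1', hz3', hzw', hcent, hint⟩ := c.exists_z hw' h3' hJ'
  have μJ : ∀ x ∈ H, inJ (c.code x) = true → μ x = 1 := fun x hx hxJ => by
    rw [c.hom_eq hμ hx, if_pos (c.J_even hx hxJ).1]
  let S : Subgroup G := μ.ker ⊓ Subgroup.centralizer ({w'} : Set G)
  have hcm : Commute w' z' := hzw'
  let W : Subgroup G :=
    { carrier := {x | ∃ a b : ℕ, x = w' ^ a * z' ^ b}
      one_mem' := ⟨0, 0, by simp⟩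
      mul_mem' := by
        rintro x y ⟨a, b, rfl⟩ ⟨a', b', rfl⟩
        refine ⟨a + a', b + b', ?_⟩
        rw [pow_add, pow_add]
        calc w' ^ a * z' ^ b * (w' ^ a' * z' ^ b') = w' ^ a * (z' ^ b * w' ^ a') * z' ^ b' := by group
          _ = w' ^ a * (w' ^ a' * z' ^ b) * z' ^ b' := by rw [(hcm.pow_pow a' b).eq]
          _ = _ := by group
      inv_mem' := by
        rintro x ⟨a, b, rfl⟩
        refine ⟨2 * a, 2 * b, inv_eq_of_mul_eq_one_right ?_⟩
        calc w' ^ a * z' ^ b * (w' ^ (2 * a) * z' ^ (2 * b))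
            = w' ^ a * (z' ^ b * w' ^ (2 * a)) * z' ^ (2 * b) := by group
          _ = w' ^ a * (w' ^ (2 * a) * z' ^ b) * z' ^ (2 * b) := by rw [(hcm.pow_pow _ b).eq]
          _ = (w' ^ 3) ^ a * (z' ^ 3) ^ b := by group
          _ = 1 := by rw [h3', hz3', one_pow, one_pow, one_mul] }
  have hW3 : IsPGroup 3 W := by
    rintro ⟨x, a, b, rfl⟩
    refine ⟨1, Subtype.ext ?_⟩
    show (w' ^ a * z' ^ b) ^ 3 ^ 1 = 1
    rw [pow_one, (hcm.pow_pow a b).mul_pow, ← pow_mul, ← pow_mul, mul_comm a, mul_comm b, pow_mul,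
      pow_mul, h3', hz3', one_pow, one_pow, one_mul]
  have hWS : W ≤ S := by
    rintro x ⟨a, b, rfl⟩
    refine S.mul_mem (S.pow_mem ⟨ew', ?_⟩ a) (S.pow_mem ⟨μJ _ hz' hzJ', ?_⟩ b)
    · exact Subgroup.mem_centralizer_singleton_iff.mpr rfl
    · exact Subgroup.mem_centralizer_singleton_iff.mpr hzw'.symm
  have hWH : ∀ x ∈ W, x ∈ H := by
    rintro x ⟨a, b, rfl⟩
    exact H.mul_mem (H.pow_mem hw' a) (H.pow_mem hz' b)
  have hA3 : IsPGroup 3 (Subgroup.zpowers (g * z * g⁻¹)) := IsPGroup.of_card (n := 1) (by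
    rw [Nat.card_zpowers, pow_one, ← MulAut.conj_apply, MulEquiv.orderOf_eq]
    haveI := Fact.mk Nat.prime_three
    exact orderOf_eq_prime hz3 hz1)
  have hAS : Subgroup.zpowers (g * z * g⁻¹) ≤ S := Subgroup.zpowers_le.mpr
    ⟨by show μ (g * z * g⁻¹) = 1; rw [map_mul, map_mul, map_inv, hμg, μJ z hz hzJ]; simp,
      Subgroup.mem_centralizer_singleton_iff.mpr (by
        rw [← hconj]
        calc g * z * g⁻¹ * (g * w * g⁻¹) = g * (z * w) * g⁻¹ := by group
          _ = g * (w * z) * g⁻¹ := by rw [hzw]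
          _ = _ := by group)⟩
  obtain ⟨d, hd, hdA⟩ := conj_le S _ hW3 hWS hA3 hAS (by
    rintro p hp ⟨n, hn⟩ hnor
    have hpz : p * z' * p⁻¹ ∈ W := hnor z' ⟨0, 1, by simp⟩
    obtain ⟨a, b, hab⟩ := hpz
    have hH : p * z' * p⁻¹ ∈ H := hab ▸ H.mul_mem (H.pow_mem hw' a) (H.pow_mem hz' b)
    have hJp := c.closed p z' hz' hzJ' hH
    rw [hab] at hJp
    obtain ⟨k, hk⟩ := hint a b hJp
    have hcz := centralizes_of_odd hz3' hn
      (by rw [hab, hk]; exact Subgroup.pow_mem _ (Subgroup.mem_zpowers z') k)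
    have hpH := c.cent p z' hz' hzJ' hz1' hcz
    obtain ⟨a', b', e⟩ := hcent p hpH (Subgroup.mem_centralizer_singleton_iff.mp hp.2) hcz
      (c.pow_nine hpH hn)
    exact ⟨a', b', e⟩)
  have hin := hWH _ (hdA _ (Subgroup.mem_zpowers _))
  have hh : d * g ∈ H := c.ti hz hzJ hz1 (by simpa [mul_assoc] using hin)
  have hμh : μ (d * g) = 1 := by
    rw [map_mul, hμg, mul_one]; exact hd.1
  have he : d * g * w = w' * (d * g) := by
    calc d * g * w = d * (g * w * g⁻¹) * g := by group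
      _ = d * w' * g := by rw [hconj]
      _ = w' * (d * g) := by
        rw [Subgroup.mem_centralizer_singleton_iff.mp hd.2, mul_assoc]
  have hev := hker _ hh hμh
  have h1 := c.rot_mul hh hw hev (hker _ hw ew)
  have h2 := c.rot_mul hw' hh (hker _ hw' ew') hev
  rw [he, h2] at h1
  have h4 := c.rot_lt hw (hker _ hw ew)
  have h5 := c.rot_lt hw' (hker _ hw' ew')
  omega

/-- The main theorem. -/
theorem eq_top (c : Config H) [Fintype G] : H = ⊤ := by
  classical
  obtain ⟨μ, hμ⟩ := c.exists_linear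
  let G1 := μ.ker
  have hmem1 : ∀ x ∈ H, x ∈ G1 ↔ isEven (c.code x) = true := by
    intro x hx
    rw [MonoidHom.mem_ker, c.hom_eq hμ hx]
    by_cases h : isEven (c.code x) = true
    · simp [h]
    · rw [if_neg h]
      refine iff_of_false (fun e => ?_) h
      have := congrArg (fun z : ℂˣ => (z : ℂ)) e
      norm_num at this
  let K : Subgroup G1 := H.subgroupOf G1
  have hKe : ∀ x : K, isEven (c.code ((x : G1) : G)) = true := fun x =>
    (hmem1 _ (Subgroup.mem_subgroupOf.mp x.2)).mp (x : G1).2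
  let φ : K →* Multiplicative (ZMod 3) :=
    { toFun := fun x => Multiplicative.ofAdd ((rot (c.code ((x : G1) : G)) : ℕ) : ZMod 3)
      map_one' := by
        show Multiplicative.ofAdd ((rot (c.code (1 : G)) : ℕ) : ZMod 3) = 1
        rw [c.code_one, show rot idc = 0 by decide +kernel]
        rfl
      map_mul' := fun x y => by
        show Multiplicative.ofAdd ((rot (c.code (((x : G1) : G) * ((y : G1) : G))) : ℕ) : ZMod 3) = _
        rw [c.rot_mul (Subgroup.mem_subgroupOf.mp x.2) (Subgroup.mem_subgroupOf.mp y.2) (hKe x)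
          (hKe y), ZMod.natCast_mod, Nat.cast_add, ofAdd_add] }
  obtain ⟨tc, htc⟩ : ∃ t, t = yC := ⟨_, rfl⟩
  have htv := t_vals
  rw [← htc] at htv
  simp only [Bool.and_eq_true, beq_iff_eq, Bool.not_eq_true'] at htv
  obtain ⟨⟨⟨⟨htK, hte⟩, htr⟩, ht3⟩, -⟩ := htv
  have hcode := c.code_el' htK
  set t := c.el tc
  have htH : t ∈ H := c.el_mem _
  have ht1 : t ∈ G1 := (hmem1 t htH).mpr (by rw [hcode]; exact hte)
  have htp : t ^ 3 = 1 := c.eq_one (H.pow_mem htH 3) (by rw [c.code_pow htH, hcode, ht3])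
  have hrotp : ∀ k : ℕ, rot (c.code (t ^ k)) = k % 3 := by
    intro k
    induction k with
    | zero => rw [pow_zero, c.code_one]; decide +kernel
    | succ k ih =>
      rw [pow_succ', c.rot_mul htH (H.pow_mem htH k) (by rw [hcode]; exact hte)
        ((hmem1 _ (H.pow_mem htH k)).mp (G1.pow_mem ht1 k)), ih, hcode, htr]
      omega
  have hkey : ∀ (k : ℕ) (g₀ : G1) (h : g₀⁻¹ * (⟨t, ht1⟩ : G1) ^ k * g₀ ∈ K),
      φ ⟨_, h⟩ = φ ⟨⟨t, ht1⟩, Subgroup.mem_subgroupOf.mpr htH⟩ ^ k := by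
    intro k g₀ h
    have hx : ((g₀ : G)⁻¹ * t ^ k * (g₀ : G)) ∈ H := Subgroup.mem_subgroupOf.mp h
    have hrhs : φ ⟨⟨t, ht1⟩, Subgroup.mem_subgroupOf.mpr htH⟩ ^ k =
        Multiplicative.ofAdd ((k : ℕ) : ZMod 3) := by
      show Multiplicative.ofAdd ((rot (c.code t) : ℕ) : ZMod 3) ^ k = _
      rw [hcode, htr, ← ofAdd_nsmul, nsmul_eq_mul, Nat.cast_one, mul_one]
    rw [hrhs]
    show Multiplicative.ofAdd ((rot (c.code ((g₀ : G)⁻¹ * t ^ k * (g₀ : G))) : ℕ) : ZMod 3) = _
    congr 1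
    by_cases hk : k % 3 = 0
    · have h1 : t ^ k = 1 := by rw [pow_eq_pow_mod k htp, hk, pow_zero]
      rw [h1, mul_one, inv_mul_cancel, c.code_one, show rot idc = 0 by decide +kernel,
        ← ZMod.natCast_mod k 3, hk]
    · have hwH := H.pow_mem htH k
      have hJ : inJ (c.code (t ^ k)) = false := by
        by_contra hne
        rw [Bool.not_eq_false] at hne
        have := (c.J_even hwH hne).2
        rw [hrotp] at this
        exact hk this
      have hJ' : inJ (c.code ((g₀ : G)⁻¹ * t ^ k * (g₀ : G))) = false := by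
        by_contra hne
        rw [Bool.not_eq_false] at hne
        have e : (g₀ : G) * ((g₀ : G)⁻¹ * t ^ k * (g₀ : G)) * (g₀ : G)⁻¹ = t ^ k := by group
        have := c.closed (g₀ : G) _ hx hne (by rw [e]; exact hwH)
        rw [e, hJ] at this
        exact absurd this (by simp)
      rw [c.fusion hμ hwH hx (by rw [← pow_mul, mul_comm, pow_mul, htp, one_pow]) hJ hJ'
        (g := (g₀ : G)⁻¹) (by rw [map_inv, MonoidHom.mem_ker.mp g₀.2, inv_one]) (by simp)
        (MonoidHom.mem_ker.mp (G1.pow_mem ht1 k)), hrotp, ZMod.natCast_mod]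
  have hidx : ¬ 3 ∣ K.index := by
    haveI : Fact (Nat.Prime 3) := ⟨Nat.prime_three⟩
    let P0 := c.sub Idx.d
    have hP0 : ∀ x ∈ P0, x ^ 9 = 1 := fun x hx => by
      obtain ⟨h1, h2⟩ := (c.mem_sub _).mp hx
      exact c.eq_one (H.pow_mem h1 9) (by
        rw [c.code_pow h1]; exact beq_iff_eq.mp (List.all_eq_true.mp elems_d_pow _ h2))
    have hP01 : P0 ≤ G1 := fun x hx => by
      obtain ⟨h1, -⟩ := (c.mem_sub _).mp hx
      have h9 : μ x ^ 9 = 1 := by rw [← map_pow, hP0 x hx, map_one]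
      rw [c.hom_eq hμ h1] at h9
      refine (hmem1 x h1).mpr ?_
      by_contra hne
      have ho : Odd (9 : ℕ) := by decide
      rw [if_neg hne, ho.neg_one_pow] at h9
      have := congrArg (fun z : ℂˣ => (z : ℂ)) h9
      norm_num at this
    obtain ⟨Q, hQ⟩ := ((IsPGroup.of_card (n := 4) (by rw [c.card_sub]; rfl) :
      IsPGroup 3 P0).comap_subtype : IsPGroup 3 (P0.subgroupOf G1)).exists_le_sylow
    have hPQ : (Q : Subgroup G1).map G1.subtype = P0 := by
      by_contra hne
      have hle : P0 ≤ (Q : Subgroup G1).map G1.subtype := fun x hx =>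
        ⟨⟨x, hP01 hx⟩, hQ (Subgroup.mem_subgroupOf.mpr hx), rfl⟩
      obtain ⟨p, hp, hpP, hn⟩ := exists_normalizing (Q.isPGroup'.map G1.subtype) hle (Ne.symm hne)
      obtain ⟨n, hn'⟩ := (Q.isPGroup'.map G1.subtype) ⟨p, hp⟩
      have hpow : p ^ 3 ^ n = 1 := congrArg Subtype.val hn'
      have key : ([JL.getD 9 idc, JL.getD 3 idc, JL.getD 1 idc, yC].all fun a =>
          inK a && (Idx.d.elems).contains a) = true ∧ inJ (JL.getD 9 idc) = true ∧
          (JL.getD 9 idc == idc) = false ∧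
          (KL.all fun a => !(cpow a 9 == idc) || (Idx.d.elems).contains a ||
            !([JL.getD 9 idc, JL.getD 3 idc, JL.getD 1 idc, yC].all fun b =>
              (Idx.d.elems).contains (cconj a b))) = true := by
        decide +kernel
      obtain ⟨k1, k2, k3, k4⟩ := key
      simp only [List.all_eq_true, Bool.and_eq_true, List.contains_iff_mem] at k1
      have hmemP : ∀ a ∈ [JL.getD 9 idc, JL.getD 3 idc, JL.getD 1 idc, yC], c.el a ∈ P0 :=
        fun a ha => (c.mem_sub _).mpr ⟨c.el_mem a, by rw [c.code_el' (k1 a ha).1]; exact (k1 a ha).2⟩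
      have he := c.code_el' (k1 (JL.getD 9 idc) (by simp)).1
      have hpH : p ∈ H := by
        refine c.ti (x := c.el (JL.getD 9 idc)) (c.el_mem _) (by rw [he]; exact k2) (fun e => ?_)
          ((c.mem_sub _).mp (hn _ (hmemP _ (by simp)))).1
        rw [e, c.code_one] at he
        rw [← he] at k3
        simp at k3
      refine hpP ((c.mem_sub _).mpr ⟨hpH, ?_⟩)
      have h4 := List.all_eq_true.mp k4 _ (c.mem_KL p hpH)
      rw [← c.code_pow hpH, c.pow_nine hpH hpow, c.code_one, beq_self_eq_true, Bool.not_true,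
        Bool.false_or, Bool.or_eq_true] at h4
      rcases h4 with h4 | h4
      · simpa using h4
      · exfalso
        rw [Bool.not_eq_true', ← Bool.not_eq_true, List.all_eq_true] at h4
        refine h4 fun b hb => List.contains_iff_mem.mpr ?_
        have h5 := ((c.mem_sub _).mp (hn _ (hmemP b hb))).2
        rwa [c.code_conj hpH (c.el_mem b), c.code_el' (k1 b hb).1] at h5
    intro hdvd
    refine Q.not_dvd_index (hdvd.trans (Subgroup.index_dvd_of_le fun x hx => ?_))
    refine Subgroup.mem_subgroupOf.mpr ((c.mem_sub Idx.d).mp ?_).1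
    show (x : G) ∈ P0
    rw [← hPQ]
    exact ⟨x, hx, rfl⟩
  haveI : K.FiniteIndex := ⟨fun h => hidx (h ▸ dvd_zero 3)⟩
  let ψ : G1 →* Multiplicative (ZMod 3) := MonoidHom.transfer φ
  have hψt : ψ ⟨t, ht1⟩ ≠ 1 := by
    haveI := Fintype.ofFinite
      (Quotient (MulAction.orbitRel (Subgroup.zpowers (⟨t, ht1⟩ : G1)) (G1 ⧸ K)))
    show MonoidHom.transfer φ (⟨t, ht1⟩ : G1) ≠ 1
    rw [MonoidHom.transfer_eq_prod_quotient_orbitRel_zpowers_quot]
    rw [Finset.prod_congr rfl (fun q _ => hkey _ _ _), Finset.prod_pow_eq_pow_sum,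
      ← Subgroup.index_eq_sum_minimalPeriod]
    show Multiplicative.ofAdd ((rot (c.code t) : ℕ) : ZMod 3) ^ K.index ≠ 1
    rw [hcode, htr, ← ofAdd_nsmul, nsmul_eq_mul, Nat.cast_one, mul_one, Ne, ← ofAdd_zero,
      Multiplicative.ofAdd.injective.eq_iff, ZMod.natCast_eq_zero_iff]
    exact hidx
  have h3z : ∀ z : Multiplicative (ZMod 3), z = z⁻¹ → z = 1 := by decide
  let G2 : Subgroup G := ψ.ker.map G1.subtype
  have hG21 : G2 ≤ G1 := Subgroup.map_subtype_le _
  have mem2 : ∀ x (hx : x ∈ G1), x ∈ G2 ↔ ψ ⟨x, hx⟩ = 1 := by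
    intro x hx
    refine ⟨?_, fun h => ⟨⟨x, hx⟩, h, rfl⟩⟩
    rintro ⟨y, hy, e⟩
    rw [show (⟨x, hx⟩ : G1) = y from Subtype.ext e.symm]
    exact hy
  obtain ⟨uG, huG⟩ : ∃ f : Fin 3 → G, f = fun i => c.el (uV i) := ⟨_, rfl⟩
  obtain ⟨eG, heG⟩ : ∃ f : Vec3 → G, f = fun v => c.el (eV v) := ⟨_, rfl⟩
  have hVJ : ∀ v, inJ (eV v) = true := by decide +kernel
  have hcU : ∀ i, c.code (uG i) = uV i := fun i => by
    rw [huG]; exact c.code_el' (uV_facts i).1
  have hcE : ∀ v, c.code (eG v) = eV v := fun v => by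
    rw [heG]; exact c.code_el' (J_mem_KL (hVJ v))
  have hUH : ∀ i, uG i ∈ H := fun i => huG ▸ c.el_mem _
  have hEH : ∀ v, eG v ∈ H := fun v => heG ▸ c.el_mem _
  have hU1 : ∀ i, uG i ∈ G1 := fun i =>
    (hmem1 _ (hUH i)).mpr (by rw [hcU]; exact (uV_facts i).2.1)
  have hEJ : ∀ v, inJ (c.code (eG v)) = true := fun v => by rw [hcE]; exact hVJ v
  have hE1 : ∀ v, eG v ∈ G1 := fun v => (hmem1 _ (hEH v)).mpr (c.J_even (hEH v) (hEJ v)).1
  have hUsq : ∀ i, uG i * uG i = 1 := fun i => c.eq_one (H.mul_mem (hUH i) (hUH i))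
    (by rw [c.code_mul _ (hUH i) _ (hUH i), hcU, (uV_facts i).2.2.2.1])
  have hEadd : ∀ v w, eG (v + w) = eG v * eG w := fun v w =>
    c.inj _ (hEH _) _ (H.mul_mem (hEH v) (hEH w))
      (by rw [c.code_mul _ (hEH v) _ (hEH w), hcE, hcE, hcE, eV_add])
  have hconjUE : ∀ i v, uG i * eG v * uG i = eG (flipOff i v) := fun i v =>
    c.inj _ (H.mul_mem (H.mul_mem (hUH i) (hEH v)) (hUH i)) _ (hEH _)
      (by rw [mul_assoc, c.code_mul _ (hUH i) _ (H.mul_mem (hEH v) (hUH i)),
        c.code_mul _ (hEH v) _ (hUH i), hcU, hcE, hcE]; exact uV_conj i v)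
  have hU2 : ∀ i, uG i ∈ G2 := fun i => (mem2 _ (hU1 i)).mpr (h3z _ (by
    refine eq_inv_of_mul_eq_one_left ?_
    rw [← map_mul]
    have : (⟨uG i, hU1 i⟩ : G1) * ⟨uG i, hU1 i⟩ = 1 := Subtype.ext (hUsq i)
    rw [this, map_one]))
  have hEsingle : ∀ (j : Fin 3) (a : ZMod 3), eG (Pi.single j a) ∈ G2 := by
    intro j a
    obtain ⟨i, hij⟩ := exists_ne_idx j
    refine (mem2 _ (hE1 _)).mpr (h3z _ (eq_inv_of_mul_eq_one_left ?_))
    have hflip : flipOff i (Pi.single j a) = -Pi.single j a := by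
      funext l
      by_cases hl : i = l
      · subst hl; simp [flipOff, hij]
      · simp [flipOff, hl]
    have hc2 : (⟨uG i, hU1 i⟩ : G1) * ⟨_, hE1 (Pi.single j a)⟩ * ⟨uG i, hU1 i⟩ =
        ⟨_, hE1 (-Pi.single j a)⟩ := Subtype.ext (by
      show uG i * eG (Pi.single j a) * uG i = eG (-Pi.single j a)
      rw [hconjUE, hflip])
    have hu : ψ (⟨uG i, hU1 i⟩ : G1) = 1 := (mem2 _ (hU1 i)).mp (hU2 i)
    have h1 := congrArg ψ hc2
    rw [map_mul, map_mul, hu, one_mul, mul_one] at h1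
    rw [← map_mul]
    nth_rewrite 2 [show (⟨_, hE1 (Pi.single j a)⟩ : G1) = ⟨_, hE1 (Pi.single j a)⟩ from rfl]
    rw [map_mul]
    nth_rewrite 1 [h1]
    rw [← map_mul]
    have h0 : eG (0 : Vec3) = 1 := by
      have := hEadd 0 0
      rw [add_zero] at this
      exact mul_eq_left.mp this.symm
    have : (⟨_, hE1 (-Pi.single j a)⟩ : G1) * ⟨_, hE1 (Pi.single j a)⟩ = 1 := Subtype.ext (by
      show eG (-Pi.single j a) * eG (Pi.single j a) = 1
      rw [← hEadd, neg_add_cancel, h0])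
    rw [this, map_one]
  have hE2 : ∀ v, eG v ∈ G2 := by
    intro v
    have e : v = Pi.single 0 (v 0) + Pi.single 1 (v 1) + Pi.single 2 (v 2) := by
      funext l; fin_cases l <;> simp
    rw [e, hEadd, hEadd]
    exact G2.mul_mem (G2.mul_mem (hEsingle _ _) (hEsingle _ _)) (hEsingle _ _)
  have hJE : ∀ x ∈ H, inJ (c.code x) = true → ∃ v, x = eG v := by
    intro x hx hxJ
    have h := List.all_eq_true.mp eV_surj _ ((inJ_iff _).mp hxJ)
    simp only [List.contains_iff_mem, List.mem_flatMap, List.mem_map] at h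
    obtain ⟨a, -, b, -, d, -, e⟩ := h
    exact ⟨_, c.inj _ hx _ (hEH _) (by rw [hcE, e])⟩
  have hH2 : ∀ x ∈ H, x ∈ G2 → ∃ v, x = eG v ∨ ∃ i, x = eG v * uG i := by
    have hexh : ∀ x ∈ H, isEven (c.code x) = true → rot (c.code x) = 0 →
        ∃ v, x = eG v ∨ ∃ i, x = eG v * uG i := by
      intro x hx he hr
      have h := List.all_eq_true.mp four_on_cube.1 _ (c.mem_KL x hx)
      rw [he, hr, beq_self_eq_true, Bool.and_self, Bool.not_true, Bool.false_or,
        Bool.or_eq_true, List.any_eq_true] at h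
      rcases h with h | ⟨q, hq, h⟩
      · obtain ⟨v, hv⟩ := hJE x hx h
        exact ⟨v, Or.inl hv⟩
      · obtain ⟨i, rfl⟩ : ∃ i, q = uV i := by
          rcases List.mem_iff_getElem.mp hq with ⟨n, hn, rfl⟩
          exact ⟨⟨n, by simpa [uTriple] using hn⟩, by simp [uV, List.getD_eq_getElem?_getD, hn]⟩
        rw [← hcU, ← c.code_mul _ hx _ (hUH i)] at h
        obtain ⟨v, hv⟩ := hJE _ (H.mul_mem hx (hUH i)) h
        exact ⟨v, Or.inr ⟨i, by rw [← hv, mul_assoc, hUsq, mul_one]⟩⟩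
    intro x hx hx2
    refine hexh x hx ((hmem1 x hx).mp (hG21 hx2)) ?_
    by_contra hr
    have ex := (hmem1 x hx).mp (hG21 hx2)
    have hlt := c.rot_lt hx ex
    set n := 3 - rot (c.code x) with hn
    have hy : x * t ^ n ∈ H := H.mul_mem hx (H.pow_mem htH n)
    have hy1 : x * t ^ n ∈ G1 := G1.mul_mem (hG21 hx2) (G1.pow_mem ht1 n)
    have hyr : rot (c.code (x * t ^ n)) = 0 := by
      rw [c.rot_mul hx (H.pow_mem htH n) ex ((hmem1 _ (H.pow_mem htH n)).mp (G1.pow_mem ht1 n)),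
        hrotp]
      omega
    have hy2 : x * t ^ n ∈ G2 := by
      obtain ⟨v, e | ⟨i, e⟩⟩ := hexh _ hy ((hmem1 _ hy).mp hy1) hyr
      · rw [e]; exact hE2 v
      · rw [e]; exact G2.mul_mem (hE2 v) (hU2 i)
    have htn : t ^ n ∈ G2 := by
      have := G2.mul_mem (G2.inv_mem hx2) hy2
      rwa [inv_mul_cancel_left] at this
    have h1 := (mem2 _ (G1.pow_mem ht1 n)).mp htn
    have h2 : ψ (⟨t, ht1⟩ : G1) ^ n = 1 := by rw [← map_pow]; exact h1
    have key : ∀ z : Multiplicative (ZMod 3), ∀ k : Fin 3, z ≠ 1 → k ≠ 0 → z ^ k.val ≠ 1 := by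
      decide
    exact key _ ⟨n, by omega⟩ hψt (fun e => by
      have := congrArg Fin.val e
      simp at this
      omega) h2
  -- the model inside the subgroup of index six
  let H2 : Subgroup G2 := H.subgroupOf G2
  let cube : FourOnCube H2 :=
    { E := fun v => ⟨eG v, hE2 v⟩
      U := fun i => ⟨uG i, hU2 i⟩
      E_mem := fun v => Subgroup.mem_subgroupOf.mpr (hEH v)
      U_mem := fun i => Subgroup.mem_subgroupOf.mpr (hUH i)
      E_add := fun v w => Subtype.ext (hEadd v w)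
      U_sq := fun i => Subtype.ext (hUsq i)
      U_conj := fun i v => Subtype.ext (hconjUE i v)
      U_mul := fun i j h => Subtype.ext (c.inj _ (H.mul_mem (hUH i) (hUH j)) _ (hUH _)
        (by rw [c.code_mul _ (hUH i) _ (hUH j), hcU, hcU, hcU]; exact uV_mul i j h))
      exhaust := fun x hx => by
        obtain ⟨v, e | ⟨i, e⟩⟩ := hH2 _ (Subgroup.mem_subgroupOf.mp hx) x.2
        · exact ⟨v, Or.inl (Subtype.ext e)⟩
        · exact ⟨v, Or.inr ⟨i, Subtype.ext e⟩⟩
      E_inj := fun v w e => eV_inj v w (by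
        rw [← hcE, ← hcE, show eG v = eG w from congrArg Subtype.val e])
      U_not := fun i v e => by
        have h1 : uG i = eG v := congrArg Subtype.val e
        have h2 := hEJ v
        rw [← h1, hcU, (uV_facts i).2.2.2.2] at h2
        exact absurd h2 (by simp) }
  obtain ⟨v1, hv1⟩ : ∃ v : Vec3, v ≠ 0 := ⟨Pi.single 0 1, by decide⟩
  have hne : ∀ v : Vec3, v ≠ 0 → eG v ≠ 1 := fun v hv e => cube.E_ne_one hv (Subtype.ext e)
  have hemb : Embedded cube :=
    { norm := fun g hg => by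
        obtain ⟨w, hw⟩ := hg v1
        refine Subgroup.mem_subgroupOf.mpr (c.ti (hEH v1) (hEJ v1) (hne v1 hv1) ?_)
        have e : (g : G) * eG v1 * (g : G)⁻¹ = eG w := congrArg Subtype.val hw
        rw [e]; exact hEH w
      cent := fun v g hv h => Subgroup.mem_subgroupOf.mpr
        (c.cent _ _ (hEH v) (hEJ v) (hne v hv) (congrArg Subtype.val h)) }
  haveI := Fintype.ofFinite G2
  have h2H : G2 ≤ H := fun x hx => by
    have h := cube.eq_top hemb
    have : (⟨x, hx⟩ : G2) ∈ H2 := h ▸ Subgroup.mem_top _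
    exact Subgroup.mem_subgroupOf.mp this
  have h1H : G1 ≤ H := fun g hg => by
    refine c.ti (hEH v1) (hEJ v1) (hne v1 hv1) (h2H ?_)
    have hc : g * eG v1 * g⁻¹ ∈ G1 := G1.mul_mem (G1.mul_mem hg (hE1 v1)) (G1.inv_mem hg)
    refine (mem2 _ hc).mpr ?_
    rw [show (⟨_, hc⟩ : G1) = ⟨g, hg⟩ * ⟨eG v1, hE1 v1⟩ * ⟨g, hg⟩⁻¹ from rfl, map_mul, map_mul,
      (mem2 _ (hE1 v1)).mp (hE2 v1), map_inv, mul_one, mul_inv_cancel]
  rw [Subgroup.eq_top_iff']
  intro g
  refine c.ti (hEH v1) (hEJ v1) (hne v1 hv1) (h1H ?_)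
  exact (inferInstance : G1.Normal).conj_mem _ (hE1 v1) g

end Config

end CfsgLib.CubeSFour
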