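import Cfsg.Agent.Lib.Involutions.CubeSFour.Signs

/-!
# The case analysis of the sign options
-/

set_option autoImplicit false
set_option maxHeartbeats 3200000
set_option linter.unusedSectionVars false

namespace CfsgLib.CubeSFour

open Finset

variable {ι : Type*} [Fintype ι] [DecidableEq ι]

namespace Sys

variable (S : Sys ι)

/-- The conclusion: a character of degree one in the first vector or of degree two in the fourth. -/
def Small : Prop := ∃ i, (S.deg i = 1 ∧ S.m0 i ≠ 0) ∨ (S.deg i = 2 ∧ S.m5 i ≠ 0)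

theorem deg_ne (i : ι) : (S.deg i : ℂ) ≠ 0 := Nat.cast_ne_zero.mpr (S.deg_pos i).ne'

/-- Signed degree. -/
def hd (ε : ℤ) (i : ι) : ℤ := ε * S.deg i

/-- Signed first value. -/
def hx (ε : ℤ) (i : ι) : ℂ := ε * S.x i

/-- Signed second value. -/
def hy (ε : ℤ) (i : ι) : ℂ := ε * S.y i

theorem hd_ne {ε : ℤ} (h : ε * ε = 1) (i : ι) : S.hd ε i ≠ 0 := by
  refine mul_ne_zero (fun h0 => ?_) (by exact_mod_cast (S.deg_pos i).ne')
  rw [h0] at h; norm_num at h

theorem unit_cases {ε : ℤ} (h : ε * ε = 1) : ε = 1 ∨ ε = -1 :=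
  Int.eq_one_or_neg_one_of_mul_eq_one h

theorem hd_one {ε : ℤ} (h : ε * ε = 1) {i : ι} {n : ℕ} (he : S.hd ε i = n ∨ S.hd ε i = -n) :
    S.deg i = n := by
  unfold hd at he
  rcases unit_cases h with rfl | rfl <;> omega

section
variable {m : ι → ℤ} {i : ι} {a ε : ℤ}

theorem term_d (hm : m i = a * ε) :
    (m i : ℂ) * (S.deg i : ℂ) = (a : ℂ) * (S.hd ε i : ℂ) := by
  rw [hm, hd]; push_cast; ring

theorem term_x (hm : m i = a * ε) : (m i : ℂ) * S.x i = (a : ℂ) * S.hx ε i := by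
  rw [hm, hx]; push_cast; ring

theorem term_y (hm : m i = a * ε) : (m i : ℂ) * S.y i = (a : ℂ) * S.hy ε i := by
  rw [hm, hy]; push_cast; ring

theorem term_q (hε : ε * ε = 1) (hm : m i = a * ε) (p q : ℂ) :
    (m i : ℂ) * (p * q / (S.deg i : ℂ)) =
      (a : ℂ) * (((ε : ℂ) * p) * ((ε : ℂ) * q) / (S.hd ε i : ℂ)) := by
  rcases unit_cases hε with rfl | rfl <;> rw [hm, hd] <;> push_cast <;>
    field_simp [S.deg_ne i]

theorem term_xx (hε : ε * ε = 1) (hm : m i = a * ε) :
    (m i : ℂ) * (S.x i ^ 2 / (S.deg i : ℂ)) = (a : ℂ) * (S.hx ε i ^ 2 / (S.hd ε i : ℂ)) := by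
  rw [pow_two, pow_two, S.term_q hε hm]; rfl

theorem term_xy (hε : ε * ε = 1) (hm : m i = a * ε) :
    (m i : ℂ) * (S.x i * S.y i / (S.deg i : ℂ)) =
      (a : ℂ) * (S.hx ε i * S.hy ε i / (S.hd ε i : ℂ)) :=
  S.term_q hε hm _ _

theorem term_yy (hε : ε * ε = 1) (hm : m i = a * ε) :
    (m i : ℂ) * (S.y i ^ 2 / (S.deg i : ℂ)) = (a : ℂ) * (S.hy ε i ^ 2 / (S.hd ε i : ℂ)) := by
  rw [pow_two, pow_two, S.term_q hε hm]; rfl

end

theorem shift_sum (m : ι → ℤ) (p q : ι → ℂ) (μ ν : ℂ) :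
    ∑ i, (m i : ℂ) * ((p i - μ * S.deg i) * (q i - ν * S.deg i) / (S.deg i : ℂ)) =
      ∑ i, (m i : ℂ) * (p i * q i / (S.deg i : ℂ)) - μ * ∑ i, (m i : ℂ) * q i -
        ν * ∑ i, (m i : ℂ) * p i + μ * ν * ∑ i, (m i : ℂ) * (S.deg i : ℂ) := by
  simp only [Finset.mul_sum]
  rw [← Finset.sum_sub_distrib, ← Finset.sum_sub_distrib, ← Finset.sum_add_distrib]
  refine Finset.sum_congr rfl fun i _ => ?_
  have := S.deg_ne i
  field_simp
  ring

theorem shift_lin (m : ι → ℤ) (p : ι → ℂ) (μ : ℂ) :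
    ∑ i, (m i : ℂ) * (p i - μ * S.deg i) =
      ∑ i, (m i : ℂ) * p i - μ * ∑ i, (m i : ℂ) * (S.deg i : ℂ) := by
  simp only [Finset.mul_sum]
  rw [← Finset.sum_sub_distrib]
  exact Finset.sum_congr rfl fun i _ => by ring

theorem shift_sq (m : ι → ℤ) (p : ι → ℂ) (μ : ℂ) :
    ∑ i, (m i : ℂ) * ((p i - μ * S.deg i) ^ 2 / (S.deg i : ℂ)) =
      ∑ i, (m i : ℂ) * (p i ^ 2 / (S.deg i : ℂ)) - 2 * μ * ∑ i, (m i : ℂ) * p i +
        μ * μ * ∑ i, (m i : ℂ) * (S.deg i : ℂ) := by
  simp only [pow_two, S.shift_sum]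
  ring

/-- Translating the values by multiples of the degree. -/
noncomputable def shift (μ ν : ℂ) : Sys ι :=
  { S with
    x := fun i => S.x i - μ * S.deg i
    y := fun i => S.y i - ν * S.deg i
    lin := fun m hm => by
      obtain ⟨h1, h2, h3⟩ := S.lin m hm
      exact ⟨h1, by rw [S.shift_lin, h1, h2]; ring, by rw [S.shift_lin, h1, h3]; ring⟩
    q0a := by
      obtain ⟨h1, h2, -⟩ := S.lin S.m0 (by simp)
      rw [S.shift_sq, h1, h2, S.q0a]; ring
    q0c := by
      obtain ⟨h1, -, h3⟩ := S.lin S.m0 (by simp)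
      rw [S.shift_sq, h1, h3, S.q0c]; ring
    q3a := by
      obtain ⟨h1, h2, -⟩ := S.lin S.m3 (by simp)
      rw [S.shift_sq, h1, h2, S.q3a]; ring
    q3b := by
      obtain ⟨h1, h2, h3⟩ := S.lin S.m3 (by simp)
      rw [S.shift_sum, h1, h2, h3, S.q3b]; ring
    q3c := by
      obtain ⟨h1, -, h3⟩ := S.lin S.m3 (by simp)
      rw [S.shift_sq, h1, h3, S.q3c]; ring
    q5a := by
      obtain ⟨h1, h2, -⟩ := S.lin S.m5 (by simp)
      rw [S.shift_sq, h1, h2, S.q5a]; ring
    q5b := by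
      obtain ⟨h1, h2, h3⟩ := S.lin S.m5 (by simp)
      rw [S.shift_sum, h1, h2, h3, S.q5b]; ring
    q6a := by
      obtain ⟨h1, h2, -⟩ := S.lin S.m6 (by simp)
      rw [S.shift_sq, h1, h2, S.q6a]; ring
    q6b := by
      obtain ⟨h1, h2, h3⟩ := S.lin S.m6 (by simp)
      rw [S.shift_sum, h1, h2, h3, S.q6b]; ring
    q6c := by
      obtain ⟨h1, -, h3⟩ := S.lin S.m6 (by simp)
      rw [S.shift_sq, h1, h3, S.q6c]; ring }

theorem sign_mul {m : ι → ℤ} {i : ι} {ε : ℤ} (h : ε * ε = 1) : m i = (m i * ε) * ε := by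
  rw [mul_assoc, h, mul_one]

/-- All the characters of the first three vectors have been named. -/
theorem stage4 (A B C D E F : ι) (εA εB εC εD εE εF : ℤ)
    (hA : εA * εA = 1) (hB : εB * εB = 1) (hC : εC * εC = 1) (hD : εD * εD = 1)
    (hE : εE * εE = 1) (hF : εF * εF = 1)
    (hK : [S.one, A, B, C, D, E, F].Nodup)
    (v0 : S.m0 A = εA ∧ S.m0 B = εB ∧ S.m0 C = εC ∧
      ∀ i, i ∉ [A, B, C] → S.m0 i = 0)
    (v5 : S.m5 A = εA ∧ S.m5 B = εB ∧ S.m5 D = εD ∧ S.m5 E = εE ∧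
      ∀ i, i ∉ [A, B, D, E] → S.m5 i = 0)
    (v3 : S.m3 A = εA ∧ S.m3 D = εD ∧ S.m3 F = εF ∧
      ∀ i, i ∉ [S.one, A, D, F] → S.m3 i = 0)
    (hx0 : S.hx εA A = 0) (hy0 : S.hy εA A + S.hy εB B = 0) : S.Small := by
  obtain ⟨a0, b0, c0, z0⟩ := v0
  obtain ⟨a5, b5, d5, e5, z5⟩ := v5
  obtain ⟨a3, d3, f3, z3⟩ := v3
  have hK0 : [A, B, C].Nodup := by simp at hK ⊢; tauto
  have hK5 : [A, B, D, E].Nodup := by simp at hK ⊢; tauto
  have hK3 : [S.one, A, D, F].Nodup := by simp at hK ⊢; tauto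
  have hne : ∀ {ε : ℤ}, ε * ε = 1 → ∀ i, (S.hd ε i : ℂ) ≠ 0 := fun h i =>
    Int.cast_ne_zero.mpr (S.hd_ne h i)
  have u0a : S.m0 A = 1 * εA := by rw [one_mul]; exact a0
  have u0b : S.m0 B = 1 * εB := by rw [one_mul]; exact b0
  have u0c : S.m0 C = 1 * εC := by rw [one_mul]; exact c0
  have u5a : S.m5 A = 1 * εA := by rw [one_mul]; exact a5
  have u5b : S.m5 B = 1 * εB := by rw [one_mul]; exact b5
  have u5d : S.m5 D = 1 * εD := by rw [one_mul]; exact d5
  have u5e : S.m5 E = 1 * εE := by rw [one_mul]; exact e5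
  have u3a : S.m3 A = 1 * εA := by rw [one_mul]; exact a3
  have u3d : S.m3 D = 1 * εD := by rw [one_mul]; exact d3
  have u3f : S.m3 F = 1 * εF := by rw [one_mul]; exact f3
  -- the first vector
  obtain ⟨l0, l0x, l0y⟩ := S.lin S.m0 (by simp)
  have q0a := S.q0a
  have q0c := S.q0c
  rw [sum_of_support hK0 z0] at l0 l0x l0y q0a q0c
  simp only [List.map_cons, List.map_nil, List.sum_cons, List.sum_nil, add_zero, S.term_d u0a,
    S.term_d u0b, S.term_d u0c, S.term_x u0a, S.term_x u0b, S.term_x u0c, S.term_y u0a,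
    S.term_y u0b, S.term_y u0c, S.term_xx hA u0a, S.term_xx hB u0b, S.term_xx hC u0c,
    S.term_yy hA u0a, S.term_yy hB u0b, S.term_yy hC u0c, Int.cast_one, one_mul]
    at l0 l0x l0y q0a q0c
  -- the second vector
  obtain ⟨l5, l5x, l5y⟩ := S.lin S.m5 (by simp)
  have q5a := S.q5a
  have q5b := S.q5b
  rw [sum_of_support hK5 z5] at l5 l5x l5y q5a q5b
  simp only [List.map_cons, List.map_nil, List.sum_cons, List.sum_nil, add_zero, S.term_d u5a,
    S.term_d u5b, S.term_d u5d, S.term_d u5e, S.term_x u5a, S.term_x u5b, S.term_x u5d,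
    S.term_x u5e, S.term_y u5a, S.term_y u5b, S.term_y u5d, S.term_y u5e, S.term_xx hA u5a,
    S.term_xx hB u5b, S.term_xx hD u5d, S.term_xx hE u5e, S.term_xy hA u5a,
    S.term_xy hB u5b, S.term_xy hD u5d, S.term_xy hE u5e, Int.cast_one, one_mul]
    at l5 l5x l5y q5a q5b
  -- the third vector
  obtain ⟨l3, l3x, l3y⟩ := S.lin S.m3 (by simp)
  have q3a := S.q3a
  have q3b := S.q3b
  have q3c := S.q3c
  rw [sum_of_support hK3 z3] at l3 l3x l3y q3a q3b q3c
  simp only [List.map_cons, List.map_nil, List.sum_cons, List.sum_nil, add_zero, S.t3,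
    S.deg_one, S.term_d u3a, S.term_d u3d, S.term_d u3f, S.term_x u3a, S.term_x u3d,
    S.term_x u3f, S.term_y u3a, S.term_y u3d, S.term_y u3f, S.term_xx hA u3a, S.term_xx hD u3d,
    S.term_xx hF u3f, S.term_xy hA u3a, S.term_xy hD u3d, S.term_xy hF u3f, S.term_yy hA u3a,
    S.term_yy hD u3d, S.term_yy hF u3f, Nat.cast_one, div_one, Int.cast_one, one_mul]
    at l3 l3x l3y q3a q3b q3c
  -- names
  obtain ⟨f, hf⟩ : ∃ f, f = S.hd εA A := ⟨_, rfl⟩
  obtain ⟨e, he⟩ : ∃ e, e = S.hd εB B := ⟨_, rfl⟩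
  obtain ⟨c, hc⟩ : ∃ c, c = S.hd εD D := ⟨_, rfl⟩
  obtain ⟨X, hX⟩ : ∃ X, X = S.hx εD D := ⟨_, rfl⟩
  obtain ⟨t, ht⟩ : ∃ t, t = S.hy εB B := ⟨_, rfl⟩
  obtain ⟨L, hL⟩ : ∃ L, L = S.x S.one := ⟨_, rfl⟩
  obtain ⟨M', hS⟩ : ∃ M', M' = S.y S.one := ⟨_, rfl⟩
  have hyA : S.hy εA A = -t := by rw [ht]; linear_combination hy0
  rw [← hf, ← he] at l0 q0a q0c
  rw [← hf, ← he, ← hc] at l5 q5a q5b
  rw [← hf, ← hc] at l3 q3a q3b q3c
  rw [← hX] at l5x q5a q5b l3x q3a q3b
  rw [← hL] at l3x q3a q3b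
  rw [← hS] at l3y q3b q3c
  rw [hx0] at l0x q0a l5x q5a q5b l3x q3a q3b
  rw [hyA, ← ht] at l0y q0c l5y q5b
  rw [hyA] at l3y q3b q3c
  have hfz : f ≠ 0 := hf ▸ S.hd_ne hA A
  have hez : e ≠ 0 := he ▸ S.hd_ne hB B
  have hcz : c ≠ 0 := hc ▸ S.hd_ne hD D
  have hf' : (f : ℂ) ≠ 0 := Int.cast_ne_zero.mpr hfz
  have he' : (e : ℂ) ≠ 0 := Int.cast_ne_zero.mpr hez
  have hc' : (c : ℂ) ≠ 0 := Int.cast_ne_zero.mpr hcz
  have dC : (S.hd εC C : ℂ) = -((f : ℂ) + e) := by linear_combination l0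
  have hgz' : (f : ℂ) + e ≠ 0 := fun h => hne hC C (by rw [dC, h, neg_zero])
  have hgz : e + f ≠ 0 := fun h => hgz' (by rw [add_comm]; exact_mod_cast h)
  have xB : S.hx εB B = 0 := by
    have xC : S.hx εC C = -S.hx εB B := by linear_combination l0x
    rw [xC, dC] at q0a
    field_simp at q0a
    have h2 : S.hx εB B ^ 2 * (f : ℂ) ^ 2 = 0 := by linear_combination q0a
    simpa [hf'] using h2
  have xC : S.hx εC C = 0 := by linear_combination l0x - xB
  have yC : S.hy εC C = 0 := by linear_combination l0y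
  rw [xB] at l5x q5a q5b
  have h0 : t ^ 2 / (f : ℂ) + t ^ 2 / (e : ℂ) = 2 / 3 := by
    rw [yC] at q0c
    simpa [add_assoc] using q0c
  have dE : (S.hd εE E : ℂ) = -((c : ℂ) + (e + f)) := by linear_combination l5
  have hQ' : (c : ℂ) + (e + f) ≠ 0 := fun h => hne hE E (by rw [dE, h, neg_zero])
  have hQ : c + (e + f) ≠ 0 := fun h => hQ' (by exact_mod_cast h)
  have xE : S.hx εE E = -X := by linear_combination l5x
  have h5 : X ^ 2 / (c : ℂ) - X ^ 2 / ((c : ℂ) + (e + f)) = 3 / 2 := by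
    rw [xE, dE, neg_sq, div_neg] at q5a
    linear_combination q5a
  have hXz : X ≠ 0 := by rintro rfl; norm_num at h5
  have yE : S.hy εE E = -S.hy εD D := by linear_combination l5y
  have yD : S.hy εD D = 0 := by
    rw [xE, yE, dE] at q5b
    have h2 : (X * S.hy εD D) * (1 / (c : ℂ) - 1 / ((c : ℂ) + (e + f))) = 0 := by
      rw [neg_mul_neg, div_neg] at q5b
      linear_combination q5b
    rcases mul_eq_zero.mp h2 with h | h
    · exact (mul_eq_zero.mp h).resolve_left hXz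
    · exfalso
      have : X ^ 2 * (1 / (c : ℂ) - 1 / ((c : ℂ) + (e + f))) = 0 := by rw [h, mul_zero]
      have : (3 : ℂ) / 2 = 0 := by linear_combination this - h5
      norm_num at this
  rw [yD] at l3y q3b q3c yE
  have yE' : S.hy εE E = 0 := by rw [yE, neg_zero]
  have dF : (S.hd εF F : ℂ) = -(1 + (c : ℂ) + f) := by linear_combination l3
  have hM' : (1 : ℂ) + c + f ≠ 0 := fun h => hne hF F (by rw [dF, h, neg_zero])
  have hMz : 1 + c + f ≠ 0 := fun h => hM' (by exact_mod_cast h)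
  have xF : S.hx εF F = -(L + X) := by linear_combination l3x
  have yF : S.hy εF F = -(M' - t) := by linear_combination l3y
  have h3a : L ^ 2 + X ^ 2 / (c : ℂ) - (L + X) ^ 2 / (1 + c + f) = 3 / 2 := by
    rw [xF, dF, neg_sq, div_neg] at q3a
    linear_combination q3a
  have h3b : L * M' - (L + X) * (M' - t) / (1 + c + f) = 1 := by
    rw [xF, yF, dF, neg_mul_neg, div_neg] at q3b
    linear_combination q3b
  have h3c : M' ^ 2 + t ^ 2 / (f : ℂ) - (M' - t) ^ 2 / (1 + c + f) = 4 / 3 := by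
    rw [yF, dF, neg_sq, div_neg] at q3c
    linear_combination q3c
  -- the fifth vector
  have r6a := sign_mul (m := S.m6) (i := A) hA
  have r6b := sign_mul (m := S.m6) (i := B) hB
  have r6c := sign_mul (m := S.m6) (i := C) hC
  have r6d := sign_mul (m := S.m6) (i := D) hD
  have r6e := sign_mul (m := S.m6) (i := E) hE
  have r6f := sign_mul (m := S.m6) (i := F) hF
  generalize ga : S.m6 A * εA = a at r6a
  generalize gb : S.m6 B * εB = b at r6b
  generalize gc : S.m6 C * εC = c6 at r6c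
  generalize gd : S.m6 D * εD = d at r6d
  generalize ge : S.m6 E * εE = e6 at r6e
  generalize gf : S.m6 F * εF = f6 at r6f
  have sum3 : ∀ {K : List ι} {m n : ι → ℤ}, K.Nodup → (∀ i, i ∉ K → m i = 0) →
      ∑ i, m i * n i = (K.map fun i => m i * n i).sum := by
    intro K m n hK hz
    simpa using sum_of_support (R := ℤ) hK hz n
  have k06 := S.d06
  rw [sum3 hK0 z0] at k06
  simp only [List.map_cons, List.map_nil, List.sum_cons, List.sum_nil, a0, b0, c0] at k06
  have k56 := S.d56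
  rw [sum3 hK5 z5] at k56
  simp only [List.map_cons, List.map_nil, List.sum_cons, List.sum_nil, a5, b5, d5, e5] at k56
  have k36 := S.d36
  rw [sum3 hK3 z3] at k36
  simp only [List.map_cons, List.map_nil, List.sum_cons, List.sum_nil, a3, d3, f3, S.t3, S.t6]
    at k36
  have hn := norm_le hK S.n6
  simp only [List.map_cons, List.map_nil, List.sum_cons, List.sum_nil, S.t6, r6a, r6b, r6c, r6d,
    r6e, r6f] at hn
  have sq : ∀ {z ε : ℤ}, ε * ε = 1 → z * ε * (z * ε) = z * z := fun {z ε} h => by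
    linear_combination (z * z) * h
  simp only [sq hA, sq hB, sq hC, sq hD, sq hE, sq hF] at hn
  have cases6 := six_cases a b c6 d e6 f6 (by linear_combination k06 - ga - gb - gc)
    (by linear_combination k56 - ga - gb - gd - ge) (by linear_combination k36 - ga - gd - gf)
    (by linarith)
  simp only [List.mem_cons, Prod.mk.injEq, List.not_mem_nil, or_false] at cases6
  have expand : ∀ {R : List ι} {m : ι → ℤ} (F : ι → ℂ), R.Nodup → (∀ i, i ∉ R → m i = 0) →
      ∑ i, (m i : ℂ) * F i = (R.map fun i => (m i : ℂ) * F i).sum :=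
    fun F hR hz => sum_of_support hR hz F
  rcases cases6 with ⟨rfl, rfl, rfl, rfl, rfl, rfl⟩ | ⟨rfl, rfl, rfl, rfl, rfl, rfl⟩ |
    ⟨rfl, rfl, rfl, rfl, rfl, rfl⟩ | ⟨rfl, rfl, rfl, rfl, rfl, rfl⟩ |
    ⟨rfl, rfl, rfl, rfl, rfl, rfl⟩
  · -- `1 + A - D + G`
    obtain ⟨G, hGK, hG, zG⟩ := exists_one_rest hK S.n6 (by
      simp only [List.map_cons, List.map_nil, List.sum_cons, List.sum_nil, S.t6, r6a, r6b, r6c,
        r6d, r6e, r6f, sq hA, sq hB, sq hC, sq hD, sq hE, sq hF]
      norm_num)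
    have u6g : S.m6 G = 1 * S.m6 G := (one_mul _).symm
    obtain ⟨l6, l6x, l6y⟩ := S.lin S.m6 (by simp)
    have q6a := S.q6a
    have q6b := S.q6b
    have q6c := S.q6c
    rw [expand _ hGK zG] at l6 l6x l6y q6a q6b q6c
    simp only [List.map_cons, List.map_nil, List.sum_cons, List.sum_nil, add_zero, S.t6,
      S.deg_one, S.term_d r6a, S.term_d r6b, S.term_d r6c, S.term_d r6d, S.term_d r6e,
      S.term_d r6f, S.term_d u6g, S.term_x r6a, S.term_x r6b, S.term_x r6c, S.term_x r6d,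
      S.term_x r6e, S.term_x r6f, S.term_x u6g, S.term_y r6a, S.term_y r6b, S.term_y r6c,
      S.term_y r6d, S.term_y r6e, S.term_y r6f, S.term_y u6g, S.term_xx hA r6a,
      S.term_xx hB r6b, S.term_xx hC r6c, S.term_xx hD r6d, S.term_xx hE r6e, S.term_xx hF r6f,
      S.term_xx hG u6g, S.term_xy hA r6a, S.term_xy hB r6b, S.term_xy hC r6c, S.term_xy hD r6d,
      S.term_xy hE r6e, S.term_xy hF r6f, S.term_xy hG u6g, S.term_yy hA r6a, S.term_yy hB r6b,
      S.term_yy hC r6c, S.term_yy hD r6d, S.term_yy hE r6e, S.term_yy hF r6f, S.term_yy hG u6g,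
      Nat.cast_one, div_one, Int.cast_one, Int.cast_zero, Int.cast_neg, one_mul, zero_mul,
      zero_add, neg_mul, ← hc, ← hX, ← hf, ← hL, ← hS, hx0, hyA, yD] at l6 l6x l6y q6a q6b q6c
    have dG : (S.hd (S.m6 G) G : ℂ) = (c : ℂ) - 1 - f := by linear_combination l6
    have xG : S.hx (S.m6 G) G = X - L := by linear_combination l6x
    have yG : S.hy (S.m6 G) G = t - M' := by linear_combination l6y
    rw [xG, dG] at q6a
    rw [xG, yG, dG] at q6b
    rw [yG, dG] at q6c
    have hGz : c - 1 - f ≠ 0 := fun h => hne hG G (by rw [dG]; exact_mod_cast h)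
    by_cases hh : 1 + f = 0
    · exact ⟨A, Or.inl ⟨S.hd_one hA (n := 1) (Or.inr (by rw [← hf]; push_cast; omega)), by
        rw [a0]; intro h; rw [h] at hA; norm_num at hA⟩⟩
    have he1 := option_a c e f X t L M' hcz hfz hh hQ hMz hGz h5 h3a h3b h3c
      (by linear_combination q6a) (by linear_combination q6b) (by linear_combination q6c)
    exact ⟨B, Or.inl ⟨S.hd_one hB (n := 1) (Or.inl (by rw [← he, he1]; rfl)), by
      rw [b0]; intro h; rw [h] at hB; norm_num at hB⟩⟩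
  · -- `1 + A - E - F`
    have zG := zero_of_rest hK S.n6 (by
      simp only [List.map_cons, List.map_nil, List.sum_cons, List.sum_nil, S.t6, r6a, r6b, r6c,
        r6d, r6e, r6f, sq hA, sq hB, sq hC, sq hD, sq hE, sq hF]
      norm_num)
    obtain ⟨-, l6x, -⟩ := S.lin S.m6 (by simp)
    have q6a := S.q6a
    rw [expand _ hK zG] at l6x q6a
    simp only [List.map_cons, List.map_nil, List.sum_cons, List.sum_nil, add_zero, S.t6,
      S.deg_one, S.term_x r6a, S.term_x r6b, S.term_x r6c, S.term_x r6d,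
      S.term_x r6e, S.term_x r6f, S.term_xx hA r6a, S.term_xx hB r6b, S.term_xx hC r6c,
      S.term_xx hD r6d, S.term_xx hE r6e, S.term_xx hF r6f, Nat.cast_one, div_one, Int.cast_one,
      Int.cast_zero, Int.cast_neg, one_mul, zero_mul, zero_add, neg_mul, ← hL, hx0, xE, xF, dE, dF]
      at l6x q6a
    have hLX : L + X = 0 := by linear_combination l6x / 2
    rw [hLX] at h3a q6a
    exfalso
    have : (3 : ℂ) / 4 = 0 := by
      simp only [div_neg, neg_sq, neg_zero] at q6a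
      linear_combination -(h5 - h3a + q6a)
    norm_num at this
  · -- `1 + B - E + G`
    obtain ⟨G, hGK, hG, zG⟩ := exists_one_rest hK S.n6 (by
      simp only [List.map_cons, List.map_nil, List.sum_cons, List.sum_nil, S.t6, r6a, r6b, r6c,
        r6d, r6e, r6f, sq hA, sq hB, sq hC, sq hD, sq hE, sq hF]
      norm_num)
    have u6g : S.m6 G = 1 * S.m6 G := (one_mul _).symm
    obtain ⟨l6, l6x, l6y⟩ := S.lin S.m6 (by simp)
    have q6a := S.q6a
    have q6b := S.q6b
    have q6c := S.q6c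
    rw [expand _ hGK zG] at l6 l6x l6y q6a q6b q6c
    simp only [List.map_cons, List.map_nil, List.sum_cons, List.sum_nil, add_zero, S.t6,
      S.deg_one, S.term_d r6a, S.term_d r6b, S.term_d r6c, S.term_d r6d, S.term_d r6e,
      S.term_d r6f, S.term_d u6g, S.term_x r6a, S.term_x r6b, S.term_x r6c, S.term_x r6d,
      S.term_x r6e, S.term_x r6f, S.term_x u6g, S.term_y r6a, S.term_y r6b, S.term_y r6c,
      S.term_y r6d, S.term_y r6e, S.term_y r6f, S.term_y u6g, S.term_xx hA r6a,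
      S.term_xx hB r6b, S.term_xx hC r6c, S.term_xx hD r6d, S.term_xx hE r6e, S.term_xx hF r6f,
      S.term_xx hG u6g, S.term_xy hA r6a, S.term_xy hB r6b, S.term_xy hC r6c, S.term_xy hD r6d,
      S.term_xy hE r6e, S.term_xy hF r6f, S.term_xy hG u6g, S.term_yy hA r6a, S.term_yy hB r6b,
      S.term_yy hC r6c, S.term_yy hD r6d, S.term_yy hE r6e, S.term_yy hF r6f, S.term_yy hG u6g,
      Nat.cast_one, div_one, Int.cast_one, Int.cast_zero, Int.cast_neg, one_mul, zero_mul,
      zero_add, neg_mul, ← he, ← ht, ← hL, ← hS, xB, xE, yE', dE] at l6 l6x l6y q6a q6b q6c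
    have dG : (S.hd (S.m6 G) G : ℂ) = -(1 + (c : ℂ) + f + 2 * e) := by linear_combination l6
    have xG : S.hx (S.m6 G) G = -(L + X) := by linear_combination l6x
    have yG : S.hy (S.m6 G) G = -(M' + t) := by linear_combination l6y
    rw [xG, dG] at q6a
    rw [xG, yG, dG] at q6b
    rw [yG, dG] at q6c
    simp only [neg_sq, neg_mul_neg, div_neg] at q6a q6b q6c
    have hS2 : 1 + c + f + 2 * e ≠ 0 := fun h => hne hG G (by
      rw [dG, neg_eq_zero]; exact_mod_cast h)
    have hc2 := main_option c e f X t L M' hcz hez hfz hgz hQ hMz hS2 h0 h5 h3a h3b h3c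
      (by linear_combination q6a) (by linear_combination q6b) (by linear_combination q6c)
    exact ⟨D, Or.inr ⟨S.hd_one hD (n := 2) (Or.inl (by rw [← hc, hc2]; rfl)), by
      rw [d5]; intro h; rw [h] at hD; norm_num at hD⟩⟩
  · -- `1 + B - D + F`
    have zG := zero_of_rest hK S.n6 (by
      simp only [List.map_cons, List.map_nil, List.sum_cons, List.sum_nil, S.t6, r6a, r6b, r6c,
        r6d, r6e, r6f, sq hA, sq hB, sq hC, sq hD, sq hE, sq hF]
      norm_num)
    obtain ⟨-, l6x, -⟩ := S.lin S.m6 (by simp)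
    rw [expand _ hK zG] at l6x
    simp only [List.map_cons, List.map_nil, List.sum_cons, List.sum_nil, add_zero, S.t6,
      S.term_x r6a, S.term_x r6b, S.term_x r6c, S.term_x r6d, S.term_x r6e, S.term_x r6f,
      Int.cast_one, Int.cast_zero, Int.cast_neg, one_mul, zero_mul, zero_add, neg_mul, ← hL,
      ← hX, xB, xF] at l6x
    exact absurd (by linear_combination -l6x / 2) hXz
  · -- `1 + C + G + G'`
    obtain ⟨G, G', hGK, hG, hG', zG⟩ := exists_two_rest hK S.n6 (by
      simp only [List.map_cons, List.map_nil, List.sum_cons, List.sum_nil, S.t6, r6a, r6b, r6c,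
        r6d, r6e, r6f, sq hA, sq hB, sq hC, sq hD, sq hE, sq hF]
      norm_num)
    have r1a := sign_mul (m := S.m1) (i := A) hA
    have r1b := sign_mul (m := S.m1) (i := B) hB
    have r1c := sign_mul (m := S.m1) (i := C) hC
    have r1d := sign_mul (m := S.m1) (i := D) hD
    have r1e := sign_mul (m := S.m1) (i := E) hE
    have r1f := sign_mul (m := S.m1) (i := F) hF
    have r1g := sign_mul (m := S.m1) (i := G) hG
    have r1h := sign_mul (m := S.m1) (i := G') hG'
    generalize ga1 : S.m1 A * εA = a at r1a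
    generalize gb1 : S.m1 B * εB = b at r1b
    generalize gc1 : S.m1 C * εC = c1 at r1c
    generalize gd1 : S.m1 D * εD = d at r1d
    generalize ge1 : S.m1 E * εE = e1 at r1e
    generalize gf1 : S.m1 F * εF = f1 at r1f
    generalize gg1 : S.m1 G * S.m6 G = g1 at r1g
    generalize gh1 : S.m1 G' * S.m6 G' = h1 at r1h
    have k01 := S.d01
    rw [sum3 hK0 z0] at k01
    simp only [List.map_cons, List.map_nil, List.sum_cons, List.sum_nil, a0, b0, c0] at k01
    have k15 := S.d15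
    simp only [mul_comm (S.m1 _)] at k15
    rw [sum3 hK5 z5] at k15
    simp only [List.map_cons, List.map_nil, List.sum_cons, List.sum_nil, a5, b5, d5, e5] at k15
    have k13 := S.d13
    simp only [mul_comm (S.m1 _)] at k13
    rw [sum3 hK3 z3] at k13
    simp only [List.map_cons, List.map_nil, List.sum_cons, List.sum_nil, a3, d3, f3, S.t3, S.t1]
      at k13
    have k16 := S.d16
    simp only [mul_comm (S.m1 _)] at k16
    rw [sum3 hGK zG] at k16
    simp only [List.map_cons, List.map_nil, List.sum_cons, List.sum_nil, r6a, r6b, r6c, r6d, r6e,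
      r6f, S.t1] at k16
    have hn1 := norm_le hGK S.n1
    simp only [List.map_cons, List.map_nil, List.sum_cons, List.sum_nil, S.t1, r1a, r1b, r1c, r1d,
      r1e, r1f, r1g, r1h, sq hA, sq hB, sq hC, sq hD, sq hE, sq hF, sq hG, sq hG'] at hn1
    have cases1 := eight_cases a b c1 d e1 f1 g1 h1 (by linear_combination k01 - ga1 - gb1 - gc1)
      (by linear_combination k15 - ga1 - gb1 - gd1 - ge1)
      (by linear_combination k13 - ga1 - gd1 - gf1)
      (by linear_combination k16 - gc1 - gg1 - gh1)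
      (by linarith)
    simp only [List.mem_cons, Prod.mk.injEq, List.not_mem_nil, or_false] at cases1
    have z1 : ∀ i, i ∉ (G :: G' :: [S.one, A, B, C, D, E, F]) → S.m1 i = 0 :=
      zero_of_rest hGK S.n1 (by
        simp only [List.map_cons, List.map_nil, List.sum_cons, List.sum_nil, S.t1, r1a, r1b, r1c,
          r1d, r1e, r1f, r1g, r1h, sq hA, sq hB, sq hC, sq hD, sq hE, sq hF, sq hG, sq hG']
        rcases cases1 with h | h | h | h <;>
          obtain ⟨rfl, rfl, rfl, rfl, rfl, rfl, rfl, rfl⟩ := h <;> norm_num)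
    obtain ⟨l1, l1x, l1y⟩ := S.lin S.m1 (by simp)
    rw [expand _ hGK z1] at l1 l1x l1y
    simp only [List.map_cons, List.map_nil, List.sum_cons, List.sum_nil, add_zero, S.t1,
      S.term_d r1a, S.term_d r1b, S.term_d r1c, S.term_d r1d, S.term_d r1e, S.term_d r1f,
      S.term_d r1g, S.term_d r1h, S.term_x r1a, S.term_x r1b, S.term_x r1c, S.term_x r1d,
      S.term_x r1e, S.term_x r1f, S.term_x r1g, S.term_x r1h, S.term_y r1a, S.term_y r1b,
      S.term_y r1c, S.term_y r1d, S.term_y r1e, S.term_y r1f, S.term_y r1g, S.term_y r1h,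
      ← hX, hx0, xB, xC, xE, yC, Int.cast_zero, zero_mul, zero_add, mul_zero] at l1 l1x l1y
    obtain ⟨l6, l6x, l6y⟩ := S.lin S.m6 (by simp)
    have q6a := S.q6a
    have q6b := S.q6b
    have q6c := S.q6c
    have u6g : S.m6 G = 1 * S.m6 G := (one_mul _).symm
    have u6h : S.m6 G' = 1 * S.m6 G' := (one_mul _).symm
    rw [expand _ hGK zG] at l6 l6x l6y q6a q6b q6c
    simp only [List.map_cons, List.map_nil, List.sum_cons, List.sum_nil, add_zero, S.t6,
      S.deg_one, S.term_d r6a, S.term_d r6b, S.term_d r6c, S.term_d r6d, S.term_d r6e,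
      S.term_d r6f, S.term_d u6g, S.term_d u6h, S.term_x r6a, S.term_x r6b, S.term_x r6c,
      S.term_x r6d, S.term_x r6e, S.term_x r6f, S.term_x u6g, S.term_x u6h, S.term_y r6a,
      S.term_y r6b, S.term_y r6c, S.term_y r6d, S.term_y r6e, S.term_y r6f, S.term_y u6g,
      S.term_y u6h, S.term_xx hA r6a, S.term_xx hB r6b, S.term_xx hC r6c, S.term_xx hD r6d,
      S.term_xx hE r6e, S.term_xx hF r6f, S.term_xx hG u6g, S.term_xx hG' u6h,
      S.term_xy hA r6a, S.term_xy hB r6b, S.term_xy hC r6c, S.term_xy hD r6d, S.term_xy hE r6e,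
      S.term_xy hF r6f, S.term_xy hG u6g, S.term_xy hG' u6h, S.term_yy hA r6a, S.term_yy hB r6b,
      S.term_yy hC r6c, S.term_yy hD r6d, S.term_yy hE r6e, S.term_yy hF r6f, S.term_yy hG u6g,
      S.term_yy hG' u6h, Nat.cast_one, div_one, Int.cast_one, Int.cast_zero, one_mul, zero_mul,
      zero_add, ← hL, ← hS, xC, yC, dC, ne_eq, OfNat.ofNat_ne_zero, not_false_eq_true, zero_pow,
      zero_div] at l6 l6x l6y q6a q6b q6c
    have fin : ∀ (P Q : ℂ) (p q : ℂ), p = -((f : ℂ) + e) → L + Q = 0 → M' + P = 0 →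
        1 + -((f : ℂ) + e) + (p + q) = 0 → q ≠ 0 →
        L ^ 2 + Q ^ 2 / q = 3 / 4 → L * M' + Q * P / q = 1 / 2 → M' ^ 2 + P ^ 2 / q = 1 →
        False := by
      intro P Q p q _ hQl hPl _ _ ha hb hcc
      have hQ2 : Q = -L := by linear_combination hQl
      have hP2 : P = -M' := by linear_combination hPl
      subst hQ2; subst hP2
      have k1 : L ^ 2 * (1 + 1 / q) = 3 / 4 := by linear_combination ha
      have k2 : L * M' * (1 + 1 / q) = 1 / 2 := by linear_combination hb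
      have k3 : M' ^ 2 * (1 + 1 / q) = 1 := by linear_combination hcc
      have : (1 : ℂ) / 4 = 3 / 4 := by
        linear_combination (M' ^ 2 * (1 + 1 / q)) * k1 + (3 / 4 : ℂ) * k3 -
          (L * M' * (1 + 1 / q) + 1 / 2) * k2
      norm_num at this
    exfalso
    rcases cases1 with h | h | h | h <;> obtain ⟨rfl, rfl, rfl, rfl, rfl, rfl, rfl, rfl⟩ := h <;>
      simp only [Int.cast_one, Int.cast_zero, Int.cast_neg, one_mul, zero_mul, zero_add, add_zero,
        neg_mul, neg_zero] at l1 l1x l1y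
    · exact hXz (by linear_combination l1x)
    · exact hXz (by linear_combination -l1x)
    · rw [dC] at l1
      have dG : (S.hd (S.m6 G) G : ℂ) = -((f : ℂ) + e) := by linear_combination l1
      rw [l1x] at l6x q6a q6b
      rw [l1y] at l6y q6b q6c
      refine fin (S.hy (S.m6 G') G') (S.hx (S.m6 G') G') _ _ dG (by linear_combination l6x)
        (by linear_combination l6y) (by linear_combination l6)
        (hne hG' G') ?_ ?_ ?_
      · simp at q6a; linear_combination q6a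
      · simp at q6b; linear_combination q6b
      · simp at q6c; linear_combination q6c
    · rw [dC] at l1
      have dG : (S.hd (S.m6 G') G' : ℂ) = -((f : ℂ) + e) := by linear_combination l1
      rw [l1x] at l6x q6a q6b
      rw [l1y] at l6y q6b q6c
      refine fin (S.hy (S.m6 G) G) (S.hx (S.m6 G) G) _ _ dG (by linear_combination l6x)
        (by linear_combination l6y) (by linear_combination l6)
        (hne hG G) ?_ ?_ ?_
      · simp at q6a; linear_combination q6a
      · simp at q6b; linear_combination q6b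
      · simp at q6c; linear_combination q6c

/-- The first two vectors have been named. -/
theorem stage3 (A B C D E : ι) (hK : [S.one, A, B, C, D, E].Nodup)
    (v0 : S.m0 A * S.m0 A = 1 ∧ S.m0 B * S.m0 B = 1 ∧ S.m0 C * S.m0 C = 1 ∧
      ∀ i, i ∉ [A, B, C] → S.m0 i = 0)
    (v5 : S.m5 A = S.m0 A ∧ S.m5 B = S.m0 B ∧ S.m5 D * S.m5 D = 1 ∧ S.m5 E * S.m5 E = 1 ∧
      ∀ i, i ∉ [A, B, D, E] → S.m5 i = 0)
    (v3 : S.m3 A = S.m0 A ∧ S.m3 B = 0 ∧ S.m3 C = 0 ∧ S.m3 D = S.m5 D ∧ S.m3 E = 0) :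
    S.Small := by
  obtain ⟨hA, hB, hC, z0⟩ := v0
  obtain ⟨a5, b5, hD, hE, z5⟩ := v5
  obtain ⟨a3, b3, c3, d3, e3⟩ := v3
  obtain ⟨F, hFK, hF, zF⟩ := exists_one_rest hK S.n3 (by
    simp [S.t3, a3, b3, c3, d3, e3, hA, hD])
  have hK7 : [S.one, A, B, C, D, E, F].Nodup := by
    have : (F :: [S.one, A, B, C, D, E]).Perm [S.one, A, B, C, D, E, F] :=
      (List.perm_append_singleton F [S.one, A, B, C, D, E]).symm
    exact this.nodup_iff.mp hFK
  set g := (S.hd (S.m0 A) A : ℂ) + S.hd (S.m0 B) B with hg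
  have hg0 : g ≠ 0 := by
    intro h0
    obtain ⟨l0, -, -⟩ := S.lin S.m0 (by simp)
    have hK0 : [A, B, C].Nodup := by simp at hK ⊢; tauto
    rw [sum_of_support hK0 z0] at l0
    simp only [List.map_cons, List.map_nil, List.sum_cons, List.sum_nil, add_zero] at l0
    have : (S.hd (S.m0 C) C : ℂ) = 0 := by
      simp only [hg, hd] at h0 ⊢
      push_cast at h0 ⊢
      linear_combination l0 - h0
    exact S.hd_ne hC C (by exact_mod_cast this)
  let μ : ℂ := S.x A / S.deg A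
  let ν : ℂ := (S.hy (S.m0 A) A + S.hy (S.m0 B) B) / g
  suffices h : (S.shift μ ν).Small from h
  refine (S.shift μ ν).stage4 A B C D E F (S.m0 A) (S.m0 B) (S.m0 C) (S.m5 D) (S.m5 E) (S.m3 F)
    hA hB hC hD hE hF hK7 ⟨rfl, rfl, rfl, z0⟩ ⟨a5, b5, rfl, rfl, z5⟩
    ⟨a3, d3, rfl, fun i hi => ?_⟩ ?_ ?_
  · show S.m3 i = 0
    by_cases h1 : i ∈ [B, C, E]
    · simp only [List.mem_cons, List.not_mem_nil, or_false] at h1
      rcases h1 with rfl | rfl | rfl <;> assumption
    · refine zF i ?_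
      simp only [List.mem_cons, List.not_mem_nil, or_false, not_or] at hi h1 ⊢
      tauto
  · show (S.m0 A : ℂ) * (S.x A - μ * S.deg A) = 0
    simp only [μ, div_mul_cancel₀ _ (S.deg_ne A), sub_self, mul_zero]
  · show (S.m0 A : ℂ) * (S.y A - ν * S.deg A) + (S.m0 B : ℂ) * (S.y B - ν * S.deg B) = 0
    have hν : ν * g = S.hy (S.m0 A) A + S.hy (S.m0 B) B := div_mul_cancel₀ _ hg0
    simp only [hg, hy, hd] at hν
    push_cast at hν
    linear_combination -hν

/-- The first vector and the pair shared with the fourth have been named. -/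
theorem stage2 (A B C : ι) (hK : [S.one, A, B, C].Nodup)
    (v0 : S.m0 A * S.m0 A = 1 ∧ S.m0 B * S.m0 B = 1 ∧ S.m0 C * S.m0 C = 1 ∧
      ∀ i, i ∉ [A, B, C] → S.m0 i = 0)
    (hA5 : S.m5 A = S.m0 A) (hB5 : S.m5 B = S.m0 B) (hC5 : S.m5 C = 0) : S.Small := by
  obtain ⟨hA, hB, hC, z0⟩ := v0
  obtain ⟨D, E, hDK, hD, hE, zD⟩ := exists_two_rest hK S.n5 (by
    simp [S.t5, hA5, hB5, hC5, hA, hB])
  have hK6 : [S.one, A, B, C, D, E].Nodup := by
    exact (List.perm_append_comm (l₁ := [D, E]) (l₂ := [S.one, A, B, C])).nodup_iff.mp hDK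
  have z5 : ∀ i, i ∉ [A, B, D, E] → S.m5 i = 0 := by
    intro i hi
    by_cases h1 : i ∈ [S.one, C]
    · simp only [List.mem_cons, List.not_mem_nil, or_false] at h1
      rcases h1 with rfl | rfl
      · exact S.t5
      · exact hC5
    · refine zD i ?_
      simp only [List.mem_cons, List.not_mem_nil, or_false, not_or] at hi h1 ⊢
      tauto
  have r3a := sign_mul (m := S.m3) (i := A) hA
  have r3b := sign_mul (m := S.m3) (i := B) hB
  have r3c := sign_mul (m := S.m3) (i := C) hC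
  have r3d := sign_mul (m := S.m3) (i := D) hD
  have r3e := sign_mul (m := S.m3) (i := E) hE
  have hK0 : [A, B, C].Nodup := by simp at hK ⊢; tauto
  have hK5 : [A, B, D, E].Nodup := by simp at hK6 ⊢; tauto
  have k03 := S.d03
  rw [show ∑ i, S.m0 i * S.m3 i = _ by simpa using sum_of_support (R := ℤ) hK0 z0 S.m3] at k03
  have k35 := S.d35
  simp only [mul_comm (S.m3 _)] at k35
  rw [show ∑ i, S.m5 i * S.m3 i = _ by simpa using sum_of_support (R := ℤ) hK5 z5 S.m3] at k35
  simp only [hA5, hB5] at k35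
  have hn := norm_le hK6 S.n3
  simp only [List.map_cons, List.map_nil, List.sum_cons, List.sum_nil, S.t3] at hn
  have sq : ∀ {z ε : ℤ}, ε * ε = 1 → z * z = z * ε * (z * ε) := fun {z ε} h => by
    linear_combination -(z * z) * h
  rw [sq hA (z := S.m3 A), sq hB (z := S.m3 B), sq hC (z := S.m3 C), sq hD (z := S.m3 D),
    sq hE (z := S.m3 E)] at hn
  have hcases := five_cases (S.m3 A * S.m0 A) (S.m3 B * S.m0 B) (S.m3 C * S.m0 C)
    (S.m3 D * S.m5 D) (S.m3 E * S.m5 E) (by linear_combination k03) (by linear_combination k35)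
    (by linarith)
  simp only [List.mem_cons, Prod.mk.injEq, List.not_mem_nil, or_false] at hcases
  obtain ⟨l0, -, -⟩ := S.lin S.m0 (by simp)
  obtain ⟨l5, -, -⟩ := S.lin S.m5 (by simp)
  rw [sum_of_support hK0 z0] at l0
  rw [sum_of_support hK5 z5] at l5
  simp only [List.map_cons, List.map_nil, List.sum_cons, List.sum_nil, add_zero] at l0 l5
  have l3 := (S.lin S.m3 (by simp)).1
  rcases hcases with ⟨ha, hb, hc, hd', he⟩ | ⟨ha, hb, hc, hd', he⟩ | ⟨ha, hb, hc, hd', he⟩ |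
    ⟨ha, hb, hc, hd', he⟩ | ⟨ha, hb, hc, hd', he⟩ | ⟨ha, hb, hc, hd', he⟩ <;>
    rw [ha] at r3a <;> rw [hb] at r3b <;> rw [hc] at r3c <;> rw [hd'] at r3d <;>
    rw [he] at r3e <;> simp only [zero_mul, one_mul] at r3a r3b r3c r3d r3e
  · exfalso
    have z3 := zero_of_rest hK6 S.n3 (by
      simp [S.t3, r3a, r3b, r3c, r3d, r3e, hA, hB, hC])
    rw [sum_of_support hK6 z3] at l3
    simp [S.t3, S.deg_one, r3a, r3b, r3c, r3d, r3e] at l3
    have : (1 : ℂ) - 2 * ((S.m0 C : ℂ) * S.deg C) = 0 := by linear_combination l3 - l0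
    have : (1 : ℤ) - 2 * (S.m0 C * S.deg C) = 0 := by exact_mod_cast this
    omega
  · exfalso
    have z3 := zero_of_rest hK6 S.n3 (by
      simp [S.t3, r3a, r3b, r3c, r3d, r3e, hC, hD, hE])
    rw [sum_of_support hK6 z3] at l3
    simp [S.t3, S.deg_one, r3a, r3b, r3c, r3d, r3e] at l3
    rw [hA5, hB5] at l5
    have : (1 : ℂ) + 2 * ((S.m0 C : ℂ) * S.deg C) = 0 := by linear_combination l3 - l5 + l0
    have : (1 : ℤ) + 2 * (S.m0 C * S.deg C) = 0 := by exact_mod_cast this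
    omega
  · exact S.stage3 A B C D E hK6 ⟨hA, hB, hC, z0⟩ ⟨hA5, hB5, hD, hE, z5⟩
      ⟨r3a, r3b, r3c, r3d, r3e⟩
  · refine S.stage3 A B C E D ?_ ⟨hA, hB, hC, z0⟩ ⟨hA5, hB5, hE, hD, fun i hi => z5 i ?_⟩
      ⟨r3a, r3b, r3c, r3e, r3d⟩
    · exact ((List.Perm.swap E D []).cons C |>.cons B |>.cons A |>.cons S.one).nodup_iff.mp hK6
    · simp only [List.mem_cons, List.not_mem_nil, or_false, not_or] at hi ⊢; tauto
  · refine S.stage3 B A C D E ?_ ⟨hB, hA, hC, fun i hi => z0 i ?_⟩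
      ⟨hB5, hA5, hD, hE, fun i hi => z5 i ?_⟩ ⟨r3b, r3a, r3c, r3d, r3e⟩
    · exact ((List.Perm.swap B A _).cons S.one).nodup_iff.mp hK6
    all_goals simp only [List.mem_cons, List.not_mem_nil, or_false, not_or] at hi ⊢; tauto
  · refine S.stage3 B A C E D ?_ ⟨hB, hA, hC, fun i hi => z0 i ?_⟩
      ⟨hB5, hA5, hE, hD, fun i hi => z5 i ?_⟩ ⟨r3b, r3a, r3c, r3e, r3d⟩
    · exact (((List.Perm.swap B A _).cons S.one).trans
        ((List.Perm.swap E D []).cons C |>.cons A |>.cons B |>.cons S.one)).nodup_iff.mp hK6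
    all_goals simp only [List.mem_cons, List.not_mem_nil, or_false, not_or] at hi ⊢; tauto

/-- One of the two degrees occurs. -/
theorem small : S.Small := by
  obtain ⟨R, hR, hu, hz⟩ := rest_units (r := 3) (List.nodup_singleton S.one) le_rfl S.n0
    (by simp [S.t0])
  obtain ⟨A, B, C, hAB, hAC, hBC, rfl⟩ := Finset.card_eq_three.mp hR
  obtain ⟨hA1, hA⟩ := hu A (by simp)
  obtain ⟨hB1, hB⟩ := hu B (by simp)
  obtain ⟨hC1, hC⟩ := hu C (by simp)
  simp only [List.mem_cons, List.not_mem_nil, or_false] at hA1 hB1 hC1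
  have z0 : ∀ i, i ∉ [A, B, C] → S.m0 i = 0 := by
    intro i hi
    by_cases h1 : i = S.one
    · rw [h1]; exact S.t0
    · refine hz i (by simpa using h1) ?_
      simpa using hi
  have hK : [S.one, A, B, C].Nodup := by
    simp [hAB, hAC, hBC, Ne.symm hA1, Ne.symm hB1, Ne.symm hC1]
  have hK0 : [A, B, C].Nodup := by simp [hAB, hAC, hBC]
  have k05 := S.d05
  rw [show ∑ i, S.m0 i * S.m5 i = _ by simpa using sum_of_support (R := ℤ) hK0 z0 S.m5] at k05
  have hn := norm_le hK0 S.n5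
  simp only [List.map_cons, List.map_nil, List.sum_cons, List.sum_nil] at hn
  have sq : ∀ {z ε : ℤ}, ε * ε = 1 → z * ε * (z * ε) = z * z := fun {z ε} h => by
    linear_combination (z * z) * h
  have hcases := three_cases (S.m5 A * S.m0 A) (S.m5 B * S.m0 B) (S.m5 C * S.m0 C)
    (by linear_combination k05) (by rw [sq hA, sq hB, sq hC]; linarith)
  simp only [List.mem_cons, Prod.mk.injEq, List.not_mem_nil, or_false] at hcases
  have r5a := sign_mul (m := S.m5) (i := A) hA
  have r5b := sign_mul (m := S.m5) (i := B) hB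
  have r5c := sign_mul (m := S.m5) (i := C) hC
  have single : ∀ I, S.m0 I * S.m0 I = 1 → S.m5 I = 2 * S.m0 I → False := by
    intro I hI h2
    have z5 := zero_of_rest (List.nodup_singleton I) S.n5 (by
      simp [h2]; linear_combination 4 * hI)
    have l5 := (S.lin S.m5 (by simp)).1
    rw [sum_of_support (List.nodup_singleton I) z5] at l5
    simp [h2] at l5
    rcases l5 with h | h
    · rw [h] at hI; norm_num at hI
    · exact (S.deg_pos I).ne' h
  rcases hcases with ⟨ha, hb, hc⟩ | ⟨ha, hb, hc⟩ | ⟨ha, hb, hc⟩ | ⟨ha, hb, hc⟩ | ⟨ha, hb, hc⟩ |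
    ⟨ha, hb, hc⟩ <;> rw [ha] at r5a <;> rw [hb] at r5b <;> rw [hc] at r5c <;>
    simp only [zero_mul, one_mul] at r5a r5b r5c
  · exact S.stage2 A B C hK ⟨hA, hB, hC, z0⟩ r5a r5b r5c
  · refine S.stage2 A C B ?_ ⟨hA, hC, hB, fun i hi => z0 i ?_⟩ r5a r5c r5b
    · exact ((List.Perm.swap C B []).cons A |>.cons S.one).nodup_iff.mp hK
    · simp only [List.mem_cons, List.not_mem_nil, or_false, not_or] at hi ⊢; tauto
  · refine S.stage2 B C A ?_ ⟨hB, hC, hA, fun i hi => z0 i ?_⟩ r5b r5c r5a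
    · exact (((List.perm_append_singleton A [B, C]).symm).cons S.one).nodup_iff.mp hK
    · simp only [List.mem_cons, List.not_mem_nil, or_false, not_or] at hi ⊢; tauto
  · exact (single A hA r5a).elim
  · exact (single B hB r5b).elim
  · exact (single C hC r5c).elim

end Sys

end CfsgLib.CubeSFour
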