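import Mathlib

/-!
# The degree equations of the `3³ : S₄` configuration

`Q`, `e` and `g` are sums of signed degrees.  The elimination below leaves one integral solution.
-/

set_option autoImplicit false
set_option maxHeartbeats 4000000
set_option maxRecDepth 10000

namespace CfsgLib.CubeSFour

/-- A member of the eliminated system. -/
def elimA (Q e : ℤ) : ℤ :=
  -Q^7 + 6 * Q^6 * e - 4 * Q^6 - 15 * Q^5 * e^2 + 21 * Q^5 * e - 6 * Q^5 + 20 * Q^4 * e^3
       - 35 * Q^4 * e^2 + 27 * Q^4 * e - 4 * Q^4 - 15 * Q^3 * e^4 + 18 * Q^3 * e^3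
       + 40 * Q^3 * e^2 + 15 * Q^3 * e - Q^3 + 6 * Q^2 * e^5 + 6 * Q^2 * e^4
       - 138 * Q^2 * e^3 + 125 * Q^2 * e^2 + 3 * Q^2 * e - Q * e^6 - 7 * Q * e^5
       + 62 * Q * e^4 - 331 * Q * e^3 + 65 * Q * e^2 + e^6 + 15 * e^5 + 11 * e^4
       - 195 * e^3

/-- A member of the eliminated system. -/
def elimB (Q e : ℤ) : ℤ :=
  -3 * Q^8 + 15 * Q^7 * e - 15 * Q^7 - 30 * Q^6 * e^2 + 102 * Q^6 * e - 30 * Q^6
       + 30 * Q^5 * e^3 - 210 * Q^5 * e^2 + 258 * Q^5 * e - 30 * Q^5 - 15 * Q^4 * e^4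
       + 176 * Q^4 * e^3 - 615 * Q^4 * e^2 + 312 * Q^4 * e - 15 * Q^4 + 3 * Q^3 * e^5
       - 55 * Q^3 * e^4 + 449 * Q^3 * e^3 - 885 * Q^3 * e^2 + 183 * Q^3 * e - 3 * Q^3
       + 2 * Q^2 * e^5 - 51 * Q^2 * e^4 + 690 * Q^2 * e^3 - 615 * Q^2 * e^2 + 42 * Q^2 * e
       - 11 * Q * e^5 + 69 * Q * e^4 + 587 * Q * e^3 - 165 * Q * e^2 + 8 * e^5 + 80 * e^4
       + 200 * e^3

/-- The quintic factor of the resultant. -/
def quintic (Q : ℤ) : ℤ :=
  -18176 * Q^5 - 88960 * Q^4 - 110144 * Q^3 + 5944 * Q^2 + 40721 * Q - 12872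

theorem quintic_ne_zero (Q : ℤ) : quintic Q ≠ 0 := by
  intro h
  have h5 : ∀ x : ZMod 5, (-18176 * x^5 - 88960 * x^4 - 110144 * x^3 + 5944 * x^2 + 40721 * x - 12872 : ZMod 5) ≠ 0 := by decide
  apply h5 (Q : ZMod 5)
  have := congrArg (Int.cast : ℤ → ZMod 5) h
  simp only [quintic] at this
  push_cast at this
  exact this

theorem elim_cases (Q e : ℤ) (hA : elimA Q e = 0) (hB : elimB Q e = 0) :
    Q + 1 = 0 ∨ Q = 0 ∨ e = 0 ∨ Q + 1 + e = 0 ∨ (Q = 2 ∧ e = 1) ∨ (Q = 8 ∧ e = 3) := by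
  have h : (1152 : ℤ) *
      ((Q + 1) ^ 3 * Q ^ 2 * e ^ 3 * (Q - 2) ^ 2 * (Q + 1 + e) ^ 2 * (Q - 8) * quintic Q) = 0 := by
    unfold elimA at hA
    unfold elimB at hB
    unfold quintic
    linear_combination (20938752 * Q^8 * e^3 + 6144 * Q^7 * e^9 - 1244928 * Q^7 * e^8 - 68165568 * Q^7 * e^7
       - 1648750896 * Q^7 * e^6 - 11856193020 * Q^7 * e^5 + 2212216182 * Q^7 * e^4
       + 34125879663 * Q^7 * e^3 - 3913022331 * Q^7 * e^2 - 1024195455 * Q^7 * e
       + 123239529 * Q^7 - 24576 * Q^6 * e^10 + 4939776 * Q^6 * e^9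
       + 253291776 * Q^6 * e^8 + 5358977856 * Q^6 * e^7 + 22043684736 * Q^6 * e^6
       - 109959003864 * Q^6 * e^5 - 68365587726 * Q^6 * e^4 + 198938708370 * Q^6 * e^3
       - 25984427886 * Q^6 * e^2 - 4280489874 * Q^6 * e + 566170020 * Q^6
       + 36864 * Q^5 * e^11 - 7435776 * Q^5 * e^10 - 334895232 * Q^5 * e^9
       - 5619540384 * Q^5 * e^8 + 7209321192 * Q^5 * e^7 + 269450585172 * Q^5 * e^6
       - 351230674752 * Q^5 * e^5 - 618237922284 * Q^5 * e^4 + 487046682378 * Q^5 * e^3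
       - 55639517382 * Q^5 * e^2 - 8045471610 * Q^5 * e + 1032284790 * Q^5
       - 24576 * Q^4 * e^12 + 5019648 * Q^4 * e^11 + 185712384 * Q^4 * e^10
       + 2077024704 * Q^4 * e^9 - 25114827648 * Q^4 * e^8 - 120179753280 * Q^4 * e^7
       + 996202920690 * Q^4 * e^6 - 430383330720 * Q^4 * e^5 - 1852547321808 * Q^4 * e^4
       + 674616206664 * Q^4 * e^3 - 44965019862 * Q^4 * e^2 - 9707789304 * Q^4 * e
       + 932229540 * Q^4 + 6144 * Q^3 * e^13 - 1282816 * Q^3 * e^12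
       - 34585024 * Q^3 * e^11 - 160748208 * Q^3 * e^10 + 6862376052 * Q^3 * e^9
       - 58131262938 * Q^3 * e^8 - 529234933491 * Q^3 * e^7 + 1883278591749 * Q^3 * e^6
       + 433635962796 * Q^3 * e^5 - 2602492224156 * Q^3 * e^4 + 559729287630 * Q^3 * e^3
       + 154351332 * Q^3 * e^2 - 8292505167 * Q^3 * e + 416087145 * Q^3
       + 4096 * Q^2 * e^13 - 909824 * Q^2 * e^12 - 11866752 * Q^2 * e^11
       + 151721184 * Q^2 * e^10 + 2613625080 * Q^2 * e^9 - 172329163020 * Q^2 * e^8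
       - 936940730202 * Q^2 * e^7 + 2410906716288 * Q^2 * e^6 + 1917596887812 * Q^2 * e^5
       - 1878410692674 * Q^2 * e^4 + 242296613028 * Q^2 * e^3 + 21292690806 * Q^2 * e^2
       - 4386252222 * Q^2 * e + 73211904 * Q^2 - 22528 * Q * e^13 + 4463360 * Q * e^12
       + 177372096 * Q * e^11 + 2019972912 * Q * e^10 - 23014328148 * Q * e^9
       - 328852548630 * Q * e^8 - 580890905397 * Q * e^7 + 2076062905215 * Q * e^6
       + 1939888247562 * Q * e^5 - 688597161480 * Q * e^4 + 23485991391 * Q * e^3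
       + 11944424079 * Q * e^2 - 1012359168 * Q * e + 16384 * e^13 - 2967552 * e^12
       - 180691456 * e^11 - 4261158528 * e^10 - 40676303520 * e^9 - 147238898832 * e^8
       - 17966766744 * e^7 + 783951678720 * e^6 + 634614377040 * e^5 - 107805700656 * e^4
       - 11484625752 * e^3 + 2202992640 * e^2) * hA + (-2048 * Q^6 * e^9 + 414976 * Q^6 * e^8 + 22721856 * Q^6 * e^7 + 549583632 * Q^6 * e^6
       + 3952064340 * Q^6 * e^5 - 681568722 * Q^6 * e^4 - 11417908005 * Q^6 * e^3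
       + 1304340777 * Q^6 * e^2 + 341398485 * Q^6 * e - 41079843 * Q^6
       + 10240 * Q^5 * e^10 - 2059520 * Q^5 * e^9 - 107567424 * Q^5 * e^8
       - 2358631440 * Q^5 * e^7 - 11849542884 * Q^5 * e^6 + 33619811526 * Q^5 * e^5
       + 34512189777 * Q^5 * e^4 - 56365297290 * Q^5 * e^3 + 7015736700 * Q^5 * e^2
       + 1126511316 * Q^5 * e - 147643497 * Q^5 - 20480 * Q^4 * e^11
       + 4090368 * Q^4 * e^10 + 203101568 * Q^4 * e^9 + 4039735776 * Q^4 * e^8
       + 13898422872 * Q^4 * e^7 - 66706977168 * Q^4 * e^6 + 51200272584 * Q^4 * e^5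
       + 99951364125 * Q^4 * e^4 - 98612740530 * Q^4 * e^3 + 14200720956 * Q^4 * e^2
       + 1251077778 * Q^4 * e - 196451433 * Q^4 + 20480 * Q^3 * e^12
       - 4045312 * Q^3 * e^11 - 194870912 * Q^3 * e^10 - 3650438944 * Q^3 * e^9
       - 11676091400 * Q^3 * e^8 + 46002835644 * Q^3 * e^7 + 5441810094 * Q^3 * e^6
       + 92275462566 * Q^3 * e^5 + 30251407851 * Q^3 * e^4 - 53533967454 * Q^3 * e^3
       + 10884493746 * Q^3 * e^2 + 557224956 * Q^3 * e - 114291747 * Q^3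
       - 10240 * Q^2 * e^13 + 1980672 * Q^2 * e^12 + 97474624 * Q^2 * e^11
       + 1817804496 * Q^2 * e^10 + 6635993604 * Q^2 * e^9 - 43396415010 * Q^2 * e^8
       - 209934041337 * Q^2 * e^7 + 320275648845 * Q^2 * e^6 + 688224601242 * Q^2 * e^5
       - 135800391627 * Q^2 * e^4 + 1484214606 * Q^2 * e^3 + 2948738220 * Q^2 * e^2
       + 160269417 * Q^2 * e - 24403968 * Q^2 + 2048 * Q * e^14 - 379136 * Q * e^13
       - 21253184 * Q * e^12 - 421138896 * Q * e^11 - 2158587860 * Q * e^10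
       + 11502512286 * Q * e^9 - 10231521759 * Q * e^8 - 594187775964 * Q * e^7
       + 658622865429 * Q * e^6 + 1309063557294 * Q * e^5 - 203561187669 * Q * e^4
       - 10801325808 * Q * e^3 + 2701487331 * Q * e^2 + 69009408 * Q * e - 2048 * e^14
       + 360704 * e^13 + 24572224 * e^12 + 621181200 * e^11 + 6424209252 * e^10
       + 16356047670 * e^9 - 93782748627 * e^8 - 324411390081 * e^7 + 475202566998 * e^6
       + 665959340052 * e^5 - 99858908151 * e^4 - 12177841833 * e^3 + 2147917824 * e^2) * hB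
  simp only [mul_eq_zero, ne_eq, OfNat.ofNat_ne_zero, not_false_eq_true, pow_eq_zero_iff,
    false_or, quintic_ne_zero, or_false] at h
  rcases h with ((((h | h) | h) | h) | h) | h
  · exact Or.inl h
  · exact Or.inr (Or.inl h)
  · exact Or.inr (Or.inr (Or.inl h))
  · obtain rfl : Q = 2 := by omega
    have h1 : (279315941760 : ℤ) * (e - 1) = 0 := by
      unfold elimA at hA
      unfold elimB at hB
      linear_combination (-37051272 * e^3 + 1316419290 * e^2 - 21723006546 * e + 25805150748) * hA + (-2058404 * e^4 + 48433557 * e^3 + 152445699 * e^2 - 1743510024 * e - 2819345292) * hB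
    refine Or.inr (Or.inr (Or.inr (Or.inr (Or.inl ⟨rfl, ?_⟩))))
    omega
  · exact Or.inr (Or.inr (Or.inr (Or.inl h)))
  · obtain rfl : Q = 8 := by omega
    have h1 : (29847100205432438784 : ℤ) * (e - 3) = 0 := by
      unfold elimA at hA
      unfold elimB at hB
      linear_combination (6310200272112 * e^3 - 315842818833432 * e^2 + 5217708121790616 * e - 23107718421832896) * hA + (27885986051 * e^4 - 1138458434162 * e^3 + 17298693837963 * e^2 - 157177042605936 * e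
       + 856828655966016) * hB
    refine Or.inr (Or.inr (Or.inr (Or.inr (Or.inr ⟨rfl, ?_⟩))))
    omega

/-- The only integral solution of the three equations. -/
theorem degrees_eq (Q e g : ℤ) (hQ : Q ≠ 0) (he : e ≠ 0) (hg : g ≠ 0) (hS : Q + 1 + e ≠ 0)
    (hf : g - e ≠ 0)
    (h1 : (4 * e * (Q - g) * (Q + 1) + g * (Q - e) * (Q + 1 + e)) ^ 2 =
      16 * e * g * (Q + 1 - e) * (Q + 1 + e) * (Q - g) * Q)
    (h2 : (4 * ((g - e) * Q ^ 2 + (g - e) * (Q - e) - e ^ 2) + g * (Q - e) * (Q + 1 + e)) ^ 2 =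
      16 * g * (Q + 1 - e) * Q ^ 2 * (Q + 1 + e) * (g - e))
    (h3 : ((Q + 1) * (e * (Q - g) + (g - e) * Q) - 3 * e * g) ^ 2 =
      4 * (Q + 1) ^ 2 * (Q - g) * Q * e * (g - e)) :
    Q = 8 ∧ e = 3 ∧ g = 6 := by
  set a : ℤ := (Q - e) * (Q + 1 + e) + 4 * e * (Q + 1) with ha
  set b : ℤ := 4 * (Q ^ 2 + Q - e) - (Q - e) * (Q + 1 + e) with hb
  set D : ℤ := a - b + 8 * e with hD
  set n : ℤ := (Q + 1) * (a - b) + 4 * e * (Q + 1 + e) with hn
  set w : ℤ := Q * Q + Q - e * Q - 4 * e with hw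
  have hQ1 : Q + 1 ≠ 0 := by
    intro h
    have hQ' : Q = -1 := by omega
    subst hQ'
    norm_num at h3
    rcases h3 with h3 | h3
    · exact he h3
    · exact hg h3
  have hlin : g * (Q + 1 + e) * D = 2 * e * n := by
    have h : (4 * Q * g) * (g * (Q + 1 + e) * D - 2 * e * n) = 0 := by
      rw [hD, hn, ha, hb]
      linear_combination h1 - h2
    exact sub_eq_zero.mp ((mul_eq_zero.mp h).resolve_left
      (mul_ne_zero (mul_ne_zero (by norm_num) hQ) hg))
  have hD0 : D ≠ 0 := by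
    intro h0
    rw [h0, mul_zero] at hlin
    have hn0 : n = 0 := (mul_eq_zero.mp hlin.symm).resolve_left (mul_ne_zero two_ne_zero he)
    have he1 : e * (e - Q - 1) = 0 := by
      have : 4 * (e * (e - Q - 1)) = 0 := by
        rw [hn] at hn0; rw [hD] at h0
        linear_combination hn0 - (Q + 1) * h0
      omega
    have he2 : e = Q + 1 := by
      have := (mul_eq_zero.mp he1).resolve_left he
      omega
    subst he2
    apply hQ1
    rw [hD, ha, hb] at h0
    ring_nf at h0 ⊢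
    omega
  have h3' : g ^ 2 * w ^ 2 - 4 * e * Q * (Q + 1) ^ 2 * (Q - g) * (g - e) = 0 := by
    rw [hw]; linear_combination h3
  have hA : elimA Q e = 0 := by
    have hl2 : g * (4 * (w ^ 2 + 4 * e * Q * (Q + 1) ^ 2) - (a ^ 2 + 16 * e ^ 2 * (Q + 1 + e))) =
        8 * e * Q * (2 * (Q + 1) ^ 2 * (Q + e) - (Q + 1) * a - 2 * e * (Q + 1 + e)) := by
      have h : g * (g * (4 * (w ^ 2 + 4 * e * Q * (Q + 1) ^ 2) -
          (a ^ 2 + 16 * e ^ 2 * (Q + 1 + e))) -
          8 * e * Q * (2 * (Q + 1) ^ 2 * (Q + e) - (Q + 1) * a - 2 * e * (Q + 1 + e))) = 0 := by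
        rw [ha]; rw [hw]
        linear_combination 4 * h3 - h1
      exact sub_eq_zero.mp ((mul_eq_zero.mp h).resolve_left hg)
    have h : (4 * e) * elimA Q e = 0 := by
      unfold elimA
      rw [hD, hn, ha, hb] at hlin
      rw [ha, hw] at hl2
      linear_combination ((4 * ((Q * Q + Q - e * Q - 4 * e) ^ 2 + 4 * e * Q * (Q + 1) ^ 2) -
        (((Q - e) * (Q + 1 + e) + 4 * e * (Q + 1)) ^ 2 + 16 * e ^ 2 * (Q + 1 + e)))) * hlin -
        ((Q + 1 + e) * (((Q - e) * (Q + 1 + e) + 4 * e * (Q + 1)) -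
        (4 * (Q ^ 2 + Q - e) - (Q - e) * (Q + 1 + e)) + 8 * e)) * hl2
    exact (mul_eq_zero.mp h).resolve_left (mul_ne_zero (by norm_num) he)
  have hB : elimB Q e = 0 := by
    have h : (32 * e ^ 3) * elimB Q e = 0 := by
      have h' : (2 * e * n) ^ 2 * w ^ 2 - 4 * e * Q * (Q + 1) ^ 2 *
          (Q * ((Q + 1 + e) * D) - 2 * e * n) * (2 * e * n - e * ((Q + 1 + e) * D)) = 0 := by
        linear_combination ((Q + 1 + e) * D) ^ 2 * h3' - ((g * (Q + 1 + e) * D + 2 * e * n) *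
          (w ^ 2 + 4 * e * Q * (Q + 1) ^ 2) - 4 * e * Q * (Q + 1) ^ 2 * (Q + e) *
          ((Q + 1 + e) * D)) * hlin
      rw [hD, hn, hw, ha, hb] at h'
      unfold elimB
      linear_combination h'
    exact (mul_eq_zero.mp h).resolve_left (mul_ne_zero (by norm_num) (pow_ne_zero 3 he))
  rcases elim_cases Q e hA hB with h | h | h | h | ⟨rfl, rfl⟩ | ⟨rfl, rfl⟩
  · exact absurd h hQ1
  · exact absurd h hQ
  · exact absurd h he
  · exact absurd h hS
  · norm_num [ha, hb, hD, hn] at hlin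
    omega
  · norm_num [ha, hb, hD, hn] at hlin
    exact ⟨rfl, rfl, by omega⟩

end CfsgLib.CubeSFour
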