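import Cfsg.Agent.Lib.Involutions.CubeSFour.Model

/-!
# Facts on `3³ : S₄` checked by computation
-/

set_option autoImplicit false
set_option maxRecDepth 100000

namespace CfsgLib.CubeSFour

/-- The involution inverting two coordinates. -/
def uC : ℕ := 36093248016

/-- The involution exchanging two coordinates. -/
def sC : ℕ := 36089955651

/-- The element of order four. -/
def xC : ℕ := 18581250576

/-- The element of order three permuting the coordinates. -/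
def yC : ℕ := 8867243331

/-- The first coordinate vector. -/
def juC : ℕ := 36344967201

/-- The sum of the first two coordinate vectors. -/
def jsC : ℕ := 36342939681

/-- The words of the elements of `3³`. -/
def JW : List (List ℕ) :=
  (List.range 3).flatMap fun a => (List.range 3).flatMap fun b => (List.range 3).map fun c =>
    (List.replicate a [0]).flatten ++ (List.replicate b [3, 0, 3]).flatten ++
      (List.replicate c [1, 1, 0, 1]).flatten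

theorem JL_words : JL = JW.map wordVal := by decide +kernel

/-- The decompositions of the elements of the group. -/
def KD : List (ℕ × ℕ) :=
  [(18, 26), (18, 17), (18, 8), (9, 14), (9, 23), (9, 5), (9, 17), (9, 26),
   (9, 8), (18, 23), (18, 14), (18, 5), (18, 20), (18, 11), (18, 2), (9, 11),
   (9, 20), (9, 2), (16, 17), (16, 26), (16, 8), (5, 23), (5, 14), (5, 5),
   (5, 26), (5, 17), (5, 8), (16, 14), (16, 23), (16, 5), (16, 11), (16, 20),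
   (16, 2), (5, 20), (5, 11), (5, 2), (20, 16), (20, 25), (20, 7), (11, 22),
   (11, 13), (11, 4), (11, 25), (11, 16), (11, 7), (20, 13), (20, 22), (20, 4),
   (20, 10), (20, 19), (20, 1), (11, 19), (11, 10), (11, 1), (7, 25), (7, 16),
   (7, 7), (1, 13), (1, 22), (1, 4), (1, 16), (1, 25), (1, 7), (7, 22),
   (7, 13), (7, 4), (7, 19), (7, 10), (7, 1), (1, 10), (1, 19), (1, 1),
   (20, 17), (20, 26), (20, 8), (11, 23), (11, 14), (11, 5), (11, 26), (11, 17),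
   (11, 8), (20, 14), (20, 23), (20, 5), (20, 11), (20, 20), (20, 2), (11, 20),
   (11, 11), (11, 2), (7, 26), (7, 17), (7, 8), (1, 14), (1, 23), (1, 5),
   (1, 17), (1, 26), (1, 8), (7, 23), (7, 14), (7, 5), (7, 20), (7, 11),
   (7, 2), (1, 11), (1, 20), (1, 2), (18, 25), (18, 16), (18, 7), (9, 13),
   (9, 22), (9, 4), (9, 16), (9, 25), (9, 7), (18, 22), (18, 13), (18, 4),
   (18, 19), (18, 10), (18, 1), (9, 10), (9, 19), (9, 1), (16, 16), (16, 25),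
   (16, 7), (5, 22), (5, 13), (5, 4), (5, 25), (5, 16), (5, 7), (16, 13),
   (16, 22), (16, 4), (16, 10), (16, 19), (16, 1), (5, 19), (5, 10), (5, 1),
   (18, 24), (18, 15), (18, 6), (9, 12), (9, 21), (9, 3), (9, 15), (9, 24),
   (9, 6), (18, 21), (18, 12), (18, 3), (18, 18), (18, 9), (18, 0), (9, 9),
   (9, 18), (9, 0), (16, 15), (16, 24), (16, 6), (5, 21), (5, 12), (5, 3),
   (5, 24), (5, 15), (5, 6), (16, 12), (16, 21), (16, 3), (16, 9), (16, 18),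
   (16, 0), (5, 18), (5, 9), (5, 0), (20, 15), (20, 24), (20, 6), (11, 21),
   (11, 12), (11, 3), (11, 24), (11, 15), (11, 6), (20, 12), (20, 21), (20, 3),
   (20, 9), (20, 18), (20, 0), (11, 18), (11, 9), (11, 0), (7, 24), (7, 15),
   (7, 6), (1, 12), (1, 21), (1, 3), (1, 15), (1, 24), (1, 6), (7, 21),
   (7, 12), (7, 3), (7, 18), (7, 9), (7, 0), (1, 9), (1, 18), (1, 0),
   (10, 17), (10, 26), (10, 8), (12, 23), (12, 14), (12, 5), (12, 26), (12, 17),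
   (12, 8), (10, 14), (10, 23), (10, 5), (10, 11), (10, 20), (10, 2), (12, 20),
   (12, 11), (12, 2), (13, 26), (13, 17), (13, 8), (19, 14), (19, 23), (19, 5),
   (19, 17), (19, 26), (19, 8), (13, 23), (13, 14), (13, 5), (13, 20), (13, 11),
   (13, 2), (19, 11), (19, 20), (19, 2), (15, 25), (15, 16), (15, 7), (4, 13),
   (4, 22), (4, 4), (4, 16), (4, 25), (4, 7), (15, 22), (15, 13), (15, 4),
   (15, 19), (15, 10), (15, 1), (4, 10), (4, 19), (4, 1), (6, 16), (6, 25),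
   (6, 7), (17, 22), (17, 13), (17, 4), (17, 25), (17, 16), (17, 7), (6, 13),
   (6, 22), (6, 4), (6, 10), (6, 19), (6, 1), (17, 19), (17, 10), (17, 1),
   (15, 26), (15, 17), (15, 8), (4, 14), (4, 23), (4, 5), (4, 17), (4, 26),
   (4, 8), (15, 23), (15, 14), (15, 5), (15, 20), (15, 11), (15, 2), (4, 11),
   (4, 20), (4, 2), (6, 17), (6, 26), (6, 8), (17, 23), (17, 14), (17, 5),
   (17, 26), (17, 17), (17, 8), (6, 14), (6, 23), (6, 5), (6, 11), (6, 20),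
   (6, 2), (17, 20), (17, 11), (17, 2), (10, 16), (10, 25), (10, 7), (12, 22),
   (12, 13), (12, 4), (12, 25), (12, 16), (12, 7), (10, 13), (10, 22), (10, 4),
   (10, 10), (10, 19), (10, 1), (12, 19), (12, 10), (12, 1), (13, 25), (13, 16),
   (13, 7), (19, 13), (19, 22), (19, 4), (19, 16), (19, 25), (19, 7), (13, 22),
   (13, 13), (13, 4), (13, 19), (13, 10), (13, 1), (19, 10), (19, 19), (19, 1),
   (10, 15), (10, 24), (10, 6), (12, 21), (12, 12), (12, 3), (12, 24), (12, 15),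
   (12, 6), (10, 12), (10, 21), (10, 3), (10, 9), (10, 18), (10, 0), (12, 18),
   (12, 9), (12, 0), (13, 24), (13, 15), (13, 6), (19, 12), (19, 21), (19, 3),
   (19, 15), (19, 24), (19, 6), (13, 21), (13, 12), (13, 3), (13, 18), (13, 9),
   (13, 0), (19, 9), (19, 18), (19, 0), (15, 24), (15, 15), (15, 6), (4, 12),
   (4, 21), (4, 3), (4, 15), (4, 24), (4, 6), (15, 21), (15, 12), (15, 3),
   (15, 18), (15, 9), (15, 0), (4, 9), (4, 18), (4, 0), (6, 15), (6, 24),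
   (6, 6), (17, 21), (17, 12), (17, 3), (17, 24), (17, 15), (17, 6), (6, 12),
   (6, 21), (6, 3), (6, 9), (6, 18), (6, 0), (17, 18), (17, 9), (17, 0),
   (8, 26), (8, 17), (8, 8), (3, 14), (3, 23), (3, 5), (3, 17), (3, 26),
   (3, 8), (8, 23), (8, 14), (8, 5), (8, 20), (8, 11), (8, 2), (3, 11),
   (3, 20), (3, 2), (21, 17), (21, 26), (21, 8), (22, 23), (22, 14), (22, 5),
   (22, 26), (22, 17), (22, 8), (21, 14), (21, 23), (21, 5), (21, 11), (21, 20),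
   (21, 2), (22, 20), (22, 11), (22, 2), (14, 16), (14, 25), (14, 7), (23, 22),
   (23, 13), (23, 4), (23, 25), (23, 16), (23, 7), (14, 13), (14, 22), (14, 4),
   (14, 10), (14, 19), (14, 1), (23, 19), (23, 10), (23, 1), (2, 25), (2, 16),
   (2, 7), (0, 13), (0, 22), (0, 4), (0, 16), (0, 25), (0, 7), (2, 22),
   (2, 13), (2, 4), (2, 19), (2, 10), (2, 1), (0, 10), (0, 19), (0, 1),
   (14, 17), (14, 26), (14, 8), (23, 23), (23, 14), (23, 5), (23, 26), (23, 17),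
   (23, 8), (14, 14), (14, 23), (14, 5), (14, 11), (14, 20), (14, 2), (23, 20),
   (23, 11), (23, 2), (2, 26), (2, 17), (2, 8), (0, 14), (0, 23), (0, 5),
   (0, 17), (0, 26), (0, 8), (2, 23), (2, 14), (2, 5), (2, 20), (2, 11),
   (2, 2), (0, 11), (0, 20), (0, 2), (8, 25), (8, 16), (8, 7), (3, 13),
   (3, 22), (3, 4), (3, 16), (3, 25), (3, 7), (8, 22), (8, 13), (8, 4),
   (8, 19), (8, 10), (8, 1), (3, 10), (3, 19), (3, 1), (21, 16), (21, 25),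
   (21, 7), (22, 22), (22, 13), (22, 4), (22, 25), (22, 16), (22, 7), (21, 13),
   (21, 22), (21, 4), (21, 10), (21, 19), (21, 1), (22, 19), (22, 10), (22, 1),
   (8, 24), (8, 15), (8, 6), (3, 12), (3, 21), (3, 3), (3, 15), (3, 24),
   (3, 6), (8, 21), (8, 12), (8, 3), (8, 18), (8, 9), (8, 0), (3, 9),
   (3, 18), (3, 0), (21, 15), (21, 24), (21, 6), (22, 21), (22, 12), (22, 3),
   (22, 24), (22, 15), (22, 6), (21, 12), (21, 21), (21, 3), (21, 9), (21, 18),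
   (21, 0), (22, 18), (22, 9), (22, 0), (14, 15), (14, 24), (14, 6), (23, 21),
   (23, 12), (23, 3), (23, 24), (23, 15), (23, 6), (14, 12), (14, 21), (14, 3),
   (14, 9), (14, 18), (14, 0), (23, 18), (23, 9), (23, 0), (2, 24), (2, 15),
   (2, 6), (0, 12), (0, 21), (0, 3), (0, 15), (0, 24), (0, 6), (2, 21),
   (2, 12), (2, 3), (2, 18), (2, 9), (2, 0), (0, 9), (0, 18), (0, 0)]

theorem KL_decomp : (KL == KD.map fun p => comp (QL.getD p.1 idc) (JL.getD p.2 idc)) = true ∧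
    KD.all (fun p => decide (p.1 < 24) && decide (p.2 < 27)) = true := by decide +kernel

theorem KL_inv : KL.all (fun a => comp a (cinv a) == idc && inK (cinv a)) = true := by
  decide +kernel

theorem KL_pow : KL.all (fun a => cpow a 36 == idc) = true := by decide +kernel

/-- The conjugators for the computation of the core. -/
def coreConj : List ℕ := [36344967201, 8867243331, 36344906241, 36089955651, 22601074806, 36089894196]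

theorem coreConj_mem : coreConj.all inK = true := by decide +kernel

theorem core_ok : KL.all (fun a => !(cpow a 9 == idc) || inJ a ||
    coreConj.any fun g => !(cpow (comp a (cconj g a)) 9 == idc)) = true := by decide +kernel

theorem JL_normal : (JL.all fun j => inK j && cpow j 3 == idc && gens.all fun g =>
    inJ (cconj g j) && inJ (cconj (cinv g) j)) = true := by decide +kernel

theorem JL_mul : (JL.all fun j => JL.all fun k => inJ (comp j k)) = true := by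
  decide +kernel

/-- The conjugators writing the generators as products of conjugates of `sC`. -/
def sWords : List (List ℕ) :=
  [[8867243331, 562521411], [27787604496, 309880131], [27788526096, 28040245776], [36344967696]]

theorem sWords_ok :
    (gens == sWords.map fun l => (l.map fun h => cconj h sC).foldr comp idc) = true ∧
    sWords.all (fun l => l.all inK) = true := by decide +kernel

/-- Some power is a nontrivial element of `3³`. -/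
def isD (a : ℕ) : Bool :=
  [1, 2, 3, 4].any fun k => !(cpow a k == idc) && inJ (cpow a k)

/-- The number of fixed points. -/
def nfix (a : ℕ) : ℕ := ((List.range 9).filter fun i => nib a i == i).length

/-- The class of `uC`. -/
def isU (a : ℕ) : Bool := comp a a == idc && nfix a == 5

/-- The class of `sC`. -/
def isS (a : ℕ) : Bool := comp a a == idc && nfix a == 1

theorem involution_classes : KL.all (fun a => !(comp a a == idc) || a == idc ||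
    (isU a && KL.any fun h => cconj h uC == a) || (isS a && KL.any fun h => cconj h sC == a))
    = true := by decide +kernel

theorem classes_conj : KL.all (fun h => isU (cconj h uC) && isS (cconj h sC)) = true := by
  decide +kernel

theorem us_mem : (inK uC && isU uC && inK sC && isS sC && inJ juC && inJ jsC &&
    !(juC == idc) && !(jsC == idc) && comp uC juC == comp juC uC && comp sC jsC == comp jsC sC &&
    cpow juC 3 == idc && cpow jsC 3 == idc) = true := by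
  decide +kernel

theorem cent_u : KL.all (fun a => !(comp a uC == comp uC a && comp a juC == comp juC a) ||
    !(cpow a 9 == idc) || (List.range 3).any fun k => cpow juC k == a) = true := by
  decide +kernel

theorem cent_s : KL.all (fun a => !(comp a sC == comp sC a && comp a jsC == comp jsC a) ||
    !(cpow a 9 == idc) || (List.range 3).any fun k => cpow jsC k == a) = true := by
  decide +kernel

/-- Numbers `a + b ω + i (c + d ω)`. -/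
structure Z12 where
  a : ℤ
  b : ℤ
  c : ℤ
  d : ℤ

namespace Z12

/-- Zero. -/
def zero : Z12 := ⟨0, 0, 0, 0⟩

/-- An integer. -/
def int (n : ℤ) : Z12 := ⟨n, 0, 0, 0⟩

/-- The imaginary unit. -/
def I : Z12 := ⟨0, 0, 1, 0⟩

/-- The inverse of the imaginary unit. -/
def negI : Z12 := ⟨0, 0, -1, 0⟩

/-- The cube root of unity. -/
def w : Z12 := ⟨0, 1, 0, 0⟩

/-- Sum. -/
def add (x y : Z12) : Z12 := ⟨x.a + y.a, x.b + y.b, x.c + y.c, x.d + y.d⟩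

/-- Difference. -/
def sub (x y : Z12) : Z12 := ⟨x.a - y.a, x.b - y.b, x.c - y.c, x.d - y.d⟩

/-- Product. -/
def mul (x y : Z12) : Z12 :=
  ⟨x.a * y.a - x.b * y.b - (x.c * y.c - x.d * y.d),
    x.a * y.b + x.b * y.a - x.b * y.b - (x.c * y.d + x.d * y.c - x.d * y.d),
    x.a * y.c - x.b * y.d + (x.c * y.a - x.d * y.b),
    x.a * y.d + x.b * y.c - x.b * y.d + (x.c * y.b + x.d * y.a - x.d * y.b)⟩

/-- Complex conjugate. -/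
def conj (x : Z12) : Z12 := ⟨x.a - x.b, -x.b, -(x.c - x.d), x.d⟩

/-- Powers. -/
def pow (x : Z12) : ℕ → Z12
  | 0 => int 1
  | n + 1 => mul x (pow x n)

/-- Boolean equality. -/
def beq (x y : Z12) : Bool := x.a == y.a && x.b == y.b && x.c == y.c && x.d == y.d

/-- Sum of a list. -/
def sum : List Z12 → Z12
  | [] => zero
  | x :: r => add x (sum r)

end Z12

/-- Search trees of values. -/
inductive VT where
  | leaf : VT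
  | node : VT → ℕ → Z12 → VT → VT

/-- The list of a tree. -/
def VT.toList : VT → List (ℕ × Z12)
  | .leaf => []
  | .node l k v r => l.toList ++ (k, v) :: r.toList

/-- Search. -/
def VT.find : VT → ℕ → Option Z12
  | .leaf, _ => none
  | .node l k v r, a => if a < k then l.find a else if k < a then r.find a else some v

theorem VT.mem_of_find : ∀ (t : VT) {a : ℕ} {z : Z12}, t.find a = some z → (a, z) ∈ t.toList
  | .leaf, _, _, h => by simp [VT.find] at h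
  | .node l k v r, a, z, h => by
    simp only [VT.find] at h
    simp only [VT.toList, List.mem_append, List.mem_cons]
    split_ifs at h with h1 h2
    · exact Or.inl (l.mem_of_find h)
    · exact Or.inr (Or.inr (r.mem_of_find h))
    · obtain rfl : a = k := by omega
      exact Or.inr (Or.inl (by cases h; rfl))

/-- Lookup. -/
def look (T : VT) (a : ℕ) : Z12 := (T.find a).getD Z12.zero

/-- A table is a homomorphism on the subgroup generated by `3³` and `g`. -/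
def homOK (g : ℕ) (T : VT) : Bool :=
  (look T idc).beq (Z12.int 1) && [JL.getD 9 idc, JL.getD 3 idc, JL.getD 1 idc, g].all fun h =>
    (T.find h).isSome && T.toList.all fun p =>
      (T.find (comp h p.1)).isSome &&
        (look T (comp h p.1)).beq ((look T h).mul p.2) && inK p.1 &&
        (look T p.1).beq p.2

/-- The five inducing differences. -/
inductive Idx where
  | a | b | c | d | e

/-- The element extending `3³`. -/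
def Idx.gen : Idx → ℕ
  | .a => xC
  | .b => xC
  | .c => xC
  | .d => yC
  | .e => sC

/-- The order of the subgroup. -/
def Idx.ord : Idx → ℕ
  | .a => 108
  | .b => 108
  | .c => 108
  | .d => 81
  | .e => 54

/-- The character with positive sign. -/
def Idx.pos : Idx → VT
  | .a => (.node
    (.node
    (.node
    (.node
    (.node
    (.node (.node .leaf 14049374241 ⟨0, 0, 1, 0⟩ .leaf) 14049374466 ⟨0, 0, 1, 0⟩ (.node .leaf 14049374736 ⟨0, 0, 1, 0⟩ .leaf))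
    14050295841 ⟨0, 0, 1, 0⟩
    (.node (.node .leaf 14050296066 ⟨0, 0, 1, 0⟩ .leaf) 14050296336 ⟨0, 0, 1, 0⟩ .leaf))
    14051401761 ⟨0, 0, 1, 0⟩
    (.node
    (.node (.node .leaf 14051401986 ⟨0, 0, 1, 0⟩ .leaf) 14051402256 ⟨0, 0, 1, 0⟩ (.node .leaf 14300971041 ⟨0, 0, -1, 0⟩ .leaf))
    14300971266 ⟨0, 0, -1, 0⟩
    (.node (.node .leaf 14300971536 ⟨0, 0, -1, 0⟩ .leaf) 14302076961 ⟨0, 0, -1, 0⟩ .leaf)))
    14302077186 ⟨0, 0, -1, 0⟩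
    (.node
    (.node
    (.node (.node .leaf 14302077456 ⟨0, 0, -1, 0⟩ .leaf) 14302998561 ⟨0, 0, -1, 0⟩ (.node .leaf 14302998786 ⟨0, 0, -1, 0⟩ .leaf))
    14302999056 ⟨0, 0, -1, 0⟩
    (.node (.node .leaf 18075844641 ⟨0, 0, -1, 0⟩ .leaf) 18075844866 ⟨0, 0, -1, 0⟩ .leaf))
    18075845136 ⟨0, 0, -1, 0⟩
    (.node
    (.node (.node .leaf 18076950561 ⟨0, 0, -1, 0⟩ .leaf) 18076950786 ⟨0, 0, -1, 0⟩ (.node .leaf 18076951056 ⟨0, 0, -1, 0⟩ .leaf))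
    18077872161 ⟨0, 0, -1, 0⟩
    (.node (.node .leaf 18077872386 ⟨0, 0, -1, 0⟩ .leaf) 18077872656 ⟨0, 0, -1, 0⟩ .leaf))))
    18579222561 ⟨0, 0, 1, 0⟩
    (.node
    (.node
    (.node
    (.node (.node .leaf 18579222786 ⟨0, 0, 1, 0⟩ .leaf) 18579223056 ⟨0, 0, 1, 0⟩ (.node .leaf 18580144161 ⟨0, 0, 1, 0⟩ .leaf))
    18580144386 ⟨0, 0, 1, 0⟩
    (.node (.node .leaf 18580144656 ⟨0, 0, 1, 0⟩ .leaf) 18581250081 ⟨0, 0, 1, 0⟩ .leaf))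
    18581250306 ⟨0, 0, 1, 0⟩
    (.node
    (.node (.node .leaf 18581250576 ⟨0, 0, 1, 0⟩ .leaf) 22354096161 ⟨0, 0, 1, 0⟩ (.node .leaf 22354096386 ⟨0, 0, 1, 0⟩ .leaf))
    22354096656 ⟨0, 0, 1, 0⟩
    (.node (.node .leaf 22355017761 ⟨0, 0, 1, 0⟩ .leaf) 22355017986 ⟨0, 0, 1, 0⟩ .leaf)))
    22355018256 ⟨0, 0, 1, 0⟩
    (.node
    (.node
    (.node (.node .leaf 22356123681 ⟨0, 0, 1, 0⟩ .leaf) 22356123906 ⟨0, 0, 1, 0⟩ (.node .leaf 22356124176 ⟨0, 0, 1, 0⟩ .leaf))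
    22605692961 ⟨0, 0, -1, 0⟩
    (.node (.node .leaf 22605693186 ⟨0, 0, -1, 0⟩ .leaf) 22605693456 ⟨0, 0, -1, 0⟩ .leaf))
    22606798881 ⟨0, 0, -1, 0⟩
    (.node
    (.node (.node .leaf 22606799106 ⟨0, 0, -1, 0⟩ .leaf) 22606799376 ⟨0, 0, -1, 0⟩ .leaf)
    22607720481 ⟨0, 0, -1, 0⟩
    (.node (.node .leaf 22607720706 ⟨0, 0, -1, 0⟩ .leaf) 22607720976 ⟨0, 0, -1, 0⟩ .leaf)))))
    27786498081 ⟨-1, 0, 0, 0⟩
    (.node
    (.node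
    (.node
    (.node
    (.node (.node .leaf 27786498306 ⟨-1, 0, 0, 0⟩ .leaf) 27786498576 ⟨-1, 0, 0, 0⟩ (.node .leaf 27787604001 ⟨-1, 0, 0, 0⟩ .leaf))
    27787604226 ⟨-1, 0, 0, 0⟩
    (.node (.node .leaf 27787604496 ⟨-1, 0, 0, 0⟩ .leaf) 27788525601 ⟨-1, 0, 0, 0⟩ .leaf))
    27788525826 ⟨-1, 0, 0, 0⟩
    (.node
    (.node (.node .leaf 27788526096 ⟨-1, 0, 0, 0⟩ .leaf) 28038217761 ⟨1, 0, 0, 0⟩ (.node .leaf 28038217986 ⟨1, 0, 0, 0⟩ .leaf))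
    28038218256 ⟨1, 0, 0, 0⟩
    (.node (.node .leaf 28039139361 ⟨1, 0, 0, 0⟩ .leaf) 28039139586 ⟨1, 0, 0, 0⟩ .leaf)))
    28039139856 ⟨1, 0, 0, 0⟩
    (.node
    (.node
    (.node (.node .leaf 28040245281 ⟨1, 0, 0, 0⟩ .leaf) 28040245506 ⟨1, 0, 0, 0⟩ (.node .leaf 28040245776 ⟨1, 0, 0, 0⟩ .leaf))
    31813091361 ⟨1, 0, 0, 0⟩
    (.node (.node .leaf 31813091586 ⟨1, 0, 0, 0⟩ .leaf) 31813091856 ⟨1, 0, 0, 0⟩ .leaf))
    31814012961 ⟨1, 0, 0, 0⟩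
    (.node
    (.node (.node .leaf 31814013186 ⟨1, 0, 0, 0⟩ .leaf) 31814013456 ⟨1, 0, 0, 0⟩ .leaf)
    31815118881 ⟨1, 0, 0, 0⟩
    (.node (.node .leaf 31815119106 ⟨1, 0, 0, 0⟩ .leaf) 31815119376 ⟨1, 0, 0, 0⟩ .leaf))))
    32316346401 ⟨-1, 0, 0, 0⟩
    (.node
    (.node
    (.node
    (.node (.node .leaf 32316346626 ⟨-1, 0, 0, 0⟩ .leaf) 32316346896 ⟨-1, 0, 0, 0⟩ (.node .leaf 32317452321 ⟨-1, 0, 0, 0⟩ .leaf))
    32317452546 ⟨-1, 0, 0, 0⟩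
    (.node (.node .leaf 32317452816 ⟨-1, 0, 0, 0⟩ .leaf) 32318373921 ⟨-1, 0, 0, 0⟩ .leaf))
    32318374146 ⟨-1, 0, 0, 0⟩
    (.node
    (.node (.node .leaf 32318374416 ⟨-1, 0, 0, 0⟩ .leaf) 36091220001 ⟨-1, 0, 0, 0⟩ (.node .leaf 36091220226 ⟨-1, 0, 0, 0⟩ .leaf))
    36091220496 ⟨-1, 0, 0, 0⟩
    (.node (.node .leaf 36092325921 ⟨-1, 0, 0, 0⟩ .leaf) 36092326146 ⟨-1, 0, 0, 0⟩ .leaf)))
    36092326416 ⟨-1, 0, 0, 0⟩
    (.node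
    (.node
    (.node (.node .leaf 36093247521 ⟨-1, 0, 0, 0⟩ .leaf) 36093247746 ⟨-1, 0, 0, 0⟩ (.node .leaf 36093248016 ⟨-1, 0, 0, 0⟩ .leaf))
    36342939681 ⟨1, 0, 0, 0⟩
    (.node (.node .leaf 36342939906 ⟨1, 0, 0, 0⟩ .leaf) 36342940176 ⟨1, 0, 0, 0⟩ .leaf))
    36343861281 ⟨1, 0, 0, 0⟩
    (.node
    (.node (.node .leaf 36343861506 ⟨1, 0, 0, 0⟩ .leaf) 36343861776 ⟨1, 0, 0, 0⟩ .leaf)
    36344967201 ⟨1, 0, 0, 0⟩
    (.node (.node .leaf 36344967426 ⟨1, 0, 0, 0⟩ .leaf) 36344967696 ⟨1, 0, 0, 0⟩ .leaf))))))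
  | .b => (.node
    (.node
    (.node
    (.node
    (.node
    (.node (.node .leaf 14049374241 ⟨0, 0, -1, 0⟩ .leaf) 14049374466 ⟨0, 0, -1, 0⟩ (.node .leaf 14049374736 ⟨0, 0, -1, 0⟩ .leaf))
    14050295841 ⟨0, 0, -1, 0⟩
    (.node (.node .leaf 14050296066 ⟨0, 0, -1, 0⟩ .leaf) 14050296336 ⟨0, 0, -1, 0⟩ .leaf))
    14051401761 ⟨0, 0, -1, 0⟩
    (.node
    (.node (.node .leaf 14051401986 ⟨0, 0, -1, 0⟩ .leaf) 14051402256 ⟨0, 0, -1, 0⟩ (.node .leaf 14300971041 ⟨0, 0, 1, 0⟩ .leaf))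
    14300971266 ⟨0, 0, 1, 0⟩
    (.node (.node .leaf 14300971536 ⟨0, 0, 1, 0⟩ .leaf) 14302076961 ⟨0, 0, 1, 0⟩ .leaf)))
    14302077186 ⟨0, 0, 1, 0⟩
    (.node
    (.node
    (.node (.node .leaf 14302077456 ⟨0, 0, 1, 0⟩ .leaf) 14302998561 ⟨0, 0, 1, 0⟩ (.node .leaf 14302998786 ⟨0, 0, 1, 0⟩ .leaf))
    14302999056 ⟨0, 0, 1, 0⟩
    (.node (.node .leaf 18075844641 ⟨0, 0, 1, 0⟩ .leaf) 18075844866 ⟨0, 0, 1, 0⟩ .leaf))
    18075845136 ⟨0, 0, 1, 0⟩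
    (.node
    (.node (.node .leaf 18076950561 ⟨0, 0, 1, 0⟩ .leaf) 18076950786 ⟨0, 0, 1, 0⟩ (.node .leaf 18076951056 ⟨0, 0, 1, 0⟩ .leaf))
    18077872161 ⟨0, 0, 1, 0⟩
    (.node (.node .leaf 18077872386 ⟨0, 0, 1, 0⟩ .leaf) 18077872656 ⟨0, 0, 1, 0⟩ .leaf))))
    18579222561 ⟨0, 0, -1, 0⟩
    (.node
    (.node
    (.node
    (.node (.node .leaf 18579222786 ⟨0, 0, -1, 0⟩ .leaf) 18579223056 ⟨0, 0, -1, 0⟩ (.node .leaf 18580144161 ⟨0, 0, -1, 0⟩ .leaf))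
    18580144386 ⟨0, 0, -1, 0⟩
    (.node (.node .leaf 18580144656 ⟨0, 0, -1, 0⟩ .leaf) 18581250081 ⟨0, 0, -1, 0⟩ .leaf))
    18581250306 ⟨0, 0, -1, 0⟩
    (.node
    (.node (.node .leaf 18581250576 ⟨0, 0, -1, 0⟩ .leaf) 22354096161 ⟨0, 0, -1, 0⟩ (.node .leaf 22354096386 ⟨0, 0, -1, 0⟩ .leaf))
    22354096656 ⟨0, 0, -1, 0⟩
    (.node (.node .leaf 22355017761 ⟨0, 0, -1, 0⟩ .leaf) 22355017986 ⟨0, 0, -1, 0⟩ .leaf)))
    22355018256 ⟨0, 0, -1, 0⟩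
    (.node
    (.node
    (.node (.node .leaf 22356123681 ⟨0, 0, -1, 0⟩ .leaf) 22356123906 ⟨0, 0, -1, 0⟩ (.node .leaf 22356124176 ⟨0, 0, -1, 0⟩ .leaf))
    22605692961 ⟨0, 0, 1, 0⟩
    (.node (.node .leaf 22605693186 ⟨0, 0, 1, 0⟩ .leaf) 22605693456 ⟨0, 0, 1, 0⟩ .leaf))
    22606798881 ⟨0, 0, 1, 0⟩
    (.node
    (.node (.node .leaf 22606799106 ⟨0, 0, 1, 0⟩ .leaf) 22606799376 ⟨0, 0, 1, 0⟩ .leaf)
    22607720481 ⟨0, 0, 1, 0⟩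
    (.node (.node .leaf 22607720706 ⟨0, 0, 1, 0⟩ .leaf) 22607720976 ⟨0, 0, 1, 0⟩ .leaf)))))
    27786498081 ⟨-1, 0, 0, 0⟩
    (.node
    (.node
    (.node
    (.node
    (.node (.node .leaf 27786498306 ⟨-1, 0, 0, 0⟩ .leaf) 27786498576 ⟨-1, 0, 0, 0⟩ (.node .leaf 27787604001 ⟨-1, 0, 0, 0⟩ .leaf))
    27787604226 ⟨-1, 0, 0, 0⟩
    (.node (.node .leaf 27787604496 ⟨-1, 0, 0, 0⟩ .leaf) 27788525601 ⟨-1, 0, 0, 0⟩ .leaf))
    27788525826 ⟨-1, 0, 0, 0⟩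
    (.node
    (.node (.node .leaf 27788526096 ⟨-1, 0, 0, 0⟩ .leaf) 28038217761 ⟨1, 0, 0, 0⟩ (.node .leaf 28038217986 ⟨1, 0, 0, 0⟩ .leaf))
    28038218256 ⟨1, 0, 0, 0⟩
    (.node (.node .leaf 28039139361 ⟨1, 0, 0, 0⟩ .leaf) 28039139586 ⟨1, 0, 0, 0⟩ .leaf)))
    28039139856 ⟨1, 0, 0, 0⟩
    (.node
    (.node
    (.node (.node .leaf 28040245281 ⟨1, 0, 0, 0⟩ .leaf) 28040245506 ⟨1, 0, 0, 0⟩ (.node .leaf 28040245776 ⟨1, 0, 0, 0⟩ .leaf))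
    31813091361 ⟨1, 0, 0, 0⟩
    (.node (.node .leaf 31813091586 ⟨1, 0, 0, 0⟩ .leaf) 31813091856 ⟨1, 0, 0, 0⟩ .leaf))
    31814012961 ⟨1, 0, 0, 0⟩
    (.node
    (.node (.node .leaf 31814013186 ⟨1, 0, 0, 0⟩ .leaf) 31814013456 ⟨1, 0, 0, 0⟩ .leaf)
    31815118881 ⟨1, 0, 0, 0⟩
    (.node (.node .leaf 31815119106 ⟨1, 0, 0, 0⟩ .leaf) 31815119376 ⟨1, 0, 0, 0⟩ .leaf))))
    32316346401 ⟨-1, 0, 0, 0⟩
    (.node
    (.node
    (.node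
    (.node (.node .leaf 32316346626 ⟨-1, 0, 0, 0⟩ .leaf) 32316346896 ⟨-1, 0, 0, 0⟩ (.node .leaf 32317452321 ⟨-1, 0, 0, 0⟩ .leaf))
    32317452546 ⟨-1, 0, 0, 0⟩
    (.node (.node .leaf 32317452816 ⟨-1, 0, 0, 0⟩ .leaf) 32318373921 ⟨-1, 0, 0, 0⟩ .leaf))
    32318374146 ⟨-1, 0, 0, 0⟩
    (.node
    (.node (.node .leaf 32318374416 ⟨-1, 0, 0, 0⟩ .leaf) 36091220001 ⟨-1, 0, 0, 0⟩ (.node .leaf 36091220226 ⟨-1, 0, 0, 0⟩ .leaf))
    36091220496 ⟨-1, 0, 0, 0⟩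
    (.node (.node .leaf 36092325921 ⟨-1, 0, 0, 0⟩ .leaf) 36092326146 ⟨-1, 0, 0, 0⟩ .leaf)))
    36092326416 ⟨-1, 0, 0, 0⟩
    (.node
    (.node
    (.node (.node .leaf 36093247521 ⟨-1, 0, 0, 0⟩ .leaf) 36093247746 ⟨-1, 0, 0, 0⟩ (.node .leaf 36093248016 ⟨-1, 0, 0, 0⟩ .leaf))
    36342939681 ⟨1, 0, 0, 0⟩
    (.node (.node .leaf 36342939906 ⟨1, 0, 0, 0⟩ .leaf) 36342940176 ⟨1, 0, 0, 0⟩ .leaf))
    36343861281 ⟨1, 0, 0, 0⟩
    (.node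
    (.node (.node .leaf 36343861506 ⟨1, 0, 0, 0⟩ .leaf) 36343861776 ⟨1, 0, 0, 0⟩ .leaf)
    36344967201 ⟨1, 0, 0, 0⟩
    (.node (.node .leaf 36344967426 ⟨1, 0, 0, 0⟩ .leaf) 36344967696 ⟨1, 0, 0, 0⟩ .leaf))))))
  | .c => (.node
    (.node
    (.node
    (.node
    (.node
    (.node (.node .leaf 14049374241 ⟨1, 0, 0, 0⟩ .leaf) 14049374466 ⟨1, 0, 0, 0⟩ (.node .leaf 14049374736 ⟨1, 0, 0, 0⟩ .leaf))
    14050295841 ⟨1, 0, 0, 0⟩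
    (.node (.node .leaf 14050296066 ⟨1, 0, 0, 0⟩ .leaf) 14050296336 ⟨1, 0, 0, 0⟩ .leaf))
    14051401761 ⟨1, 0, 0, 0⟩
    (.node
    (.node (.node .leaf 14051401986 ⟨1, 0, 0, 0⟩ .leaf) 14051402256 ⟨1, 0, 0, 0⟩ (.node .leaf 14300971041 ⟨1, 0, 0, 0⟩ .leaf))
    14300971266 ⟨1, 0, 0, 0⟩
    (.node (.node .leaf 14300971536 ⟨1, 0, 0, 0⟩ .leaf) 14302076961 ⟨1, 0, 0, 0⟩ .leaf)))
    14302077186 ⟨1, 0, 0, 0⟩
    (.node
    (.node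
    (.node (.node .leaf 14302077456 ⟨1, 0, 0, 0⟩ .leaf) 14302998561 ⟨1, 0, 0, 0⟩ (.node .leaf 14302998786 ⟨1, 0, 0, 0⟩ .leaf))
    14302999056 ⟨1, 0, 0, 0⟩
    (.node (.node .leaf 18075844641 ⟨1, 0, 0, 0⟩ .leaf) 18075844866 ⟨1, 0, 0, 0⟩ .leaf))
    18075845136 ⟨1, 0, 0, 0⟩
    (.node
    (.node (.node .leaf 18076950561 ⟨1, 0, 0, 0⟩ .leaf) 18076950786 ⟨1, 0, 0, 0⟩ (.node .leaf 18076951056 ⟨1, 0, 0, 0⟩ .leaf))
    18077872161 ⟨1, 0, 0, 0⟩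
    (.node (.node .leaf 18077872386 ⟨1, 0, 0, 0⟩ .leaf) 18077872656 ⟨1, 0, 0, 0⟩ .leaf))))
    18579222561 ⟨1, 0, 0, 0⟩
    (.node
    (.node
    (.node
    (.node (.node .leaf 18579222786 ⟨1, 0, 0, 0⟩ .leaf) 18579223056 ⟨1, 0, 0, 0⟩ (.node .leaf 18580144161 ⟨1, 0, 0, 0⟩ .leaf))
    18580144386 ⟨1, 0, 0, 0⟩
    (.node (.node .leaf 18580144656 ⟨1, 0, 0, 0⟩ .leaf) 18581250081 ⟨1, 0, 0, 0⟩ .leaf))
    18581250306 ⟨1, 0, 0, 0⟩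
    (.node
    (.node (.node .leaf 18581250576 ⟨1, 0, 0, 0⟩ .leaf) 22354096161 ⟨1, 0, 0, 0⟩ (.node .leaf 22354096386 ⟨1, 0, 0, 0⟩ .leaf))
    22354096656 ⟨1, 0, 0, 0⟩
    (.node (.node .leaf 22355017761 ⟨1, 0, 0, 0⟩ .leaf) 22355017986 ⟨1, 0, 0, 0⟩ .leaf)))
    22355018256 ⟨1, 0, 0, 0⟩
    (.node
    (.node
    (.node (.node .leaf 22356123681 ⟨1, 0, 0, 0⟩ .leaf) 22356123906 ⟨1, 0, 0, 0⟩ (.node .leaf 22356124176 ⟨1, 0, 0, 0⟩ .leaf))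
    22605692961 ⟨1, 0, 0, 0⟩
    (.node (.node .leaf 22605693186 ⟨1, 0, 0, 0⟩ .leaf) 22605693456 ⟨1, 0, 0, 0⟩ .leaf))
    22606798881 ⟨1, 0, 0, 0⟩
    (.node
    (.node (.node .leaf 22606799106 ⟨1, 0, 0, 0⟩ .leaf) 22606799376 ⟨1, 0, 0, 0⟩ .leaf)
    22607720481 ⟨1, 0, 0, 0⟩
    (.node (.node .leaf 22607720706 ⟨1, 0, 0, 0⟩ .leaf) 22607720976 ⟨1, 0, 0, 0⟩ .leaf)))))
    27786498081 ⟨1, 0, 0, 0⟩
    (.node
    (.node
    (.node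
    (.node
    (.node (.node .leaf 27786498306 ⟨1, 0, 0, 0⟩ .leaf) 27786498576 ⟨1, 0, 0, 0⟩ (.node .leaf 27787604001 ⟨1, 0, 0, 0⟩ .leaf))
    27787604226 ⟨1, 0, 0, 0⟩
    (.node (.node .leaf 27787604496 ⟨1, 0, 0, 0⟩ .leaf) 27788525601 ⟨1, 0, 0, 0⟩ .leaf))
    27788525826 ⟨1, 0, 0, 0⟩
    (.node
    (.node (.node .leaf 27788526096 ⟨1, 0, 0, 0⟩ .leaf) 28038217761 ⟨1, 0, 0, 0⟩ (.node .leaf 28038217986 ⟨1, 0, 0, 0⟩ .leaf))
    28038218256 ⟨1, 0, 0, 0⟩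
    (.node (.node .leaf 28039139361 ⟨1, 0, 0, 0⟩ .leaf) 28039139586 ⟨1, 0, 0, 0⟩ .leaf)))
    28039139856 ⟨1, 0, 0, 0⟩
    (.node
    (.node
    (.node (.node .leaf 28040245281 ⟨1, 0, 0, 0⟩ .leaf) 28040245506 ⟨1, 0, 0, 0⟩ (.node .leaf 28040245776 ⟨1, 0, 0, 0⟩ .leaf))
    31813091361 ⟨1, 0, 0, 0⟩
    (.node (.node .leaf 31813091586 ⟨1, 0, 0, 0⟩ .leaf) 31813091856 ⟨1, 0, 0, 0⟩ .leaf))
    31814012961 ⟨1, 0, 0, 0⟩
    (.node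
    (.node (.node .leaf 31814013186 ⟨1, 0, 0, 0⟩ .leaf) 31814013456 ⟨1, 0, 0, 0⟩ .leaf)
    31815118881 ⟨1, 0, 0, 0⟩
    (.node (.node .leaf 31815119106 ⟨1, 0, 0, 0⟩ .leaf) 31815119376 ⟨1, 0, 0, 0⟩ .leaf))))
    32316346401 ⟨1, 0, 0, 0⟩
    (.node
    (.node
    (.node
    (.node (.node .leaf 32316346626 ⟨1, 0, 0, 0⟩ .leaf) 32316346896 ⟨1, 0, 0, 0⟩ (.node .leaf 32317452321 ⟨1, 0, 0, 0⟩ .leaf))
    32317452546 ⟨1, 0, 0, 0⟩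
    (.node (.node .leaf 32317452816 ⟨1, 0, 0, 0⟩ .leaf) 32318373921 ⟨1, 0, 0, 0⟩ .leaf))
    32318374146 ⟨1, 0, 0, 0⟩
    (.node
    (.node (.node .leaf 32318374416 ⟨1, 0, 0, 0⟩ .leaf) 36091220001 ⟨1, 0, 0, 0⟩ (.node .leaf 36091220226 ⟨1, 0, 0, 0⟩ .leaf))
    36091220496 ⟨1, 0, 0, 0⟩
    (.node (.node .leaf 36092325921 ⟨1, 0, 0, 0⟩ .leaf) 36092326146 ⟨1, 0, 0, 0⟩ .leaf)))
    36092326416 ⟨1, 0, 0, 0⟩
    (.node
    (.node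
    (.node (.node .leaf 36093247521 ⟨1, 0, 0, 0⟩ .leaf) 36093247746 ⟨1, 0, 0, 0⟩ (.node .leaf 36093248016 ⟨1, 0, 0, 0⟩ .leaf))
    36342939681 ⟨1, 0, 0, 0⟩
    (.node (.node .leaf 36342939906 ⟨1, 0, 0, 0⟩ .leaf) 36342940176 ⟨1, 0, 0, 0⟩ .leaf))
    36343861281 ⟨1, 0, 0, 0⟩
    (.node
    (.node (.node .leaf 36343861506 ⟨1, 0, 0, 0⟩ .leaf) 36343861776 ⟨1, 0, 0, 0⟩ .leaf)
    36344967201 ⟨1, 0, 0, 0⟩
    (.node (.node .leaf 36344967426 ⟨1, 0, 0, 0⟩ .leaf) 36344967696 ⟨1, 0, 0, 0⟩ .leaf))))))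
  | .d => (.node
    (.node
    (.node
    (.node
    (.node
    (.node (.node .leaf 560493396 ⟨0, 1, 0, 0⟩ .leaf) 560493621 ⟨0, 1, 0, 0⟩ .leaf)
    560493891 ⟨0, 1, 0, 0⟩
    (.node (.node .leaf 561414996 ⟨0, 1, 0, 0⟩ .leaf) 561415221 ⟨0, 1, 0, 0⟩ .leaf))
    561415491 ⟨0, 1, 0, 0⟩
    (.node
    (.node (.node .leaf 562520916 ⟨0, 1, 0, 0⟩ .leaf) 562521141 ⟨0, 1, 0, 0⟩ .leaf)
    562521411 ⟨0, 1, 0, 0⟩
    (.node .leaf 4335366996 ⟨0, 1, 0, 0⟩ .leaf)))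
    4335367221 ⟨0, 1, 0, 0⟩
    (.node
    (.node
    (.node (.node .leaf 4335367491 ⟨0, 1, 0, 0⟩ .leaf) 4336288596 ⟨0, 1, 0, 0⟩ .leaf)
    4336288821 ⟨0, 1, 0, 0⟩
    (.node .leaf 4336289091 ⟨0, 1, 0, 0⟩ .leaf))
    4337394516 ⟨0, 1, 0, 0⟩
    (.node
    (.node (.node .leaf 4337394741 ⟨0, 1, 0, 0⟩ .leaf) 4337395011 ⟨0, 1, 0, 0⟩ .leaf)
    8865215316 ⟨0, 1, 0, 0⟩
    (.node .leaf 8865215541 ⟨0, 1, 0, 0⟩ .leaf))))
    8865215811 ⟨0, 1, 0, 0⟩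
    (.node
    (.node
    (.node
    (.node (.node .leaf 8866136916 ⟨0, 1, 0, 0⟩ .leaf) 8866137141 ⟨0, 1, 0, 0⟩ .leaf)
    8866137411 ⟨0, 1, 0, 0⟩
    (.node .leaf 8867242836 ⟨0, 1, 0, 0⟩ .leaf))
    8867243061 ⟨0, 1, 0, 0⟩
    (.node
    (.node (.node .leaf 8867243331 ⟨0, 1, 0, 0⟩ .leaf) 14294324871 ⟨-1, -1, 0, 0⟩ .leaf)
    14294325096 ⟨-1, -1, 0, 0⟩
    (.node .leaf 14294325366 ⟨-1, -1, 0, 0⟩ .leaf)))
    14295246471 ⟨-1, -1, 0, 0⟩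
    (.node
    (.node
    (.node (.node .leaf 14295246696 ⟨-1, -1, 0, 0⟩ .leaf) 14295246966 ⟨-1, -1, 0, 0⟩ .leaf)
    14296352391 ⟨-1, -1, 0, 0⟩
    (.node .leaf 14296352616 ⟨-1, -1, 0, 0⟩ .leaf))
    14296352886 ⟨-1, -1, 0, 0⟩
    (.node
    (.node (.node .leaf 18069198471 ⟨-1, -1, 0, 0⟩ .leaf) 18069198696 ⟨-1, -1, 0, 0⟩ .leaf)
    18069198966 ⟨-1, -1, 0, 0⟩
    (.node .leaf 18070120071 ⟨-1, -1, 0, 0⟩ .leaf)))))
    18070120296 ⟨-1, -1, 0, 0⟩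
    (.node
    (.node
    (.node
    (.node
    (.node (.node .leaf 18070120566 ⟨-1, -1, 0, 0⟩ .leaf) 18071225991 ⟨-1, -1, 0, 0⟩ .leaf)
    18071226216 ⟨-1, -1, 0, 0⟩
    (.node (.node .leaf 18071226486 ⟨-1, -1, 0, 0⟩ .leaf) 22599046791 ⟨-1, -1, 0, 0⟩ .leaf))
    22599047016 ⟨-1, -1, 0, 0⟩
    (.node
    (.node (.node .leaf 22599047286 ⟨-1, -1, 0, 0⟩ .leaf) 22599968391 ⟨-1, -1, 0, 0⟩ .leaf)
    22599968616 ⟨-1, -1, 0, 0⟩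
    (.node .leaf 22599968886 ⟨-1, -1, 0, 0⟩ .leaf)))
    22601074311 ⟨-1, -1, 0, 0⟩
    (.node
    (.node
    (.node (.node .leaf 22601074536 ⟨-1, -1, 0, 0⟩ .leaf) 22601074806 ⟨-1, -1, 0, 0⟩ .leaf)
    28038217761 ⟨1, 0, 0, 0⟩
    (.node .leaf 28038217986 ⟨1, 0, 0, 0⟩ .leaf))
    28038218256 ⟨1, 0, 0, 0⟩
    (.node
    (.node (.node .leaf 28039139361 ⟨1, 0, 0, 0⟩ .leaf) 28039139586 ⟨1, 0, 0, 0⟩ .leaf)
    28039139856 ⟨1, 0, 0, 0⟩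
    (.node .leaf 28040245281 ⟨1, 0, 0, 0⟩ .leaf))))
    28040245506 ⟨1, 0, 0, 0⟩
    (.node
    (.node
    (.node
    (.node (.node .leaf 28040245776 ⟨1, 0, 0, 0⟩ .leaf) 31813091361 ⟨1, 0, 0, 0⟩ .leaf)
    31813091586 ⟨1, 0, 0, 0⟩
    (.node .leaf 31813091856 ⟨1, 0, 0, 0⟩ .leaf))
    31814012961 ⟨1, 0, 0, 0⟩
    (.node
    (.node (.node .leaf 31814013186 ⟨1, 0, 0, 0⟩ .leaf) 31814013456 ⟨1, 0, 0, 0⟩ .leaf)
    31815118881 ⟨1, 0, 0, 0⟩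
    (.node .leaf 31815119106 ⟨1, 0, 0, 0⟩ .leaf)))
    31815119376 ⟨1, 0, 0, 0⟩
    (.node
    (.node
    (.node (.node .leaf 36342939681 ⟨1, 0, 0, 0⟩ .leaf) 36342939906 ⟨1, 0, 0, 0⟩ .leaf)
    36342940176 ⟨1, 0, 0, 0⟩
    (.node .leaf 36343861281 ⟨1, 0, 0, 0⟩ .leaf))
    36343861506 ⟨1, 0, 0, 0⟩
    (.node
    (.node (.node .leaf 36343861776 ⟨1, 0, 0, 0⟩ .leaf) 36344967201 ⟨1, 0, 0, 0⟩ .leaf)
    36344967426 ⟨1, 0, 0, 0⟩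
    (.node .leaf 36344967696 ⟨1, 0, 0, 0⟩ .leaf))))))
  | .e => (.node
    (.node
    (.node
    (.node
    (.node (.node .leaf 27783205716 ⟨1, 0, 0, 0⟩ .leaf) 27783205941 ⟨1, 0, 0, 0⟩ (.node .leaf 27783206211 ⟨1, 0, 0, 0⟩ .leaf))
    27784127316 ⟨1, 0, 0, 0⟩
    (.node (.node .leaf 27784127541 ⟨1, 0, 0, 0⟩ .leaf) 27784127811 ⟨1, 0, 0, 0⟩ .leaf))
    27785233236 ⟨1, 0, 0, 0⟩
    (.node
    (.node (.node .leaf 27785233461 ⟨1, 0, 0, 0⟩ .leaf) 27785233731 ⟨1, 0, 0, 0⟩ (.node .leaf 28038217761 ⟨1, 0, 0, 0⟩ .leaf))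
    28038217986 ⟨1, 0, 0, 0⟩
    (.node (.node .leaf 28038218256 ⟨1, 0, 0, 0⟩ .leaf) 28039139361 ⟨1, 0, 0, 0⟩ .leaf)))
    28039139586 ⟨1, 0, 0, 0⟩
    (.node
    (.node
    (.node (.node .leaf 28039139856 ⟨1, 0, 0, 0⟩ .leaf) 28040245281 ⟨1, 0, 0, 0⟩ (.node .leaf 28040245506 ⟨1, 0, 0, 0⟩ .leaf))
    28040245776 ⟨1, 0, 0, 0⟩
    (.node (.node .leaf 31813091361 ⟨1, 0, 0, 0⟩ .leaf) 31813091586 ⟨1, 0, 0, 0⟩ .leaf))
    31813091856 ⟨1, 0, 0, 0⟩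
    (.node
    (.node (.node .leaf 31814012961 ⟨1, 0, 0, 0⟩ .leaf) 31814013186 ⟨1, 0, 0, 0⟩ (.node .leaf 31814013456 ⟨1, 0, 0, 0⟩ .leaf))
    31815118881 ⟨1, 0, 0, 0⟩
    (.node (.node .leaf 31815119106 ⟨1, 0, 0, 0⟩ .leaf) 31815119376 ⟨1, 0, 0, 0⟩ .leaf))))
    32313054036 ⟨1, 0, 0, 0⟩
    (.node
    (.node
    (.node
    (.node (.node .leaf 32313054261 ⟨1, 0, 0, 0⟩ .leaf) 32313054531 ⟨1, 0, 0, 0⟩ (.node .leaf 32313975636 ⟨1, 0, 0, 0⟩ .leaf))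
    32313975861 ⟨1, 0, 0, 0⟩
    (.node (.node .leaf 32313976131 ⟨1, 0, 0, 0⟩ .leaf) 32315081556 ⟨1, 0, 0, 0⟩ .leaf))
    32315081781 ⟨1, 0, 0, 0⟩
    (.node
    (.node (.node .leaf 32315082051 ⟨1, 0, 0, 0⟩ .leaf) 36087927636 ⟨1, 0, 0, 0⟩ (.node .leaf 36087927861 ⟨1, 0, 0, 0⟩ .leaf))
    36087928131 ⟨1, 0, 0, 0⟩
    (.node (.node .leaf 36088849236 ⟨1, 0, 0, 0⟩ .leaf) 36088849461 ⟨1, 0, 0, 0⟩ .leaf)))
    36088849731 ⟨1, 0, 0, 0⟩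
    (.node
    (.node
    (.node (.node .leaf 36089955156 ⟨1, 0, 0, 0⟩ .leaf) 36089955381 ⟨1, 0, 0, 0⟩ (.node .leaf 36089955651 ⟨1, 0, 0, 0⟩ .leaf))
    36342939681 ⟨1, 0, 0, 0⟩
    (.node (.node .leaf 36342939906 ⟨1, 0, 0, 0⟩ .leaf) 36342940176 ⟨1, 0, 0, 0⟩ .leaf))
    36343861281 ⟨1, 0, 0, 0⟩
    (.node
    (.node (.node .leaf 36343861506 ⟨1, 0, 0, 0⟩ .leaf) 36343861776 ⟨1, 0, 0, 0⟩ .leaf)
    36344967201 ⟨1, 0, 0, 0⟩
    (.node (.node .leaf 36344967426 ⟨1, 0, 0, 0⟩ .leaf) 36344967696 ⟨1, 0, 0, 0⟩ .leaf)))))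

/-- The character with negative sign. -/
def Idx.neg : Idx → VT
  | .a => (.node
    (.node
    (.node
    (.node
    (.node
    (.node (.node .leaf 14049374241 ⟨0, 0, 0, 1⟩ .leaf) 14049374466 ⟨0, 0, -1, -1⟩ (.node .leaf 14049374736 ⟨0, 0, 1, 0⟩ .leaf))
    14050295841 ⟨0, 0, 0, 1⟩
    (.node (.node .leaf 14050296066 ⟨0, 0, -1, -1⟩ .leaf) 14050296336 ⟨0, 0, 1, 0⟩ .leaf))
    14051401761 ⟨0, 0, 0, 1⟩
    (.node
    (.node (.node .leaf 14051401986 ⟨0, 0, -1, -1⟩ .leaf) 14051402256 ⟨0, 0, 1, 0⟩ (.node .leaf 14300971041 ⟨0, 0, 0, -1⟩ .leaf))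
    14300971266 ⟨0, 0, 1, 1⟩
    (.node (.node .leaf 14300971536 ⟨0, 0, -1, 0⟩ .leaf) 14302076961 ⟨0, 0, 0, -1⟩ .leaf)))
    14302077186 ⟨0, 0, 1, 1⟩
    (.node
    (.node
    (.node (.node .leaf 14302077456 ⟨0, 0, -1, 0⟩ .leaf) 14302998561 ⟨0, 0, 0, -1⟩ (.node .leaf 14302998786 ⟨0, 0, 1, 1⟩ .leaf))
    14302999056 ⟨0, 0, -1, 0⟩
    (.node (.node .leaf 18075844641 ⟨0, 0, 0, -1⟩ .leaf) 18075844866 ⟨0, 0, 1, 1⟩ .leaf))
    18075845136 ⟨0, 0, -1, 0⟩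
    (.node
    (.node (.node .leaf 18076950561 ⟨0, 0, 0, -1⟩ .leaf) 18076950786 ⟨0, 0, 1, 1⟩ (.node .leaf 18076951056 ⟨0, 0, -1, 0⟩ .leaf))
    18077872161 ⟨0, 0, 0, -1⟩
    (.node (.node .leaf 18077872386 ⟨0, 0, 1, 1⟩ .leaf) 18077872656 ⟨0, 0, -1, 0⟩ .leaf))))
    18579222561 ⟨0, 0, 0, 1⟩
    (.node
    (.node
    (.node
    (.node (.node .leaf 18579222786 ⟨0, 0, -1, -1⟩ .leaf) 18579223056 ⟨0, 0, 1, 0⟩ (.node .leaf 18580144161 ⟨0, 0, 0, 1⟩ .leaf))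
    18580144386 ⟨0, 0, -1, -1⟩
    (.node (.node .leaf 18580144656 ⟨0, 0, 1, 0⟩ .leaf) 18581250081 ⟨0, 0, 0, 1⟩ .leaf))
    18581250306 ⟨0, 0, -1, -1⟩
    (.node
    (.node (.node .leaf 18581250576 ⟨0, 0, 1, 0⟩ .leaf) 22354096161 ⟨0, 0, 0, 1⟩ (.node .leaf 22354096386 ⟨0, 0, -1, -1⟩ .leaf))
    22354096656 ⟨0, 0, 1, 0⟩
    (.node (.node .leaf 22355017761 ⟨0, 0, 0, 1⟩ .leaf) 22355017986 ⟨0, 0, -1, -1⟩ .leaf)))
    22355018256 ⟨0, 0, 1, 0⟩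
    (.node
    (.node
    (.node (.node .leaf 22356123681 ⟨0, 0, 0, 1⟩ .leaf) 22356123906 ⟨0, 0, -1, -1⟩ (.node .leaf 22356124176 ⟨0, 0, 1, 0⟩ .leaf))
    22605692961 ⟨0, 0, 0, -1⟩
    (.node (.node .leaf 22605693186 ⟨0, 0, 1, 1⟩ .leaf) 22605693456 ⟨0, 0, -1, 0⟩ .leaf))
    22606798881 ⟨0, 0, 0, -1⟩
    (.node
    (.node (.node .leaf 22606799106 ⟨0, 0, 1, 1⟩ .leaf) 22606799376 ⟨0, 0, -1, 0⟩ .leaf)
    22607720481 ⟨0, 0, 0, -1⟩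
    (.node (.node .leaf 22607720706 ⟨0, 0, 1, 1⟩ .leaf) 22607720976 ⟨0, 0, -1, 0⟩ .leaf)))))
    27786498081 ⟨0, -1, 0, 0⟩
    (.node
    (.node
    (.node
    (.node
    (.node (.node .leaf 27786498306 ⟨1, 1, 0, 0⟩ .leaf) 27786498576 ⟨-1, 0, 0, 0⟩ (.node .leaf 27787604001 ⟨0, -1, 0, 0⟩ .leaf))
    27787604226 ⟨1, 1, 0, 0⟩
    (.node (.node .leaf 27787604496 ⟨-1, 0, 0, 0⟩ .leaf) 27788525601 ⟨0, -1, 0, 0⟩ .leaf))
    27788525826 ⟨1, 1, 0, 0⟩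
    (.node
    (.node (.node .leaf 27788526096 ⟨-1, 0, 0, 0⟩ .leaf) 28038217761 ⟨0, 1, 0, 0⟩ (.node .leaf 28038217986 ⟨-1, -1, 0, 0⟩ .leaf))
    28038218256 ⟨1, 0, 0, 0⟩
    (.node (.node .leaf 28039139361 ⟨0, 1, 0, 0⟩ .leaf) 28039139586 ⟨-1, -1, 0, 0⟩ .leaf)))
    28039139856 ⟨1, 0, 0, 0⟩
    (.node
    (.node
    (.node (.node .leaf 28040245281 ⟨0, 1, 0, 0⟩ .leaf) 28040245506 ⟨-1, -1, 0, 0⟩ (.node .leaf 28040245776 ⟨1, 0, 0, 0⟩ .leaf))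
    31813091361 ⟨0, 1, 0, 0⟩
    (.node (.node .leaf 31813091586 ⟨-1, -1, 0, 0⟩ .leaf) 31813091856 ⟨1, 0, 0, 0⟩ .leaf))
    31814012961 ⟨0, 1, 0, 0⟩
    (.node
    (.node (.node .leaf 31814013186 ⟨-1, -1, 0, 0⟩ .leaf) 31814013456 ⟨1, 0, 0, 0⟩ .leaf)
    31815118881 ⟨0, 1, 0, 0⟩
    (.node (.node .leaf 31815119106 ⟨-1, -1, 0, 0⟩ .leaf) 31815119376 ⟨1, 0, 0, 0⟩ .leaf))))
    32316346401 ⟨0, -1, 0, 0⟩
    (.node
    (.node
    (.node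
    (.node (.node .leaf 32316346626 ⟨1, 1, 0, 0⟩ .leaf) 32316346896 ⟨-1, 0, 0, 0⟩ (.node .leaf 32317452321 ⟨0, -1, 0, 0⟩ .leaf))
    32317452546 ⟨1, 1, 0, 0⟩
    (.node (.node .leaf 32317452816 ⟨-1, 0, 0, 0⟩ .leaf) 32318373921 ⟨0, -1, 0, 0⟩ .leaf))
    32318374146 ⟨1, 1, 0, 0⟩
    (.node
    (.node (.node .leaf 32318374416 ⟨-1, 0, 0, 0⟩ .leaf) 36091220001 ⟨0, -1, 0, 0⟩ (.node .leaf 36091220226 ⟨1, 1, 0, 0⟩ .leaf))
    36091220496 ⟨-1, 0, 0, 0⟩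
    (.node (.node .leaf 36092325921 ⟨0, -1, 0, 0⟩ .leaf) 36092326146 ⟨1, 1, 0, 0⟩ .leaf)))
    36092326416 ⟨-1, 0, 0, 0⟩
    (.node
    (.node
    (.node (.node .leaf 36093247521 ⟨0, -1, 0, 0⟩ .leaf) 36093247746 ⟨1, 1, 0, 0⟩ (.node .leaf 36093248016 ⟨-1, 0, 0, 0⟩ .leaf))
    36342939681 ⟨0, 1, 0, 0⟩
    (.node (.node .leaf 36342939906 ⟨-1, -1, 0, 0⟩ .leaf) 36342940176 ⟨1, 0, 0, 0⟩ .leaf))
    36343861281 ⟨0, 1, 0, 0⟩
    (.node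
    (.node (.node .leaf 36343861506 ⟨-1, -1, 0, 0⟩ .leaf) 36343861776 ⟨1, 0, 0, 0⟩ .leaf)
    36344967201 ⟨0, 1, 0, 0⟩
    (.node (.node .leaf 36344967426 ⟨-1, -1, 0, 0⟩ .leaf) 36344967696 ⟨1, 0, 0, 0⟩ .leaf))))))
  | .b => (.node
    (.node
    (.node
    (.node
    (.node
    (.node (.node .leaf 14049374241 ⟨0, 0, 0, -1⟩ .leaf) 14049374466 ⟨0, 0, 1, 1⟩ (.node .leaf 14049374736 ⟨0, 0, -1, 0⟩ .leaf))
    14050295841 ⟨0, 0, 0, -1⟩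
    (.node (.node .leaf 14050296066 ⟨0, 0, 1, 1⟩ .leaf) 14050296336 ⟨0, 0, -1, 0⟩ .leaf))
    14051401761 ⟨0, 0, 0, -1⟩
    (.node
    (.node (.node .leaf 14051401986 ⟨0, 0, 1, 1⟩ .leaf) 14051402256 ⟨0, 0, -1, 0⟩ (.node .leaf 14300971041 ⟨0, 0, 0, 1⟩ .leaf))
    14300971266 ⟨0, 0, -1, -1⟩
    (.node (.node .leaf 14300971536 ⟨0, 0, 1, 0⟩ .leaf) 14302076961 ⟨0, 0, 0, 1⟩ .leaf)))
    14302077186 ⟨0, 0, -1, -1⟩
    (.node
    (.node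
    (.node (.node .leaf 14302077456 ⟨0, 0, 1, 0⟩ .leaf) 14302998561 ⟨0, 0, 0, 1⟩ (.node .leaf 14302998786 ⟨0, 0, -1, -1⟩ .leaf))
    14302999056 ⟨0, 0, 1, 0⟩
    (.node (.node .leaf 18075844641 ⟨0, 0, 0, 1⟩ .leaf) 18075844866 ⟨0, 0, -1, -1⟩ .leaf))
    18075845136 ⟨0, 0, 1, 0⟩
    (.node
    (.node (.node .leaf 18076950561 ⟨0, 0, 0, 1⟩ .leaf) 18076950786 ⟨0, 0, -1, -1⟩ (.node .leaf 18076951056 ⟨0, 0, 1, 0⟩ .leaf))
    18077872161 ⟨0, 0, 0, 1⟩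
    (.node (.node .leaf 18077872386 ⟨0, 0, -1, -1⟩ .leaf) 18077872656 ⟨0, 0, 1, 0⟩ .leaf))))
    18579222561 ⟨0, 0, 0, -1⟩
    (.node
    (.node
    (.node
    (.node (.node .leaf 18579222786 ⟨0, 0, 1, 1⟩ .leaf) 18579223056 ⟨0, 0, -1, 0⟩ (.node .leaf 18580144161 ⟨0, 0, 0, -1⟩ .leaf))
    18580144386 ⟨0, 0, 1, 1⟩
    (.node (.node .leaf 18580144656 ⟨0, 0, -1, 0⟩ .leaf) 18581250081 ⟨0, 0, 0, -1⟩ .leaf))
    18581250306 ⟨0, 0, 1, 1⟩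
    (.node
    (.node (.node .leaf 18581250576 ⟨0, 0, -1, 0⟩ .leaf) 22354096161 ⟨0, 0, 0, -1⟩ (.node .leaf 22354096386 ⟨0, 0, 1, 1⟩ .leaf))
    22354096656 ⟨0, 0, -1, 0⟩
    (.node (.node .leaf 22355017761 ⟨0, 0, 0, -1⟩ .leaf) 22355017986 ⟨0, 0, 1, 1⟩ .leaf)))
    22355018256 ⟨0, 0, -1, 0⟩
    (.node
    (.node
    (.node (.node .leaf 22356123681 ⟨0, 0, 0, -1⟩ .leaf) 22356123906 ⟨0, 0, 1, 1⟩ (.node .leaf 22356124176 ⟨0, 0, -1, 0⟩ .leaf))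
    22605692961 ⟨0, 0, 0, 1⟩
    (.node (.node .leaf 22605693186 ⟨0, 0, -1, -1⟩ .leaf) 22605693456 ⟨0, 0, 1, 0⟩ .leaf))
    22606798881 ⟨0, 0, 0, 1⟩
    (.node
    (.node (.node .leaf 22606799106 ⟨0, 0, -1, -1⟩ .leaf) 22606799376 ⟨0, 0, 1, 0⟩ .leaf)
    22607720481 ⟨0, 0, 0, 1⟩
    (.node (.node .leaf 22607720706 ⟨0, 0, -1, -1⟩ .leaf) 22607720976 ⟨0, 0, 1, 0⟩ .leaf)))))
    27786498081 ⟨0, -1, 0, 0⟩
    (.node
    (.node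
    (.node
    (.node
    (.node (.node .leaf 27786498306 ⟨1, 1, 0, 0⟩ .leaf) 27786498576 ⟨-1, 0, 0, 0⟩ (.node .leaf 27787604001 ⟨0, -1, 0, 0⟩ .leaf))
    27787604226 ⟨1, 1, 0, 0⟩
    (.node (.node .leaf 27787604496 ⟨-1, 0, 0, 0⟩ .leaf) 27788525601 ⟨0, -1, 0, 0⟩ .leaf))
    27788525826 ⟨1, 1, 0, 0⟩
    (.node
    (.node (.node .leaf 27788526096 ⟨-1, 0, 0, 0⟩ .leaf) 28038217761 ⟨0, 1, 0, 0⟩ (.node .leaf 28038217986 ⟨-1, -1, 0, 0⟩ .leaf))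
    28038218256 ⟨1, 0, 0, 0⟩
    (.node (.node .leaf 28039139361 ⟨0, 1, 0, 0⟩ .leaf) 28039139586 ⟨-1, -1, 0, 0⟩ .leaf)))
    28039139856 ⟨1, 0, 0, 0⟩
    (.node
    (.node
    (.node (.node .leaf 28040245281 ⟨0, 1, 0, 0⟩ .leaf) 28040245506 ⟨-1, -1, 0, 0⟩ (.node .leaf 28040245776 ⟨1, 0, 0, 0⟩ .leaf))
    31813091361 ⟨0, 1, 0, 0⟩
    (.node (.node .leaf 31813091586 ⟨-1, -1, 0, 0⟩ .leaf) 31813091856 ⟨1, 0, 0, 0⟩ .leaf))
    31814012961 ⟨0, 1, 0, 0⟩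
    (.node
    (.node (.node .leaf 31814013186 ⟨-1, -1, 0, 0⟩ .leaf) 31814013456 ⟨1, 0, 0, 0⟩ .leaf)
    31815118881 ⟨0, 1, 0, 0⟩
    (.node (.node .leaf 31815119106 ⟨-1, -1, 0, 0⟩ .leaf) 31815119376 ⟨1, 0, 0, 0⟩ .leaf))))
    32316346401 ⟨0, -1, 0, 0⟩
    (.node
    (.node
    (.node
    (.node (.node .leaf 32316346626 ⟨1, 1, 0, 0⟩ .leaf) 32316346896 ⟨-1, 0, 0, 0⟩ (.node .leaf 32317452321 ⟨0, -1, 0, 0⟩ .leaf))
    32317452546 ⟨1, 1, 0, 0⟩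
    (.node (.node .leaf 32317452816 ⟨-1, 0, 0, 0⟩ .leaf) 32318373921 ⟨0, -1, 0, 0⟩ .leaf))
    32318374146 ⟨1, 1, 0, 0⟩
    (.node
    (.node (.node .leaf 32318374416 ⟨-1, 0, 0, 0⟩ .leaf) 36091220001 ⟨0, -1, 0, 0⟩ (.node .leaf 36091220226 ⟨1, 1, 0, 0⟩ .leaf))
    36091220496 ⟨-1, 0, 0, 0⟩
    (.node (.node .leaf 36092325921 ⟨0, -1, 0, 0⟩ .leaf) 36092326146 ⟨1, 1, 0, 0⟩ .leaf)))
    36092326416 ⟨-1, 0, 0, 0⟩
    (.node
    (.node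
    (.node (.node .leaf 36093247521 ⟨0, -1, 0, 0⟩ .leaf) 36093247746 ⟨1, 1, 0, 0⟩ (.node .leaf 36093248016 ⟨-1, 0, 0, 0⟩ .leaf))
    36342939681 ⟨0, 1, 0, 0⟩
    (.node (.node .leaf 36342939906 ⟨-1, -1, 0, 0⟩ .leaf) 36342940176 ⟨1, 0, 0, 0⟩ .leaf))
    36343861281 ⟨0, 1, 0, 0⟩
    (.node
    (.node (.node .leaf 36343861506 ⟨-1, -1, 0, 0⟩ .leaf) 36343861776 ⟨1, 0, 0, 0⟩ .leaf)
    36344967201 ⟨0, 1, 0, 0⟩
    (.node (.node .leaf 36344967426 ⟨-1, -1, 0, 0⟩ .leaf) 36344967696 ⟨1, 0, 0, 0⟩ .leaf))))))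
  | .c => (.node
    (.node
    (.node
    (.node
    (.node
    (.node (.node .leaf 14049374241 ⟨0, 1, 0, 0⟩ .leaf) 14049374466 ⟨-1, -1, 0, 0⟩ (.node .leaf 14049374736 ⟨1, 0, 0, 0⟩ .leaf))
    14050295841 ⟨0, 1, 0, 0⟩
    (.node (.node .leaf 14050296066 ⟨-1, -1, 0, 0⟩ .leaf) 14050296336 ⟨1, 0, 0, 0⟩ .leaf))
    14051401761 ⟨0, 1, 0, 0⟩
    (.node
    (.node (.node .leaf 14051401986 ⟨-1, -1, 0, 0⟩ .leaf) 14051402256 ⟨1, 0, 0, 0⟩ (.node .leaf 14300971041 ⟨0, 1, 0, 0⟩ .leaf))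
    14300971266 ⟨-1, -1, 0, 0⟩
    (.node (.node .leaf 14300971536 ⟨1, 0, 0, 0⟩ .leaf) 14302076961 ⟨0, 1, 0, 0⟩ .leaf)))
    14302077186 ⟨-1, -1, 0, 0⟩
    (.node
    (.node
    (.node (.node .leaf 14302077456 ⟨1, 0, 0, 0⟩ .leaf) 14302998561 ⟨0, 1, 0, 0⟩ (.node .leaf 14302998786 ⟨-1, -1, 0, 0⟩ .leaf))
    14302999056 ⟨1, 0, 0, 0⟩
    (.node (.node .leaf 18075844641 ⟨0, 1, 0, 0⟩ .leaf) 18075844866 ⟨-1, -1, 0, 0⟩ .leaf))
    18075845136 ⟨1, 0, 0, 0⟩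
    (.node
    (.node (.node .leaf 18076950561 ⟨0, 1, 0, 0⟩ .leaf) 18076950786 ⟨-1, -1, 0, 0⟩ (.node .leaf 18076951056 ⟨1, 0, 0, 0⟩ .leaf))
    18077872161 ⟨0, 1, 0, 0⟩
    (.node (.node .leaf 18077872386 ⟨-1, -1, 0, 0⟩ .leaf) 18077872656 ⟨1, 0, 0, 0⟩ .leaf))))
    18579222561 ⟨0, 1, 0, 0⟩
    (.node
    (.node
    (.node
    (.node (.node .leaf 18579222786 ⟨-1, -1, 0, 0⟩ .leaf) 18579223056 ⟨1, 0, 0, 0⟩ (.node .leaf 18580144161 ⟨0, 1, 0, 0⟩ .leaf))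
    18580144386 ⟨-1, -1, 0, 0⟩
    (.node (.node .leaf 18580144656 ⟨1, 0, 0, 0⟩ .leaf) 18581250081 ⟨0, 1, 0, 0⟩ .leaf))
    18581250306 ⟨-1, -1, 0, 0⟩
    (.node
    (.node (.node .leaf 18581250576 ⟨1, 0, 0, 0⟩ .leaf) 22354096161 ⟨0, 1, 0, 0⟩ (.node .leaf 22354096386 ⟨-1, -1, 0, 0⟩ .leaf))
    22354096656 ⟨1, 0, 0, 0⟩
    (.node (.node .leaf 22355017761 ⟨0, 1, 0, 0⟩ .leaf) 22355017986 ⟨-1, -1, 0, 0⟩ .leaf)))
    22355018256 ⟨1, 0, 0, 0⟩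
    (.node
    (.node
    (.node (.node .leaf 22356123681 ⟨0, 1, 0, 0⟩ .leaf) 22356123906 ⟨-1, -1, 0, 0⟩ (.node .leaf 22356124176 ⟨1, 0, 0, 0⟩ .leaf))
    22605692961 ⟨0, 1, 0, 0⟩
    (.node (.node .leaf 22605693186 ⟨-1, -1, 0, 0⟩ .leaf) 22605693456 ⟨1, 0, 0, 0⟩ .leaf))
    22606798881 ⟨0, 1, 0, 0⟩
    (.node
    (.node (.node .leaf 22606799106 ⟨-1, -1, 0, 0⟩ .leaf) 22606799376 ⟨1, 0, 0, 0⟩ .leaf)
    22607720481 ⟨0, 1, 0, 0⟩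
    (.node (.node .leaf 22607720706 ⟨-1, -1, 0, 0⟩ .leaf) 22607720976 ⟨1, 0, 0, 0⟩ .leaf)))))
    27786498081 ⟨0, 1, 0, 0⟩
    (.node
    (.node
    (.node
    (.node
    (.node (.node .leaf 27786498306 ⟨-1, -1, 0, 0⟩ .leaf) 27786498576 ⟨1, 0, 0, 0⟩ (.node .leaf 27787604001 ⟨0, 1, 0, 0⟩ .leaf))
    27787604226 ⟨-1, -1, 0, 0⟩
    (.node (.node .leaf 27787604496 ⟨1, 0, 0, 0⟩ .leaf) 27788525601 ⟨0, 1, 0, 0⟩ .leaf))
    27788525826 ⟨-1, -1, 0, 0⟩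
    (.node
    (.node (.node .leaf 27788526096 ⟨1, 0, 0, 0⟩ .leaf) 28038217761 ⟨0, 1, 0, 0⟩ (.node .leaf 28038217986 ⟨-1, -1, 0, 0⟩ .leaf))
    28038218256 ⟨1, 0, 0, 0⟩
    (.node (.node .leaf 28039139361 ⟨0, 1, 0, 0⟩ .leaf) 28039139586 ⟨-1, -1, 0, 0⟩ .leaf)))
    28039139856 ⟨1, 0, 0, 0⟩
    (.node
    (.node
    (.node (.node .leaf 28040245281 ⟨0, 1, 0, 0⟩ .leaf) 28040245506 ⟨-1, -1, 0, 0⟩ (.node .leaf 28040245776 ⟨1, 0, 0, 0⟩ .leaf))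
    31813091361 ⟨0, 1, 0, 0⟩
    (.node (.node .leaf 31813091586 ⟨-1, -1, 0, 0⟩ .leaf) 31813091856 ⟨1, 0, 0, 0⟩ .leaf))
    31814012961 ⟨0, 1, 0, 0⟩
    (.node
    (.node (.node .leaf 31814013186 ⟨-1, -1, 0, 0⟩ .leaf) 31814013456 ⟨1, 0, 0, 0⟩ .leaf)
    31815118881 ⟨0, 1, 0, 0⟩
    (.node (.node .leaf 31815119106 ⟨-1, -1, 0, 0⟩ .leaf) 31815119376 ⟨1, 0, 0, 0⟩ .leaf))))
    32316346401 ⟨0, 1, 0, 0⟩
    (.node
    (.node
    (.node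
    (.node (.node .leaf 32316346626 ⟨-1, -1, 0, 0⟩ .leaf) 32316346896 ⟨1, 0, 0, 0⟩ (.node .leaf 32317452321 ⟨0, 1, 0, 0⟩ .leaf))
    32317452546 ⟨-1, -1, 0, 0⟩
    (.node (.node .leaf 32317452816 ⟨1, 0, 0, 0⟩ .leaf) 32318373921 ⟨0, 1, 0, 0⟩ .leaf))
    32318374146 ⟨-1, -1, 0, 0⟩
    (.node
    (.node (.node .leaf 32318374416 ⟨1, 0, 0, 0⟩ .leaf) 36091220001 ⟨0, 1, 0, 0⟩ (.node .leaf 36091220226 ⟨-1, -1, 0, 0⟩ .leaf))
    36091220496 ⟨1, 0, 0, 0⟩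
    (.node (.node .leaf 36092325921 ⟨0, 1, 0, 0⟩ .leaf) 36092326146 ⟨-1, -1, 0, 0⟩ .leaf)))
    36092326416 ⟨1, 0, 0, 0⟩
    (.node
    (.node
    (.node (.node .leaf 36093247521 ⟨0, 1, 0, 0⟩ .leaf) 36093247746 ⟨-1, -1, 0, 0⟩ (.node .leaf 36093248016 ⟨1, 0, 0, 0⟩ .leaf))
    36342939681 ⟨0, 1, 0, 0⟩
    (.node (.node .leaf 36342939906 ⟨-1, -1, 0, 0⟩ .leaf) 36342940176 ⟨1, 0, 0, 0⟩ .leaf))
    36343861281 ⟨0, 1, 0, 0⟩
    (.node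
    (.node (.node .leaf 36343861506 ⟨-1, -1, 0, 0⟩ .leaf) 36343861776 ⟨1, 0, 0, 0⟩ .leaf)
    36344967201 ⟨0, 1, 0, 0⟩
    (.node (.node .leaf 36344967426 ⟨-1, -1, 0, 0⟩ .leaf) 36344967696 ⟨1, 0, 0, 0⟩ .leaf))))))
  | .d => (.node
    (.node
    (.node
    (.node
    (.node
    (.node (.node .leaf 560493396 ⟨0, 1, 0, 0⟩ .leaf) 560493621 ⟨-1, -1, 0, 0⟩ .leaf)
    560493891 ⟨1, 0, 0, 0⟩
    (.node (.node .leaf 561414996 ⟨-1, -1, 0, 0⟩ .leaf) 561415221 ⟨1, 0, 0, 0⟩ .leaf))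
    561415491 ⟨0, 1, 0, 0⟩
    (.node
    (.node (.node .leaf 562520916 ⟨1, 0, 0, 0⟩ .leaf) 562521141 ⟨0, 1, 0, 0⟩ .leaf)
    562521411 ⟨-1, -1, 0, 0⟩
    (.node .leaf 4335366996 ⟨-1, -1, 0, 0⟩ .leaf)))
    4335367221 ⟨1, 0, 0, 0⟩
    (.node
    (.node
    (.node (.node .leaf 4335367491 ⟨0, 1, 0, 0⟩ .leaf) 4336288596 ⟨1, 0, 0, 0⟩ .leaf)
    4336288821 ⟨0, 1, 0, 0⟩
    (.node .leaf 4336289091 ⟨-1, -1, 0, 0⟩ .leaf))
    4337394516 ⟨0, 1, 0, 0⟩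
    (.node
    (.node (.node .leaf 4337394741 ⟨-1, -1, 0, 0⟩ .leaf) 4337395011 ⟨1, 0, 0, 0⟩ .leaf)
    8865215316 ⟨1, 0, 0, 0⟩
    (.node .leaf 8865215541 ⟨0, 1, 0, 0⟩ .leaf))))
    8865215811 ⟨-1, -1, 0, 0⟩
    (.node
    (.node
    (.node
    (.node (.node .leaf 8866136916 ⟨0, 1, 0, 0⟩ .leaf) 8866137141 ⟨-1, -1, 0, 0⟩ .leaf)
    8866137411 ⟨1, 0, 0, 0⟩
    (.node .leaf 8867242836 ⟨-1, -1, 0, 0⟩ .leaf))
    8867243061 ⟨1, 0, 0, 0⟩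
    (.node
    (.node (.node .leaf 8867243331 ⟨0, 1, 0, 0⟩ .leaf) 14294324871 ⟨-1, -1, 0, 0⟩ .leaf)
    14294325096 ⟨1, 0, 0, 0⟩
    (.node .leaf 14294325366 ⟨0, 1, 0, 0⟩ .leaf)))
    14295246471 ⟨1, 0, 0, 0⟩
    (.node
    (.node
    (.node (.node .leaf 14295246696 ⟨0, 1, 0, 0⟩ .leaf) 14295246966 ⟨-1, -1, 0, 0⟩ .leaf)
    14296352391 ⟨0, 1, 0, 0⟩
    (.node .leaf 14296352616 ⟨-1, -1, 0, 0⟩ .leaf))
    14296352886 ⟨1, 0, 0, 0⟩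
    (.node
    (.node (.node .leaf 18069198471 ⟨1, 0, 0, 0⟩ .leaf) 18069198696 ⟨0, 1, 0, 0⟩ .leaf)
    18069198966 ⟨-1, -1, 0, 0⟩
    (.node .leaf 18070120071 ⟨0, 1, 0, 0⟩ .leaf)))))
    18070120296 ⟨-1, -1, 0, 0⟩
    (.node
    (.node
    (.node
    (.node
    (.node (.node .leaf 18070120566 ⟨1, 0, 0, 0⟩ .leaf) 18071225991 ⟨-1, -1, 0, 0⟩ .leaf)
    18071226216 ⟨1, 0, 0, 0⟩
    (.node (.node .leaf 18071226486 ⟨0, 1, 0, 0⟩ .leaf) 22599046791 ⟨0, 1, 0, 0⟩ .leaf))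
    22599047016 ⟨-1, -1, 0, 0⟩
    (.node
    (.node (.node .leaf 22599047286 ⟨1, 0, 0, 0⟩ .leaf) 22599968391 ⟨-1, -1, 0, 0⟩ .leaf)
    22599968616 ⟨1, 0, 0, 0⟩
    (.node .leaf 22599968886 ⟨0, 1, 0, 0⟩ .leaf)))
    22601074311 ⟨1, 0, 0, 0⟩
    (.node
    (.node
    (.node (.node .leaf 22601074536 ⟨0, 1, 0, 0⟩ .leaf) 22601074806 ⟨-1, -1, 0, 0⟩ .leaf)
    28038217761 ⟨1, 0, 0, 0⟩
    (.node .leaf 28038217986 ⟨0, 1, 0, 0⟩ .leaf))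
    28038218256 ⟨-1, -1, 0, 0⟩
    (.node
    (.node (.node .leaf 28039139361 ⟨0, 1, 0, 0⟩ .leaf) 28039139586 ⟨-1, -1, 0, 0⟩ .leaf)
    28039139856 ⟨1, 0, 0, 0⟩
    (.node .leaf 28040245281 ⟨-1, -1, 0, 0⟩ .leaf))))
    28040245506 ⟨1, 0, 0, 0⟩
    (.node
    (.node
    (.node
    (.node (.node .leaf 28040245776 ⟨0, 1, 0, 0⟩ .leaf) 31813091361 ⟨0, 1, 0, 0⟩ .leaf)
    31813091586 ⟨-1, -1, 0, 0⟩
    (.node .leaf 31813091856 ⟨1, 0, 0, 0⟩ .leaf))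
    31814012961 ⟨-1, -1, 0, 0⟩
    (.node
    (.node (.node .leaf 31814013186 ⟨1, 0, 0, 0⟩ .leaf) 31814013456 ⟨0, 1, 0, 0⟩ .leaf)
    31815118881 ⟨1, 0, 0, 0⟩
    (.node .leaf 31815119106 ⟨0, 1, 0, 0⟩ .leaf)))
    31815119376 ⟨-1, -1, 0, 0⟩
    (.node
    (.node
    (.node (.node .leaf 36342939681 ⟨-1, -1, 0, 0⟩ .leaf) 36342939906 ⟨1, 0, 0, 0⟩ .leaf)
    36342940176 ⟨0, 1, 0, 0⟩
    (.node .leaf 36343861281 ⟨1, 0, 0, 0⟩ .leaf))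
    36343861506 ⟨0, 1, 0, 0⟩
    (.node
    (.node (.node .leaf 36343861776 ⟨-1, -1, 0, 0⟩ .leaf) 36344967201 ⟨0, 1, 0, 0⟩ .leaf)
    36344967426 ⟨-1, -1, 0, 0⟩
    (.node .leaf 36344967696 ⟨1, 0, 0, 0⟩ .leaf))))))
  | .e => (.node
    (.node
    (.node
    (.node
    (.node (.node .leaf 27783205716 ⟨-1, -1, 0, 0⟩ .leaf) 27783205941 ⟨1, 0, 0, 0⟩ (.node .leaf 27783206211 ⟨0, 1, 0, 0⟩ .leaf))
    27784127316 ⟨1, 0, 0, 0⟩
    (.node (.node .leaf 27784127541 ⟨0, 1, 0, 0⟩ .leaf) 27784127811 ⟨-1, -1, 0, 0⟩ .leaf))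
    27785233236 ⟨0, 1, 0, 0⟩
    (.node
    (.node (.node .leaf 27785233461 ⟨-1, -1, 0, 0⟩ .leaf) 27785233731 ⟨1, 0, 0, 0⟩ (.node .leaf 28038217761 ⟨-1, -1, 0, 0⟩ .leaf))
    28038217986 ⟨1, 0, 0, 0⟩
    (.node (.node .leaf 28038218256 ⟨0, 1, 0, 0⟩ .leaf) 28039139361 ⟨1, 0, 0, 0⟩ .leaf)))
    28039139586 ⟨0, 1, 0, 0⟩
    (.node
    (.node
    (.node (.node .leaf 28039139856 ⟨-1, -1, 0, 0⟩ .leaf) 28040245281 ⟨0, 1, 0, 0⟩ (.node .leaf 28040245506 ⟨-1, -1, 0, 0⟩ .leaf))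
    28040245776 ⟨1, 0, 0, 0⟩
    (.node (.node .leaf 31813091361 ⟨-1, -1, 0, 0⟩ .leaf) 31813091586 ⟨1, 0, 0, 0⟩ .leaf))
    31813091856 ⟨0, 1, 0, 0⟩
    (.node
    (.node (.node .leaf 31814012961 ⟨1, 0, 0, 0⟩ .leaf) 31814013186 ⟨0, 1, 0, 0⟩ (.node .leaf 31814013456 ⟨-1, -1, 0, 0⟩ .leaf))
    31815118881 ⟨0, 1, 0, 0⟩
    (.node (.node .leaf 31815119106 ⟨-1, -1, 0, 0⟩ .leaf) 31815119376 ⟨1, 0, 0, 0⟩ .leaf))))
    32313054036 ⟨-1, -1, 0, 0⟩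
    (.node
    (.node
    (.node
    (.node (.node .leaf 32313054261 ⟨1, 0, 0, 0⟩ .leaf) 32313054531 ⟨0, 1, 0, 0⟩ (.node .leaf 32313975636 ⟨1, 0, 0, 0⟩ .leaf))
    32313975861 ⟨0, 1, 0, 0⟩
    (.node (.node .leaf 32313976131 ⟨-1, -1, 0, 0⟩ .leaf) 32315081556 ⟨0, 1, 0, 0⟩ .leaf))
    32315081781 ⟨-1, -1, 0, 0⟩
    (.node
    (.node (.node .leaf 32315082051 ⟨1, 0, 0, 0⟩ .leaf) 36087927636 ⟨-1, -1, 0, 0⟩ (.node .leaf 36087927861 ⟨1, 0, 0, 0⟩ .leaf))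
    36087928131 ⟨0, 1, 0, 0⟩
    (.node (.node .leaf 36088849236 ⟨1, 0, 0, 0⟩ .leaf) 36088849461 ⟨0, 1, 0, 0⟩ .leaf)))
    36088849731 ⟨-1, -1, 0, 0⟩
    (.node
    (.node
    (.node (.node .leaf 36089955156 ⟨0, 1, 0, 0⟩ .leaf) 36089955381 ⟨-1, -1, 0, 0⟩ (.node .leaf 36089955651 ⟨1, 0, 0, 0⟩ .leaf))
    36342939681 ⟨-1, -1, 0, 0⟩
    (.node (.node .leaf 36342939906 ⟨1, 0, 0, 0⟩ .leaf) 36342940176 ⟨0, 1, 0, 0⟩ .leaf))
    36343861281 ⟨1, 0, 0, 0⟩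
    (.node
    (.node (.node .leaf 36343861506 ⟨0, 1, 0, 0⟩ .leaf) 36343861776 ⟨-1, -1, 0, 0⟩ .leaf)
    36344967201 ⟨0, 1, 0, 0⟩
    (.node (.node .leaf 36344967426 ⟨-1, -1, 0, 0⟩ .leaf) 36344967696 ⟨1, 0, 0, 0⟩ .leaf)))))

/-- The subgroup. -/
def Idx.elems (i : Idx) : List ℕ := i.pos.toList.map Prod.fst

/-- The inducing function. -/
def Idx.theta (i : Idx) (m : ℕ) : Z12 := (look i.pos m).sub (look i.neg m)

/-- A transversal. -/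
def Idx.trans : Idx → List ℕ
  | .a => [36344967696, 8867243331, 36344906241, 22601074806, 8615585076, 8863889511]
  | .b => [36344967696, 8867243331, 36344906241, 22601074806, 8615585076, 8863889511]
  | .c => [36344967696, 8867243331, 36344906241, 22601074806, 8615585076, 8863889511]
  | .d => [36344967696, 36344906241, 36089955651, 8867181876, 36089894196, 8612231286, 22601013351, 22356124176]
  | .e => [36344967696, 8867243331, 36344906241, 22601074806, 8615585076, 22607720976, 8867181876, 22349355126, 8863889511, 22356062721, 36341552451, 36093248016]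

/-- The induced function. -/
def Idx.induced (i : Idx) (m : ℕ) : Z12 :=
  Z12.sum (i.trans.map fun t => i.theta (comp (cinv t) (comp m t)))

/-- No code occurs twice. -/
def nodupB : List ℕ → Bool
  | [] => true
  | a :: r => !r.contains a && nodupB r

/-- The list of indices. -/
def idxList : List Idx := [.a, .b, .c, .d, .e]

theorem tables_ok : idxList.all (fun i => homOK i.gen i.pos && homOK i.gen i.neg &&
    i.neg.toList.map Prod.fst == i.elems && increasing i.elems && i.elems.length == i.ord) = true := by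
  decide +kernel

theorem trans_ok : idxList.all (fun i => i.trans.all inK && i.trans.length * i.ord == 648 &&
    nodupB i.trans && i.trans.all fun t => i.trans.all fun t' =>
      t == t' || !((i.pos.find (comp (cinv t) t')).isSome)) = true := by decide +kernel

theorem supp_ok : idxList.all (fun i => i.elems.all fun m =>
    (i.theta m).beq Z12.zero || isD m) = true := by decide +kernel

/-- The Gram matrix. -/
def gramVal : Idx → Idx → ℤ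
  | .a, .a => 3 | .a, .b => 2 | .a, .c => 1 | .a, .d => 2 | .a, .e => 3
  | .b, .a => 2 | .b, .b => 3 | .b, .c => 1 | .b, .d => 2 | .b, .e => 3
  | .c, .a => 1 | .c, .b => 1 | .c, .c => 4 | .c, .d => 2 | .c, .e => 3
  | .d, .a => 2 | .d, .b => 2 | .d, .c => 2 | .d, .d => 4 | .d, .e => 4
  | .e, .a => 3 | .e, .b => 3 | .e, .c => 3 | .e, .d => 4 | .e, .e => 8

theorem gram_ok : idxList.all (fun i => idxList.all fun j =>
    (Z12.sum (i.elems.map fun m => if (i.theta m).beq Z12.zero then Z12.zero else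
      (i.theta m).mul (j.induced m).conj)).beq
      (Z12.int (gramVal i j * i.ord))) = true := by decide +kernel

/-- The inner product with the principal character. -/
def trivVal : Idx → ℤ
  | .c => 1
  | .e => 1
  | _ => 0

theorem triv_ok : idxList.all (fun i => (Z12.sum (i.elems.map i.theta)).beq
    (Z12.int (trivVal i * i.ord))) = true := by decide +kernel

/-- The class sums, times the order of the subgroup. -/
def countVal : Idx → ℤ × ℤ × ℤ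
  | .a => (0, 0, 324)
  | .b => (0, 0, 324)
  | .c => (324, 324, 648)
  | .d => (243, 0, 243)
  | .e => (243, 81, 405)

/-- The weighted number of factorisations. -/
def countSum (i : Idx) (A B : ℕ → Bool) : Z12 :=
  let L := KL.filter A
  Z12.sum (i.elems.map fun m => if (i.theta m).beq Z12.zero then Z12.zero else
    (i.theta m).mul (Z12.int (L.filter fun x => B (comp x m)).length))

theorem count_ok : idxList.all (fun i => (countSum i isU isU).beq (Z12.int (countVal i).1) &&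
    (countSum i isU isS).beq (Z12.int (countVal i).2.1) &&
    (countSum i isS isS).beq (Z12.int (countVal i).2.2)) = true := by decide +kernel

/-- The coordinates are permuted evenly. -/
def isEven (a : ℕ) : Bool :=
  let p := (nib a 0 / 3 * 3 + nib a 3 / 3) * 3 + nib a 6 / 3
  p == 5 || p == 15 || p == 19

/-- The cyclic shift of the coordinates. -/
def rot (a : ℕ) : ℕ := nib a 0 / 3

theorem even_ok : KL.all (fun a => gens.all fun g =>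
    isEven (comp g a) == (isEven g == isEven a)) = true := by decide +kernel

theorem rot_ok : KL.all (fun a => !isEven a || (gens ++ [JL.getD 9 idc, yC]).all fun g =>
    !isEven g || rot (comp g a) == (rot g + rot a) % 3) = true := by decide +kernel

theorem parity_vals : (isEven idc && rot idc == 0 && !isEven sC) = true ∧
    KL.all (fun h => !isEven (cconj h sC)) = true := by decide +kernel

/-- The subgroup generated by `w` and `z`. -/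
def pairGroup (w z : ℕ) : List ℕ :=
  (List.range 3).flatMap fun a => (List.range 3).map fun b => comp (cpow w a) (cpow z b)

/-- A nontrivial element of `3³` commuting with `w`. -/
def zOf (w : ℕ) : ℕ :=
  (JL.filter fun z => !(z == idc) && comp w z == comp z w).headD idc

/-- The facts on an element of order three outside `3³`. -/
def outerOK (w z : ℕ) : Bool :=
  !(z == idc) && comp w z == comp z w && cpow z 3 == idc && inJ z &&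
    (KL.all fun h => !(comp h w == comp w h) || !(comp h z == comp z h) || !(cpow h 9 == idc) ||
      (pairGroup w z).contains h) &&
    (pairGroup w z).all fun h => !inJ h || (List.range 3).any fun b => cpow z b == h

theorem outer_three : KL.all (fun w => !(cpow w 3 == idc) || inJ w ||
    outerOK w (zOf w)) = true := by decide +kernel

/-- The three involutions of the four-group. -/
def uTriple : List ℕ :=
  [36093248016, 36093309441, 36344906241]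

theorem four_on_cube : KL.all (fun a => !(isEven a && rot a == 0) ||
    (inJ a || uTriple.any fun q => inJ (comp a q))) = true ∧
    uTriple.all (fun q => inK q && isEven q && rot q == 0 && comp q q == idc) = true := by
  decide +kernel

end CfsgLib.CubeSFour
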