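import Cfsg.Agent.Lib.Involutions.CubeSFour.Checks

/-!
# Further facts on `3³ : S₄` checked by computation
-/

set_option autoImplicit false
set_option maxRecDepth 100000

namespace CfsgLib.CubeSFour

/-- A representative of the class of an element of `3³` with `n` fixed points. -/
def jRep (n : ℕ) : ℕ := if n == 6 then 36344967201 else if n == 3 then 36342939681 else 28038217761

/-- The centralizer orders in the three classes. -/
def jCard (n : ℕ) : ℕ := if n == 6 then 108 else if n == 3 then 54 else 81

theorem J_classes : (JL.all fun j => j == idc ||
    ([6, 3, 0].contains (nfix j) &&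
      (KL.filter fun h => comp h j == comp j h).length == jCard (nfix j) &&
      KL.any fun h => cconj h j == jRep (nfix j))) = true := by decide +kernel

/-- The code of a vector. -/
def eV (v : Fin 3 → ZMod 3) : ℕ := JL.getD (9 * (v 0).val + 3 * (v 1).val + (v 2).val) idc

/-- The even representatives and `3³`. -/
def evenSet : List ℕ := QL.filter isEven ++ JL

theorem rot_all : evenSet.all (fun h => isEven h && inK h && KL.all fun a =>
    !isEven a || rot (comp h a) == (rot h + rot a) % 3) = true := by decide +kernel

theorem JL_rot : JL.all (fun j => isEven j && rot j == 0) = true := by decide +kernel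

theorem elems_gen : idxList.all (fun i =>
    let W := (List.range (i.ord / 27)).flatMap fun k => (List.range 27).map fun j =>
      (List.replicate (j / 9) (JL.getD 9 idc) ++ List.replicate (j / 3 % 3) (JL.getD 3 idc) ++
        List.replicate (j % 3) (JL.getD 1 idc) ++ List.replicate k i.gen).foldr comp idc
    i.elems.all fun a => W.contains a) = true := by decide +kernel

theorem elems_d_pow : (Idx.d.elems.all fun a => cpow a 9 == idc) = true := by decide +kernel

theorem t_vals : (inK yC && isEven yC && rot yC == 1 && cpow yC 3 == idc && !inJ yC) = true := by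
  decide +kernel

theorem eV_surj : (JL.all fun j => ((List.range 3).flatMap fun a => (List.range 3).flatMap fun b =>
    (List.range 3).map fun c => eV ![(a : ZMod 3), (b : ZMod 3), (c : ZMod 3)]).contains j) = true
    := by decide +kernel

theorem eV_add : ∀ v w : Fin 3 → ZMod 3, eV (v + w) = comp (eV v) (eV w) := by
  decide +kernel

theorem eV_inj : ∀ v w : Fin 3 → ZMod 3, eV v = eV w → v = w := by
  decide +kernel

/-- The code of one of the three involutions. -/
def uV (i : Fin 3) : ℕ := uTriple.getD i.val idc

theorem uV_facts : ∀ i : Fin 3, inK (uV i) = true ∧ isEven (uV i) = true ∧ rot (uV i) = 0 ∧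
    comp (uV i) (uV i) = idc ∧ inJ (uV i) = false := by decide +kernel

theorem uV_conj : ∀ (i : Fin 3) (v : Fin 3 → ZMod 3),
    comp (uV i) (comp (eV v) (uV i)) = eV (fun j => if i = j then v j else -v j) := by
  decide +kernel

theorem uV_mul : ∀ i j : Fin 3, i ≠ j → comp (uV i) (uV j) = uV (-(i + j)) := by decide +kernel

end CfsgLib.CubeSFour
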