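import Cfsg.Agent.Lib.Involutions.CubeSFour.Cert

/-!
# The equations between signed degrees and signed values at the two involutions

`f`, `e`, `c` are the signed degrees of the three characters that survive the sign analysis,
`t`, `X`, `L`, `S` their signed translated values and those of the principal character.
-/

set_option autoImplicit false
set_option maxHeartbeats 800000

namespace CfsgLib.CubeSFour

/-- The right sign option: the degrees are those of `3³ : S₄`. -/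
theorem main_option (c e f : ℤ) (X t L S : ℂ) (hc : c ≠ 0) (he : e ≠ 0) (hf : f ≠ 0)
    (hg : e + f ≠ 0) (hQ : c + (e + f) ≠ 0) (hM : 1 + c + f ≠ 0) (hS : 1 + c + f + 2 * e ≠ 0)
    (h0 : t ^ 2 / f + t ^ 2 / e = 2 / 3)
    (h5 : X ^ 2 / c - X ^ 2 / (c + (e + f)) = 3 / 2)
    (h3a : L ^ 2 + X ^ 2 / c - (L + X) ^ 2 / (1 + c + f) = 3 / 2)
    (h3b : L * S - (L + X) * (S - t) / (1 + c + f) = 1)
    (h3c : S ^ 2 + t ^ 2 / f - (S - t) ^ 2 / (1 + c + f) = 4 / 3)
    (h6a : L ^ 2 + X ^ 2 / (c + (e + f)) - (L + X) ^ 2 / (1 + c + f + 2 * e) = 3 / 4)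
    (h6b : L * S - (L + X) * (S + t) / (1 + c + f + 2 * e) = 1 / 2)
    (h6c : S ^ 2 + t ^ 2 / e - (S + t) ^ 2 / (1 + c + f + 2 * e) = 1) :
    c = 2 := by
  have hc' : (c : ℂ) ≠ 0 := by exact_mod_cast hc
  have he' : (e : ℂ) ≠ 0 := by exact_mod_cast he
  have hf' : (f : ℂ) ≠ 0 := by exact_mod_cast hf
  have hg' : (e : ℂ) + f ≠ 0 := by exact_mod_cast hg
  have hQ' : (c : ℂ) + (e + f) ≠ 0 := by exact_mod_cast hQ
  have hM' : (1 : ℂ) + c + f ≠ 0 := by exact_mod_cast hM
  have hS' : (1 : ℂ) + c + f + 2 * e ≠ 0 := by exact_mod_cast hS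
  obtain ⟨M, hMd⟩ : ∃ M : ℂ, M = 1 + c + f := ⟨_, rfl⟩
  obtain ⟨S2, hS2d⟩ : ∃ S2 : ℂ, S2 = 1 + c + f + 2 * e := ⟨_, rfl⟩
  obtain ⟨g, hgd⟩ : ∃ g : ℂ, g = e + f := ⟨_, rfl⟩
  obtain ⟨Q, hQd⟩ : ∃ Q : ℂ, Q = c + g := ⟨_, rfl⟩
  rw [← hgd] at hQ' hg' h5 h6a
  rw [← hQd] at hQ' h5 h6a
  rw [← hMd] at hM' h3a h3b h3c
  rw [← hS2d] at hS' h6a h6b h6c
  have hgp : g = e + f := hgd
  -- the two scalar relations
  have ht : 3 * g * t ^ 2 = 2 * (e * f) := by
    field_simp at h0
    rw [hgp]; linear_combination h0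
  have hX : 2 * g * X ^ 2 = 3 * c * Q := by
    have h5' := h5
    field_simp at h5'
    linear_combination h5' + (2 * X ^ 2) * (-hQd)
  -- the rank one increment
  have hp : 2 * e * (L + X) ^ 2 / (M * S2) = 3 / 4 := by
    have key : 2 * (e : ℂ) * (L + X) ^ 2 / (M * S2) =
        (L + X) ^ 2 / M - (L + X) ^ 2 / S2 := by
      field_simp
      linear_combination (L + X) ^ 2 * (-hS2d + hMd)
    rw [key]
    linear_combination h6a - h3a + h5
  have hq : 2 * (L + X) * (e * (S - t) - t * M) / (M * S2) = -1 / 2 := by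
    have key : 2 * (L + X) * (e * (S - t) - t * M) / (M * S2) =
        (L + X) * (S - t) / M - (L + X) * (S + t) / S2 := by
      field_simp
      linear_combination ((L + X) * (S - t)) * (-hS2d + hMd)
    rw [key]
    linear_combination h6b - h3b
  have hp0 : L + X ≠ 0 := by
    intro h
    rw [h] at hp
    norm_num at hp
  obtain ⟨k, hk⟩ : ∃ k : ℂ, k = 2 * (L + X) / (3 * M) := ⟨_, rfl⟩
  have hL : L = 3 / 2 * k * M - X := by rw [hk]; field_simp; ring
  have hSv : S - t = t * M / e - k * M := by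
    have h1 : 3 * (e * (S - t) - t * M) + 2 * e * (L + X) = 0 := by
      have h2 : (2 * (L + X) / (M * S2)) * (3 * (e * (S - t) - t * M) + 2 * e * (L + X)) = 0 := by
        linear_combination 3 * hq + 2 * hp
      exact (mul_eq_zero.mp h2).resolve_left
        (div_ne_zero (mul_ne_zero two_ne_zero hp0) (mul_ne_zero hM' hS'))
    rw [hk]; field_simp
    linear_combination h1
  have hk2 : 6 * e * M * k ^ 2 = S2 := by
    rw [hk]
    field_simp at hp ⊢
    linear_combination 3 * hp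
  have hSt : S = t + t * M / e - k * M := by linear_combination hSv
  -- the three equations of the middle scatter
  have e1 : (3 / 2 * k * M - X) ^ 2 * c + X ^ 2 - 9 / 4 * k ^ 2 * M * c - 3 / 2 * c = 0 := by
    rw [hL] at h3a
    field_simp at h3a
    have : M ≠ 0 := hM'
    apply mul_left_cancel₀ hM'
    linear_combination h3a / 4
  have e2 : 3 * (f * ((t * (e + M) - k * M * e) ^ 2 - M * (t - k * e) ^ 2) + t ^ 2 * e ^ 2) -
      4 * f * e ^ 2 = 0 := by
    rw [hSt] at h3c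
    field_simp at h3c
    apply mul_left_cancel₀ hM'
    linear_combination h3c
  have e3 : (3 / 2 * k * M - X) * (t * (e + M) - k * M * e) - 3 / 2 * k * M * (t - k * e) - e
      = 0 := by
    rw [hL, hSt] at h3b
    field_simp at h3b
    apply mul_left_cancel₀ hM'
    linear_combination h3b / 2
  obtain ⟨N1, hN1⟩ : ∃ N1 : ℂ, N1 = 4 * e * c * (Q + 1) + g * (Q - e) * S2 := ⟨_, rfl⟩
  obtain ⟨Y, hY⟩ : ∃ Y : ℂ, Y = f * Q ^ 2 + f * (Q - e) - e ^ 2 := ⟨_, rfl⟩
  obtain ⟨P, hP⟩ : ∃ P : ℂ, P = (Q + 1) * (e * c + f * Q) - 3 * e * g := ⟨_, rfl⟩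
  have z1 : 8 * e * g * M * (k * X) = N1 := by
    apply mul_left_cancel₀ (mul_ne_zero (by norm_num : (3 : ℂ) ≠ 0) hc')
    subst hN1; subst hQd; subst hgd; subst hMd
    linear_combination -8 * (e + f : ℂ) * e * e1 + 4 * (e : ℂ) * (c + 1) * hX +
      3 * (e + f : ℂ) * c * (c + f) * hk2
  have z2 : 12 * g * M * Q * (k * t) = 4 * Y + g * (Q - e) * S2 := by
    apply mul_left_cancel₀ (div_ne_zero (mul_ne_zero he' hf') two_ne_zero)
    subst hY; subst hQd; subst hgd; subst hMd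
    linear_combination -(e + f : ℂ) * e2 +
      (f * (e + (1 + c + f)) ^ 2 - f * (1 + c + f) + e ^ 2 : ℂ) * ht +
      (e * f * (e + f) * (c + f) / 2 : ℂ) * hk2
  have z3 : 2 * g * (Q + 1) * (X * t) = P := by
    subst hP; subst hN1; subst hY; subst hQd; subst hgd; subst hMd
    linear_combination -2 * (e + f : ℂ) * e3 + z1 / 4 + z2 / 4 -
      ((e + f) * (c + f) / 2 : ℂ) * hk2
  have q1 : N1 ^ 2 = 16 * e * g * M * S2 * c * Q := by
    rw [← z1]
    linear_combination (16 * e * g * M / 3 : ℂ) * (2 * g * X ^ 2) * hk2 +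
      (16 * e * g * M * S2 / 3 : ℂ) * hX
  have q2 : (4 * Y + g * (Q - e) * S2) ^ 2 = 16 * g * M * Q ^ 2 * S2 * f := by
    rw [← z2]
    apply mul_left_cancel₀ he'
    linear_combination (8 * g * M * Q ^ 2 : ℂ) * (3 * g * t ^ 2) * hk2 +
      (8 * g * M * Q ^ 2 * S2 : ℂ) * ht
  have q3 : P ^ 2 = 4 * (Q + 1) ^ 2 * c * Q * e * f := by
    rw [← z3]
    linear_combination (2 / 3 * (Q + 1) ^ 2 * (3 * g * t ^ 2) : ℂ) * hX +
      (2 * (Q + 1) ^ 2 * c * Q : ℂ) * ht
  subst hN1; subst hY; subst hP; subst hS2d; subst hQd; subst hgd; subst hMd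
  have := degrees_eq (c + (e + f)) e (e + f) hQ he hg
    (by intro h; apply hS; omega) (by simpa using hf)
    (by
      have : ((4 * e * (c + (e + f) - (e + f)) * (c + (e + f) + 1) +
          (e + f) * (c + (e + f) - e) * (c + (e + f) + 1 + e)) ^ 2 : ℤ) =
          (16 * e * (e + f) * (c + (e + f) + 1 - e) * (c + (e + f) + 1 + e) *
            (c + (e + f) - (e + f)) * (c + (e + f)) : ℤ) := by
        rw [← Int.cast_inj (α := ℂ)]
        push_cast
        linear_combination q1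
      exact this)
    (by
      rw [← Int.cast_inj (α := ℂ)]
      push_cast
      linear_combination q2)
    (by
      rw [← Int.cast_inj (α := ℂ)]
      push_cast
      linear_combination q3)
  omega

/-- The option `E₆ = 1 + A - D + G` makes the second character linear. -/
theorem option_a (c e f : ℤ) (X t L S : ℂ) (hc : c ≠ 0) (hf : f ≠ 0) (hh : 1 + f ≠ 0)
    (hQ : c + (e + f) ≠ 0) (hM : 1 + c + f ≠ 0) (hG : c - 1 - f ≠ 0)
    (h5 : X ^ 2 / c - X ^ 2 / (c + (e + f)) = 3 / 2)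
    (h3a : L ^ 2 + X ^ 2 / c - (L + X) ^ 2 / (1 + c + f) = 3 / 2)
    (h3b : L * S - (L + X) * (S - t) / (1 + c + f) = 1)
    (h3c : S ^ 2 + t ^ 2 / f - (S - t) ^ 2 / (1 + c + f) = 4 / 3)
    (h6a : L ^ 2 - X ^ 2 / c + (X - L) ^ 2 / (c - 1 - f) = 3 / 4)
    (h6b : L * S + (X - L) * (t - S) / (c - 1 - f) = 1 / 2)
    (h6c : S ^ 2 + t ^ 2 / f + (t - S) ^ 2 / (c - 1 - f) = 1) :
    e = 1 := by
  have hc' : (c : ℂ) ≠ 0 := by exact_mod_cast hc
  have hf' : (f : ℂ) ≠ 0 := by exact_mod_cast hf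
  have hh' : (1 : ℂ) + f ≠ 0 := by exact_mod_cast hh
  have hQ' : (c : ℂ) + (e + f) ≠ 0 := by exact_mod_cast hQ
  have hM' : (1 : ℂ) + c + f ≠ 0 := by exact_mod_cast hM
  have hG' : (c : ℂ) - 1 - f ≠ 0 := by exact_mod_cast hG
  obtain ⟨h, hhd⟩ : ∃ h : ℂ, h = 1 + f := ⟨_, rfl⟩
  obtain ⟨u, hu⟩ : ∃ u : ℂ, u = S - t := ⟨_, rfl⟩
  obtain ⟨w, hw⟩ : ∃ w : ℂ, w = L - h * X / c := ⟨_, rfl⟩
  have d1 : 2 * (c : ℂ) * w ^ 2 / ((c - h) * (c + h)) = -3 / 4 := by
    have key : 2 * (c : ℂ) * w ^ 2 / ((c - h) * (c + h)) =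
        -(X ^ 2 / c) - X ^ 2 / c + (X - L) ^ 2 / (c - 1 - f) + (L + X) ^ 2 / (1 + c + f) := by
      subst hw; subst hhd
      have hG'' : (c : ℂ) - (1 + f) ≠ 0 := by rwa [← sub_sub]
      have hM'' : (c : ℂ) + (1 + f) ≠ 0 := by rwa [show (c : ℂ) + (1 + f) = 1 + c + f by ring]
      field_simp
      ring
    rw [key]; linear_combination h6a - h3a
  have hG'' : (c : ℂ) - h ≠ 0 := by rw [hhd]; rwa [← sub_sub]
  have hM'' : (c : ℂ) + h ≠ 0 := by rw [hhd, show (c : ℂ) + (1 + f) = 1 + c + f by ring]; exact hM'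
  have d2 : 2 * (c : ℂ) * (u * w) / ((c - h) * (c + h)) = -1 / 2 := by
    have key : 2 * (c : ℂ) * (u * w) / ((c - h) * (c + h)) =
        (X - L) * (t - S) / (c - 1 - f) + (L + X) * (S - t) / (1 + c + f) := by
      subst hw; subst hhd; subst hu
      field_simp
      ring
    rw [key]; linear_combination h6b - h3b
  have d3 : 2 * (c : ℂ) * u ^ 2 / ((c - h) * (c + h)) = -1 / 3 := by
    have key : 2 * (c : ℂ) * u ^ 2 / ((c - h) * (c + h)) =
        (t - S) ^ 2 / (c - 1 - f) + (S - t) ^ 2 / (1 + c + f) := by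
      subst hhd; subst hu
      field_simp
      ring
    rw [key]; linear_combination h6c - h3c
  have hwu : w = 3 / 2 * u := by
    have : (2 * (c : ℂ) * u / ((c - h) * (c + h))) * (w - 3 / 2 * u) = 0 := by
      linear_combination d2 - 3 / 2 * d3
    refine sub_eq_zero.mp ((mul_eq_zero.mp this).resolve_left fun h0 => ?_)
    have : (-1 : ℂ) / 3 = 0 := by rw [← d3]; linear_combination u * h0
    norm_num at this
  have hh'' : h ≠ 0 := by rw [hhd]; exact hh'
  -- the first part of the middle scatter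
  have hu2 : (c : ℂ) * u ^ 2 = -((c - h) * (c + h)) / 6 := by
    field_simp at d3 ⊢
    linear_combination d3
  obtain ⟨W, hW⟩ : ∃ W : ℂ, W = S + t / f := ⟨_, rfl⟩
  have a1 : (f : ℂ) / h * L ^ 2 = 3 / 2 + 9 / 4 * ((c - h) / (6 * h)) := by
    have key : L ^ 2 + X ^ 2 / c - (L + X) ^ 2 / (1 + c + f) =
        (f : ℂ) / h * L ^ 2 + c * w ^ 2 / (h * (c + h)) := by
      subst hw; subst hhd
      field_simp
      ring
    have h2 : (c : ℂ) * w ^ 2 / (h * (c + h)) = -(9 / 4) * ((c - h) / (6 * h)) := by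
      rw [hwu]
      field_simp at hu2 ⊢
      linear_combination 36 * hu2
    linear_combination h3a - key - h2
  have a2 : (f : ℂ) / h * (L * W) = 1 + 3 / 2 * ((c - h) / (6 * h)) := by
    have key : L * S - (L + X) * (S - t) / (1 + c + f) =
        (f : ℂ) / h * (L * W) + c * (u * w) / (h * (c + h)) := by
      subst hw; subst hhd; subst hW; subst hu
      field_simp
      ring
    have h2 : (c : ℂ) * (u * w) / (h * (c + h)) = -(3 / 2) * ((c - h) / (6 * h)) := by
      rw [hwu]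
      field_simp at hu2 ⊢
      linear_combination hu2
    linear_combination h3b - key - h2
  have a3 : (f : ℂ) / h * W ^ 2 = 4 / 3 + (c - h) / (6 * h) := by
    have key : S ^ 2 + t ^ 2 / f - (S - t) ^ 2 / (1 + c + f) =
        (f : ℂ) / h * W ^ 2 + c * u ^ 2 / (h * (c + h)) := by
      subst hhd; subst hW; subst hu
      field_simp
      ring
    have h2 : (c : ℂ) * u ^ 2 / (h * (c + h)) = -((c - h) / (6 * h)) := by
      field_simp at hu2 ⊢
      linear_combination hu2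
    linear_combination h3c - key - h2
  have hc3 : (c : ℂ) = -3 * h := by
    have h0 : 1 + 3 / 2 * ((c - h : ℂ) / (6 * h)) = 0 := by
      linear_combination -((f : ℂ) / h * L ^ 2) * a3 - (4 / 3 + (c - h : ℂ) / (6 * h)) * a1
        + ((f : ℂ) / h * (L * W) + (1 + 3 / 2 * ((c - h : ℂ) / (6 * h)))) * a2
    field_simp at h0
    linear_combination h0 / 3
  have hL : L = 0 := by
    rw [hc3] at a1
    field_simp at a1
    ring_nf at a1
    simpa [hf'] using a1
  have hX : X ^ 2 = 9 * h := by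
    rw [hL, zero_sub, hwu, hc3] at hw
    rw [hc3] at hu2
    have hX9 : X = 9 / 2 * u := by
      have h3 : h * X / (-3 * h) = -X / 3 := by field_simp
      rw [h3] at hw
      linear_combination -3 * hw
    apply mul_left_cancel₀ hh''
    rw [hX9]
    linear_combination (-27 / 4 : ℂ) * hu2
  have hg : (e : ℂ) = 1 := by
    have hX5 : 2 * ((e : ℂ) + f) * X ^ 2 - 3 * c * (c + (e + f)) = 0 := by
      field_simp at h5
      linear_combination h5
    rw [hc3] at hX5
    have h5' : 9 * h * ((e : ℂ) + f - h) = 0 := by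
      linear_combination (1 / 3 : ℂ) * hX5 - (2 * ((e : ℂ) + f) / 3) * hX
    have := (mul_eq_zero.mp h5').resolve_left (mul_ne_zero (by norm_num) hh'')
    linear_combination this + hhd
  exact_mod_cast hg

end CfsgLib.CubeSFour
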