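import Cfsg.Agent.Lib.Involutions.CubeSFour.Setting
import Cfsg.Agent.Lib.Involutions.CubeSFour.Analysis
import Cfsg.Agent.Lib.ThreeLocalChars.Tools
import Cfsg.Agent.Lib.Chars.Induction
import Cfsg.Agent.Lib.Chars.Linear

/-!
# The five induced virtual characters
-/

set_option autoImplicit false
set_option linter.style.haveILetI false
set_option linter.unusedSectionVars false

namespace CfsgLib.CubeSFour

open Cfsg CfsgLib.ThreeLocalChars
open scoped ComplexConjugate

namespace Z12

/-- The complex value. -/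
noncomputable def ev (x : Z12) : ℂ :=
  x.a + x.b * cubeRoot + Complex.I * (x.c + x.d * cubeRoot)

theorem ev_zero : zero.ev = 0 := by simp [ev, zero]

theorem ev_int (n : ℤ) : (int n).ev = n := by simp [ev, int]

theorem ev_add (x y : Z12) : (add x y).ev = x.ev + y.ev := by
  simp only [ev, add]; push_cast; ring

theorem ev_sub (x y : Z12) : (sub x y).ev = x.ev - y.ev := by
  simp only [ev, sub]; push_cast; ring

theorem ev_mul (x y : Z12) : (mul x y).ev = x.ev * y.ev := by
  obtain ⟨a, b, c, d⟩ := x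
  obtain ⟨a', b', c', d'⟩ := y
  simp only [ev, mul]
  push_cast
  linear_combination
    -((b * b' : ℂ) - d * d' + Complex.I * (b * d' + d * b')) * cubeRoot_sq
    - ((c : ℂ) + d * cubeRoot) * (c' + d' * cubeRoot) * Complex.I_mul_I

theorem ev_conj (x : Z12) : x.conj.ev = conj x.ev := by
  obtain ⟨a, b, c, d⟩ := x
  simp only [ev, Z12.conj, map_add, map_mul, map_intCast, conj_cubeRoot, Complex.conj_I]
  push_cast
  ring

theorem ev_sum : ∀ l : List Z12, (sum l).ev = (l.map ev).sum
  | [] => by rw [sum, ev_zero]; rfl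
  | x :: r => by rw [sum, ev_add, ev_sum r]; rfl

theorem eq_of_beq {x y : Z12} (h : x.beq y = true) : x = y := by
  obtain ⟨a, b, c, d⟩ := x
  obtain ⟨a', b', c', d'⟩ := y
  simp only [beq, Bool.and_eq_true, beq_iff_eq] at h
  obtain ⟨⟨⟨rfl, rfl⟩, rfl⟩, rfl⟩ := h
  rfl

end Z12

theorem mem_idxList (i : Idx) : i ∈ idxList := by cases i <;> simp [idxList]

theorem VT.find_isSome (t : VT) {a : ℕ} (h : (t.find a).isSome = true) :
    a ∈ t.toList.map Prod.fst := by
  obtain ⟨z, hz⟩ := Option.isSome_iff_exists.mp h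
  exact List.mem_map.mpr ⟨(a, z), t.mem_of_find hz, rfl⟩

theorem table_facts (i : Idx) : homOK i.gen i.pos = true ∧ homOK i.gen i.neg = true ∧
    i.neg.toList.map Prod.fst = i.elems ∧ i.elems.Nodup ∧ i.elems.length = i.ord := by
  have h := List.all_eq_true.mp tables_ok i (mem_idxList i)
  simp only [Bool.and_eq_true, beq_iff_eq] at h
  exact ⟨h.1.1.1.1, h.1.1.1.2, h.1.1.2, nodup_of_increasing h.1.2, h.2⟩

/-- The three generators of `3³` and the extending element. -/
def Idx.gens4 (i : Idx) : List ℕ := [JL.getD 9 idc, JL.getD 3 idc, JL.getD 1 idc, i.gen]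

theorem homOK_spec {g : ℕ} {T : VT} (h : homOK g T = true) :
    (look T idc).beq (Z12.int 1) = true ∧ ∀ x ∈ [JL.getD 9 idc, JL.getD 3 idc, JL.getD 1 idc, g],
      x ∈ T.toList.map Prod.fst ∧ ∀ a ∈ T.toList.map Prod.fst, a ∈ KL ∧
        comp x a ∈ T.toList.map Prod.fst ∧ look T (comp x a) = (look T x).mul (look T a) := by
  simp only [homOK, Bool.and_eq_true, List.all_eq_true] at h
  refine ⟨h.1, fun x hx => ?_⟩
  obtain ⟨h1, h2⟩ := h.2 x hx
  refine ⟨T.find_isSome h1, fun a ha => ?_⟩
  obtain ⟨p, hp, rfl⟩ := List.mem_map.mp ha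
  obtain ⟨⟨⟨h3, h4⟩, h5⟩, h6⟩ := h2 p hp
  refine ⟨mem_of_inK h5, T.find_isSome h3, ?_⟩
  rw [Z12.eq_of_beq h6]
  exact Z12.eq_of_beq h4

theorem comp_assoc' {G : Type*} [Group G] {H : Subgroup G} (c : Config H) {a b d : ℕ}
    (ha : a ∈ KL) (hb : b ∈ KL) (hd : d ∈ KL) : comp (comp a b) d = comp a (comp b d) := by
  obtain ⟨x, hx, rfl⟩ := c.surj a ha
  obtain ⟨y, hy, rfl⟩ := c.surj b hb
  obtain ⟨z, hz, rfl⟩ := c.surj d hd
  rw [← c.code_mul _ hx _ hy, ← c.code_mul _ (H.mul_mem hx hy) _ hz, mul_assoc,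
    c.code_mul _ hx _ (H.mul_mem hy hz), c.code_mul _ hy _ hz]

namespace Config

universe u

variable {G : Type u} [Group G] {H : Subgroup G} (c : Config H)

theorem elems_KL (i : Idx) {a : ℕ} (ha : a ∈ i.elems) : a ∈ KL :=
  (((homOK_spec (table_facts i).1).2 _ (List.mem_cons_self ..)).2 a ha).1

theorem idc_mem (i : Idx) : idc ∈ i.elems := by
  have hall : idxList.all (fun i => i.elems.contains idc) = true := by decide +kernel
  exact List.contains_iff_mem.mp (List.all_eq_true.mp hall i (mem_idxList i))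

theorem elems_word (i : Idx) {a : ℕ} (ha : a ∈ i.elems) :
    ∃ L : List ℕ, (∀ x ∈ L, x ∈ i.gens4) ∧ L.foldr comp idc = a := by
  have h := List.all_eq_true.mp elems_gen i (mem_idxList i)
  have h2 := List.contains_iff_mem.mp (List.all_eq_true.mp h a ha)
  obtain ⟨k, -, hk⟩ := List.mem_flatMap.mp h2
  obtain ⟨j, -, e⟩ := List.mem_map.mp hk
  refine ⟨_, fun x hx => ?_, e⟩
  simp only [List.mem_append, List.mem_replicate] at hx
  simp only [Idx.gens4, List.mem_cons, List.not_mem_nil, or_false]
  tauto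

theorem comp_idc (c : Config H) {a : ℕ} (ha : a ∈ KL) : comp idc a = a ∧ comp a idc = a := by
  obtain ⟨x, hx, rfl⟩ := c.surj a ha
  constructor
  · rw [← c.code_one, ← c.code_mul _ H.one_mem _ hx, one_mul]
  · rw [← c.code_one, ← c.code_mul _ hx _ H.one_mem, mul_one]

theorem table_one (c : Config H) (i : Idx) {b : ℕ} (hb : b ∈ i.elems) :
    (look i.pos (comp idc b)).ev = (look i.pos idc).ev * (look i.pos b).ev ∧
      (look i.neg (comp idc b)).ev = (look i.neg idc).ev * (look i.neg b).ev := by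
  have e1 : (look i.pos idc).ev = 1 := by
    rw [Z12.eq_of_beq (homOK_spec (table_facts i).1).1, Z12.ev_int, Int.cast_one]
  have e2 : (look i.neg idc).ev = 1 := by
    rw [Z12.eq_of_beq (homOK_spec (table_facts i).2.1).1, Z12.ev_int, Int.cast_one]
  have e3 := congrArg (fun z => (look i.pos z).ev) (c.comp_idc (elems_KL i hb)).1
  have e4 := congrArg (fun z => (look i.neg z).ev) (c.comp_idc (elems_KL i hb)).1
  exact ⟨by rw [e1, one_mul]; exact e3, by rw [e2, one_mul]; exact e4⟩

/-- Multiplicativity at one element. -/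
def MulOK (i : Idx) (a : ℕ) : Prop := a ∈ i.elems ∧ ∀ b ∈ i.elems, comp a b ∈ i.elems ∧
  (look i.pos (comp a b)).ev = (look i.pos a).ev * (look i.pos b).ev ∧
  (look i.neg (comp a b)).ev = (look i.neg a).ev * (look i.neg b).ev

/-- The algebra of the inductive step, away from the concrete codes. -/
theorem mulOK_step_aux {E : List ℕ} {f g : ℕ → Z12} {cmp : ℕ → ℕ → ℕ} {x a b : ℕ}
    (hass : cmp (cmp x a) b = cmp x (cmp a b))
    (h1 : cmp x (cmp a b) ∈ E)
    (p1 : f (cmp x (cmp a b)) = (f x).mul (f (cmp a b))) (p2 : f (cmp x a) = (f x).mul (f a))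
    (p3 : (f (cmp a b)).ev = (f a).ev * (f b).ev)
    (n1 : g (cmp x (cmp a b)) = (g x).mul (g (cmp a b))) (n2 : g (cmp x a) = (g x).mul (g a))
    (n3 : (g (cmp a b)).ev = (g a).ev * (g b).ev) :
    cmp (cmp x a) b ∈ E ∧ (f (cmp (cmp x a) b)).ev = (f (cmp x a)).ev * (f b).ev ∧
      (g (cmp (cmp x a) b)).ev = (g (cmp x a)).ev * (g b).ev := by
  rw [hass]
  refine ⟨h1, ?_, ?_⟩
  · rw [p1, p2, Z12.ev_mul, Z12.ev_mul, p3, mul_assoc]
  · rw [n1, n2, Z12.ev_mul, Z12.ev_mul, n3, mul_assoc]

theorem mulOK_step (c : Config H) (i : Idx) {x a : ℕ} (hx : x ∈ i.gens4) (h : MulOK i a) :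
    MulOK i (comp x a) := by
  obtain ⟨hp, hn, hfst, -, -⟩ := table_facts i
  obtain ⟨-, pg⟩ := homOK_spec hp
  obtain ⟨-, ng⟩ := homOK_spec hn
  have hxE : x ∈ i.elems := (pg x hx).1
  have hxa := (pg x hx).2 a h.1
  refine ⟨hxa.2.1, fun b hb => ?_⟩
  obtain ⟨h1, h2, h3⟩ := h.2 b hb
  have hxab := (pg x hx).2 (comp a b) h1
  have nxa := (ng x hx).2 a (hfst.symm ▸ h.1)
  have nxab := (ng x hx).2 (comp a b) (hfst.symm ▸ h1)
  exact mulOK_step_aux (E := i.elems) (f := look i.pos) (g := look i.neg) (cmp := comp)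
    (comp_assoc' c (elems_KL i hxE) (elems_KL i h.1) (elems_KL i hb)) hxab.2.1 hxab.2.2 hxa.2.2 h2
    nxab.2.2 nxa.2.2 h3

theorem mulOK_idc (c : Config H) (i : Idx) : MulOK i idc :=
  ⟨idc_mem i, fun b hb =>
    ⟨Eq.subst (motive := fun z => z ∈ i.elems) (c.comp_idc (elems_KL i hb)).1.symm hb,
      table_one c i hb⟩⟩

/-- The tables are multiplicative. -/
theorem table_mul (c : Config H) (i : Idx) {a b : ℕ} (ha : a ∈ i.elems) (hb : b ∈ i.elems) :
    comp a b ∈ i.elems ∧ (look i.pos (comp a b)).ev = (look i.pos a).ev * (look i.pos b).ev ∧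
      (look i.neg (comp a b)).ev = (look i.neg a).ev * (look i.neg b).ev := by
  obtain ⟨L, hL, hLa⟩ := elems_word i ha
  have hall : ∀ L : List ℕ, (∀ x ∈ L, x ∈ i.gens4) → MulOK i (L.foldr comp idc) := by
    intro L
    induction L with
    | nil =>
      intro _
      rw [List.foldr_nil]
      exact mulOK_idc c i
    | cons x L ih =>
      intro hL
      rw [List.foldr_cons]
      exact mulOK_step c i (hL x List.mem_cons_self)
        (ih fun y hy => hL y (List.mem_cons_of_mem _ hy))
  exact (Eq.subst (motive := MulOK i) hLa (hall L hL)).2 b hb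

variable [Finite G]

/-- The subgroup of index `i`. -/
noncomputable def sub (i : Idx) : Subgroup G :=
  Subgroup.closure {g | g ∈ H ∧ c.code g ∈ i.elems}

theorem mem_sub (i : Idx) {g : G} : g ∈ c.sub i ↔ g ∈ H ∧ c.code g ∈ i.elems := by
  refine ⟨fun h => ?_, fun h => Subgroup.subset_closure h⟩
  induction h using Subgroup.closure_induction with
  | mem x hx => exact hx
  | one =>
    refine ⟨H.one_mem, ?_⟩
    rw [c.code_one]
    exact idc_mem i
  | mul x y _ _ hx hy =>
    refine ⟨H.mul_mem hx.1 hy.1, ?_⟩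
    rw [c.code_mul _ hx.1 _ hy.1]
    exact (c.table_mul i hx.2 hy.2).1
  | inv x _ hx =>
    have hpow : ∀ n : ℕ, c.code (x ^ n) ∈ i.elems := by
      intro n
      induction n with
      | zero =>
        rw [pow_zero, c.code_one]
        exact idc_mem i
      | succ n ih =>
        rw [pow_succ', c.code_mul _ hx.1 _ (H.pow_mem hx.1 n)]
        exact (c.table_mul i hx.2 ih).1
    refine ⟨H.inv_mem hx.1, ?_⟩
    have hinv : x⁻¹ = x ^ (orderOf x - 1) := by
      refine inv_eq_of_mul_eq_one_right ?_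
      rw [← pow_succ', Nat.sub_add_cancel (orderOf_pos x), pow_orderOf_eq_one]
    rw [hinv]
    exact hpow _

theorem look_one (i : Idx) : (look i.pos idc).ev = 1 ∧ (look i.neg idc).ev = 1 := by
  rw [Z12.eq_of_beq (homOK_spec (table_facts i).1).1,
    Z12.eq_of_beq (homOK_spec (table_facts i).2.1).1, Z12.ev_int]
  simp

/-- The character with positive sign. -/
noncomputable def lamP (i : Idx) : c.sub i →* ℂˣ :=
  MonoidHom.toHomUnits
    { toFun := fun m => (look i.pos (c.code (m : G))).ev
      map_one' := by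
        show (look i.pos (c.code (1 : G))).ev = 1
        rw [c.code_one]; exact (look_one i).1
      map_mul' := fun m m' => by
        show (look i.pos (c.code ((m : G) * m'))).ev = _
        have hm := (c.mem_sub i).mp m.2
        have hm' := (c.mem_sub i).mp m'.2
        rw [c.code_mul _ hm.1 _ hm'.1]
        exact (c.table_mul i hm.2 hm'.2).2.1 }

/-- The character with negative sign. -/
noncomputable def lamN (i : Idx) : c.sub i →* ℂˣ :=
  MonoidHom.toHomUnits
    { toFun := fun m => (look i.neg (c.code (m : G))).ev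
      map_one' := by
        show (look i.neg (c.code (1 : G))).ev = 1
        rw [c.code_one]; exact (look_one i).2
      map_mul' := fun m m' => by
        show (look i.neg (c.code ((m : G) * m'))).ev = _
        have hm := (c.mem_sub i).mp m.2
        have hm' := (c.mem_sub i).mp m'.2
        rw [c.code_mul _ hm.1 _ hm'.1]
        exact (c.table_mul i hm.2 hm'.2).2.2 }

/-- The inducing class function. -/
noncomputable def th (i : Idx) (m : c.sub i) : ℂ := (i.theta (c.code (m : G))).ev

theorem th_eq (i : Idx) :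
    c.th i = (fun m => (c.lamP i m : ℂ)) - fun m => (c.lamN i m : ℂ) := by
  funext m
  simp only [th, Idx.theta, Z12.ev_sub, Pi.sub_apply]
  rfl

variable [Fintype G]

/-- The induced virtual character. -/
noncomputable def ind (i : Idx) : G → ℂ := indFun (c.sub i) (c.th i)

theorem sum_sub (i : Idx) [Fintype (c.sub i)] (F : G → ℂ) :
    ∑ m : c.sub i, F m = (i.elems.map fun a => F (c.el a)).sum := by
  classical
  rw [← List.sum_toFinset _ (table_facts i).2.2.2.1]
  refine Finset.sum_bij' (fun (m : c.sub i) _ => c.code (m : G))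
    (fun a ha => ⟨c.el a, (c.mem_sub i).mpr ⟨c.el_mem a, ?_⟩⟩) ?_ ?_ ?_ ?_ ?_
  · rw [c.code_el (elems_KL i (List.mem_toFinset.mp ha))]
    exact List.mem_toFinset.mp ha
  · exact fun m _ => List.mem_toFinset.mpr ((c.mem_sub i).mp m.2).2
  · exact fun a _ => Finset.mem_univ _
  · exact fun m _ => Subtype.ext (c.el_code ((c.mem_sub i).mp m.2).1)
  · exact fun a ha => c.code_el (elems_KL i (List.mem_toFinset.mp ha))
  · intro m _
    rw [c.el_code ((c.mem_sub i).mp m.2).1]

theorem card_sub (i : Idx) : Nat.card (c.sub i) = i.ord := by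
  classical
  haveI := Fintype.ofFinite (c.sub i)
  have h := c.sum_sub i (fun _ => (1 : ℂ))
  simp only [Finset.sum_const, Finset.card_univ, nsmul_eq_mul, mul_one, List.map_const',
    List.sum_replicate, (table_facts i).2.2.2.2] at h
  rw [Nat.card_eq_fintype_card]
  exact_mod_cast h

theorem th_el (i : Idx) {a : ℕ} (ha : a ∈ i.elems) :
    c.th i ⟨c.el a, (c.mem_sub i).mpr
      ⟨c.el_mem a, by rw [c.code_el (elems_KL i ha)]; exact ha⟩⟩ = (i.theta a).ev := by
  simp only [th, c.code_el (elems_KL i ha)]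

theorem isClassFunction_ind (i : Idx) : IsClassFunction G (c.ind i) :=
  Chars.isClassFunction_indFun _ _

theorem isGeneralized_ind (i : Idx) : IsGeneralizedCharacter G (c.ind i) := by
  refine Chars.isGeneralized_indFun _ ?_
  rw [c.th_eq i]
  exact ⟨_, _, Chars.isCharacter_of_irr (Chars.isIrrCharacter_linear _),
    Chars.isCharacter_of_irr (Chars.isIrrCharacter_linear _), rfl⟩

/-- Inner products with class functions are sums over the table. -/
theorem inner_ind (i : Idx) {F : G → ℂ} (hF : IsClassFunction G F) :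
    classInner (c.ind i) F = (i.ord : ℂ)⁻¹ *
      (i.elems.map fun a => (i.theta a).ev * conj (F (c.el a))).sum := by
  classical
  haveI := Fintype.ofFinite (c.sub i)
  rw [ind, Chars.inner_indFun _ _ hF, Chars.inner_def, c.card_sub i]
  congr 1
  rw [← c.sum_sub i (fun g => (i.theta (c.code g)).ev * conj (F g)) |>.trans
    (congrArg List.sum (List.map_congr_left fun a ha => by rw [c.code_el (elems_KL i ha)]))]
  rfl

theorem theta_supp (i : Idx) {a : ℕ} (ha : a ∈ i.elems) (h : isD a = false) :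
    i.theta a = Z12.zero := by
  have h' := List.all_eq_true.mp (List.all_eq_true.mp supp_ok i (mem_idxList i)) a ha
  rw [h, Bool.or_false] at h'
  exact Z12.eq_of_beq h'

theorem ext_ne_zero (i : Idx) {z : G} (hz : extendByZero (c.sub i) (c.th i) z ≠ 0) :
    z ∈ H ∧ c.code z ∈ i.elems ∧ isD (c.code z) = true := by
  by_cases hzm : z ∈ c.sub i
  · obtain ⟨h1, h2⟩ := (c.mem_sub i).mp hzm
    refine ⟨h1, h2, ?_⟩
    by_contra hD
    rw [Bool.not_eq_true] at hD
    rw [Chars.extendByZero_of_mem _ _ hzm] at hz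
    apply hz
    simp only [th, theta_supp i h2 hD, Z12.ev_zero]
  · exact absurd (Chars.extendByZero_of_not_mem _ _ hzm) hz

theorem ind_sq (i : Idx) {a : G} (ha : a * a = 1) : c.ind i a = 0 := by
  rw [ind, Chars.indFun_apply, Finset.sum_eq_zero fun x _ => ?_, mul_zero]
  by_contra hne
  obtain ⟨h1, -, h3⟩ := c.ext_ne_zero i hne
  refine c.isD_not_sq h1 h3 ?_
  calc (x⁻¹ * a * x) ^ 2 = x⁻¹ * (a * a) * x := by simp [pow_two, mul_assoc]
    _ = 1 := by rw [ha]; simp

theorem ext_conj_sub (i : Idx) {l : G} (hl : l ∈ c.sub i) (z : G) :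
    extendByZero (c.sub i) (c.th i) (l⁻¹ * z * l) = extendByZero (c.sub i) (c.th i) z := by
  by_cases hz : z ∈ c.sub i
  · have hz' : l⁻¹ * z * l ∈ c.sub i :=
      (c.sub i).mul_mem ((c.sub i).mul_mem ((c.sub i).inv_mem hl) hz) hl
    rw [Chars.extendByZero_of_mem _ _ hz, Chars.extendByZero_of_mem _ _ hz', c.th_eq i]
    have e : (⟨l⁻¹ * z * l, hz'⟩ : c.sub i) = ⟨l, hl⟩⁻¹ * ⟨z, hz⟩ * ⟨l, hl⟩ := rfl
    simp only [Pi.sub_apply, e, map_mul, map_inv]
    simp [mul_comm]
  · rw [Chars.extendByZero_of_not_mem _ _ hz, Chars.extendByZero_of_not_mem]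
    intro h
    exact hz (by simpa [mul_assoc] using
      (c.sub i).mul_mem ((c.sub i).mul_mem hl h) ((c.sub i).inv_mem hl))

theorem ext_el (i : Idx) {z : G} (hz : z ∈ H) :
    extendByZero (c.sub i) (c.th i) z = (i.theta (c.code z)).ev := by
  by_cases hm : z ∈ c.sub i
  · rw [Chars.extendByZero_of_mem _ _ hm]; rfl
  · rw [Chars.extendByZero_of_not_mem _ _ hm]
    have hn : c.code z ∉ i.elems := fun h => hm ((c.mem_sub i).mpr ⟨hz, h⟩)
    have h1 : i.pos.find (c.code z) = none := by
      by_contra hs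
      obtain ⟨v, hv⟩ := Option.ne_none_iff_exists'.mp hs
      exact hn (i.pos.find_isSome (by rw [hv]; rfl))
    have h2 : i.neg.find (c.code z) = none := by
      by_contra hs
      obtain ⟨v, hv⟩ := Option.ne_none_iff_exists'.mp hs
      exact hn ((table_facts i).2.2.1 ▸ i.neg.find_isSome (by rw [hv]; rfl))
    rw [Idx.theta, look, look, h1, h2, Z12.ev_sub]
    simp

/-- The values of an induced function at the elements with trivial intersections. -/
theorem ind_apply (i : Idx) {a : ℕ} (ha : a ∈ KL) (hD : isD a = true) :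
    c.ind i (c.el a) = (i.induced a).ev := by
  classical
  have htr := List.all_eq_true.mp trans_ok i (mem_idxList i)
  simp only [Bool.and_eq_true, List.all_eq_true, beq_iff_eq, Bool.or_eq_true,
    Bool.not_eq_true'] at htr
  obtain ⟨⟨⟨hT, hcard⟩, hnd⟩, hdisj⟩ := htr
  haveI := Fintype.ofFinite (c.sub i)
  haveI := Fintype.ofFinite H
  let T := i.trans
  have hTnd : T.Nodup := by
    have key : ∀ l : List ℕ, nodupB l = true → l.Nodup := by
      intro l
      induction l with
      | nil => simp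
      | cons x l ih =>
        intro h
        simp only [nodupB, Bool.and_eq_true, Bool.not_eq_true', List.contains_eq_mem,
          decide_eq_false_iff_not] at h
        exact List.nodup_cons.mpr ⟨h.1, ih h.2⟩
    exact key _ hnd
  let f : ↥T.toFinset × c.sub i → H := fun p =>
    ⟨c.el p.1 * p.2, H.mul_mem (c.el_mem _) ((c.mem_sub i).mp p.2.2).1⟩
  have hf : Function.Bijective f := by
    refine Function.Injective.bijective_of_nat_card_le (fun p q e => ?_) ?_
    · have e' : c.el p.1 * (p.2 : G) = c.el q.1 * q.2 := congrArg Subtype.val e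
      have hp := List.mem_toFinset.mp p.1.2
      have hq := List.mem_toFinset.mp q.1.2
      have h1 : (c.el p.1)⁻¹ * c.el q.1 = (p.2 : G) * (q.2 : G)⁻¹ := by
        calc (c.el p.1)⁻¹ * c.el q.1 = (c.el p.1)⁻¹ * (c.el q.1 * q.2) * (q.2 : G)⁻¹ := by group
          _ = _ := by rw [← e']; group
      have h2 : comp (cinv (p.1 : ℕ)) (q.1 : ℕ) ∈ i.elems := by
        have hm := ((c.mem_sub i).mp ((c.sub i).mul_mem p.2.2 ((c.sub i).inv_mem q.2.2))).2
        rw [← h1, c.code_mul _ (H.inv_mem (c.el_mem _)) _ (c.el_mem _), c.code_inv (c.el_mem _),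
          c.code_el' (hT _ hp), c.code_el' (hT _ hq)] at hm
        exact hm
      have hpq : (p.1 : ℕ) = q.1 := by
        rcases hdisj _ hp _ hq with h | h
        · exact h
        · obtain ⟨x, hx, hxe⟩ := List.mem_map.mp h2
          have hs : (i.pos.find (comp (cinv (p.1 : ℕ)) (q.1 : ℕ))).isSome = true := by
            have hok := (table_facts i).1
            simp only [homOK, Bool.and_eq_true, List.all_eq_true] at hok
            have hh := (hok.2 (JL.getD 9 idc) (by simp)).2 x hx
            have heq := Z12.eq_of_beq hh.2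
            rw [← hxe]
            by_contra hnone
            rw [Bool.not_eq_true, Option.isSome_eq_false_iff, Option.isNone_iff_eq_none] at hnone
            have hnz : (look i.pos x.1).ev = 0 := by
              rw [look, hnone]; simp [Z12.ev_zero]
            have hxm : c.el x.1 ∈ c.sub i := (c.mem_sub i).mpr ⟨c.el_mem _, by
              rw [c.code_el (elems_KL i (List.mem_map.mpr ⟨x, hx, rfl⟩))]
              exact List.mem_map.mpr ⟨x, hx, rfl⟩⟩
            refine (c.lamP i ⟨_, hxm⟩).ne_zero ?_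
            show (look i.pos (c.code (c.el x.1))).ev = 0
            rw [c.code_el (elems_KL i (List.mem_map.mpr ⟨x, hx, rfl⟩)), hnz]
          rw [hs] at h
          exact absurd h (by simp)
      have hp12 : p.1 = q.1 := Subtype.ext hpq
      refine Prod.ext hp12 (Subtype.ext ?_)
      rw [hpq] at e'
      exact mul_left_cancel e'
    · rw [Nat.card_prod, Nat.card_eq_finsetCard, List.toFinset_card_of_nodup hTnd, c.card_sub i,
        hcard]
      refine le_of_eq ?_
      rw [← List.toFinset_card_of_nodup KL_nodup |>.trans KL_length, ← Nat.card_eq_finsetCard]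
      exact Nat.card_congr
        { toFun := fun h => ⟨c.code (h : G), List.mem_toFinset.mpr (c.mem_KL _ h.2)⟩
          invFun := fun a => ⟨c.el a.1, c.el_mem _⟩
          left_inv := fun h => Subtype.ext (c.el_code h.2)
          right_inv := fun a => Subtype.ext (c.code_el (List.mem_toFinset.mp a.2)) }
  rw [ind, Chars.indFun_apply]
  have hsupp : ∀ x : G, x ∉ H →
      extendByZero (c.sub i) (c.th i) (x⁻¹ * c.el a * x) = 0 := by
    intro x hx
    by_contra hne
    obtain ⟨h1, -, -⟩ := c.ext_ne_zero i hne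
    refine hx ?_
    have := c.tiD (g := x⁻¹) (c.el_mem a) (by rw [c.code_el ha]; exact hD) (by simpa using h1)
    simpa using H.inv_mem this
  rw [← Finset.sum_subset (Finset.subset_univ (Finset.univ.filter fun x => x ∈ H))
    (fun x _ hx => hsupp x (by simpa using hx)),
    Finset.sum_subtype (p := fun x => x ∈ H) _ (by simp)]
  rw [← Fintype.sum_equiv (Equiv.ofBijective f hf) _ _ (fun p => rfl), Fintype.sum_prod_type,
    Finset.univ_eq_attach]
  refine Eq.trans (congrArg _ (Finset.sum_attach T.toFinset (fun t => ∑ l : c.sub i,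
    extendByZero (c.sub i) (c.th i) ((c.el t * l)⁻¹ * c.el a * (c.el t * l))))) ?_
  have hinner : ∀ t ∈ T.toFinset, (∑ l : c.sub i, extendByZero (c.sub i) (c.th i)
      ((c.el t * l)⁻¹ * c.el a * (c.el t * l))) =
      (Nat.card (c.sub i) : ℂ) * (i.theta (comp (cinv t) (comp a t))).ev := by
    intro t ht
    have htK := hT t (List.mem_toFinset.mp ht)
    have hl : ∀ l : c.sub i, extendByZero (c.sub i) (c.th i)
        ((c.el t * (l : G))⁻¹ * c.el a * (c.el t * l)) =
          (i.theta (comp (cinv t) (comp a t))).ev := by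
      intro l
      rw [show (c.el t * (l : G))⁻¹ * c.el a * (c.el t * l) =
          (l : G)⁻¹ * ((c.el t)⁻¹ * (c.el a * c.el t)) * l by group,
        c.ext_conj_sub i l.2, c.ext_el i (H.mul_mem (H.inv_mem (c.el_mem t))
          (H.mul_mem (c.el_mem a) (c.el_mem t))),
        c.code_mul _ (H.inv_mem (c.el_mem t)) _ (H.mul_mem (c.el_mem a) (c.el_mem t)),
        c.code_inv (c.el_mem t), c.code_mul _ (c.el_mem a) _ (c.el_mem t), c.code_el ha,
        c.code_el' htK]
    rw [Finset.sum_congr rfl (fun l _ => hl l), Finset.sum_const, Finset.card_univ, nsmul_eq_mul,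
      Nat.card_eq_fintype_card]
  rw [Finset.sum_congr rfl hinner, ← Finset.mul_sum, ← mul_assoc, inv_mul_cancel₀
    (Nat.cast_ne_zero.mpr Nat.card_pos.ne'), one_mul, List.sum_toFinset _ hTnd, Idx.induced,
    Z12.ev_sum, List.map_map]
  rfl

end Config

end CfsgLib.CubeSFour
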