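import Mathlib

/-!
# The group `3³ : S₄` as a set of permutations of nine points

A permutation is coded by the number whose base sixteen digits are its values, so that the finite
facts are checked by arithmetic.
-/

set_option autoImplicit false
set_option maxRecDepth 100000

namespace CfsgLib.CubeSFour

/-- The `i`-th value of a code. -/
def nib (a i : ℕ) : ℕ := Nat.mod (Nat.div a (Nat.pow 16 i)) 16

/-- Composition of codes. -/
def comp (a b : ℕ) : ℕ :=
  (Nat.add (nib a (nib b 0))
    (Nat.add (Nat.mul (nib a (nib b 1)) 16)
    (Nat.add (Nat.mul (nib a (nib b 2)) 256)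
    (Nat.add (Nat.mul (nib a (nib b 3)) 4096)
    (Nat.add (Nat.mul (nib a (nib b 4)) 65536)
    (Nat.add (Nat.mul (nib a (nib b 5)) 1048576)
    (Nat.add (Nat.mul (nib a (nib b 6)) 16777216)
    (Nat.add (Nat.mul (nib a (nib b 7)) 268435456)
    (Nat.mul (nib a (nib b 8)) 4294967296)))))))))

/-- The identity. -/
def idc : ℕ := 36344967696

/-- Powers. -/
def cpow (a : ℕ) : ℕ → ℕ
  | 0 => idc
  | n + 1 => comp a (cpow a n)

/-- The inverse. -/
def cinv (a : ℕ) : ℕ :=
  (Nat.add (Nat.mul 1 (Nat.pow 16 (nib a 1)))
    (Nat.add (Nat.mul 2 (Nat.pow 16 (nib a 2)))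
    (Nat.add (Nat.mul 3 (Nat.pow 16 (nib a 3)))
    (Nat.add (Nat.mul 4 (Nat.pow 16 (nib a 4)))
    (Nat.add (Nat.mul 5 (Nat.pow 16 (nib a 5)))
    (Nat.add (Nat.mul 6 (Nat.pow 16 (nib a 6)))
    (Nat.add (Nat.mul 7 (Nat.pow 16 (nib a 7)))
    (Nat.mul 8 (Nat.pow 16 (nib a 8))))))))))

/-- Conjugation. -/
def cconj (g a : ℕ) : ℕ := comp g (comp a (cinv g))

/-- Search trees of codes. -/
inductive CT where
  | leaf : CT
  | node : CT → ℕ → CT → CT

/-- The list of a tree. -/
def CT.toList : CT → List ℕ
  | .leaf => []
  | .node l v r => l.toList ++ v :: r.toList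

/-- Search. -/
def CT.mem : CT → ℕ → Bool
  | .leaf, _ => false
  | .node l v r, a => if a < v then l.mem a else if v < a then r.mem a else true

theorem CT.mem_toList : ∀ (t : CT) {a : ℕ}, t.mem a = true → a ∈ t.toList
  | .leaf, _, h => by simp [CT.mem] at h
  | .node l v r, a, h => by
    simp only [CT.mem] at h
    simp only [CT.toList, List.mem_append, List.mem_cons]
    split_ifs at h with h1 h2
    · exact Or.inl (l.mem_toList h)
    · exact Or.inr (Or.inr (r.mem_toList h))
    · exact Or.inr (Or.inl (by omega))

/-- Strictly increasing lists, as a boolean. -/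
def increasing : List ℕ → Bool
  | a :: b :: r => decide (a < b) && increasing (b :: r)
  | _ => true

theorem nodup_of_increasing : ∀ {l : List ℕ}, increasing l = true → l.Nodup := by
  intro l h
  have key : ∀ {l : List ℕ}, increasing l = true → List.Pairwise (· < ·) l := by
    intro l
    induction l with
    | nil => simp
    | cons a r ih =>
      cases r with
      | nil => simp
      | cons b r =>
        intro h
        simp only [increasing, Bool.and_eq_true, decide_eq_true_eq] at h
        have hr := ih h.2
        refine List.pairwise_cons.mpr ⟨fun c hc => ?_, hr⟩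
        rcases List.mem_cons.mp hc with rfl | hc
        · exact h.1
        · exact h.1.trans ((List.pairwise_cons.mp hr).1 c hc)
  exact (key h).imp fun h => Nat.ne_of_lt h

/-- The group `3³ : S₄` as a tree. -/
def KT : CT :=
 (.node
 (.node
 (.node
 (.node
 (.node
 (.node
 (.node
 (.node (.node (.node .leaf 305419896 .leaf) 305420166 .leaf) 305420391 (.node (.node .leaf 305481351 .leaf) 305481576 .leaf))
 305481846
 (.node (.node (.node .leaf 306402951 .leaf) 306403176 .leaf) 306403446 (.node .leaf 306525816 .leaf)))
 306526086
 (.node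
 (.node (.node (.node .leaf 306526311 .leaf) 307447416 .leaf) 307447686 (.node .leaf 307447911 .leaf))
 307508871
 (.node (.node (.node .leaf 307509096 .leaf) 307509366 .leaf) 308773716 (.node .leaf 308773941 .leaf))))
 308774211
 (.node
 (.node
 (.node (.node (.node .leaf 308835141 .leaf) 308835411 .leaf) 308835636 (.node .leaf 309756741 .leaf))
 309757011
 (.node (.node (.node .leaf 309757236 .leaf) 309879636 .leaf) 309879861 (.node .leaf 309880131 .leaf)))
 310801236
 (.node
 (.node (.node (.node .leaf 310801461 .leaf) 310801731 .leaf) 310862661 (.node .leaf 310862931 .leaf))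
 310863156
 (.node (.node (.node .leaf 557078151 .leaf) 557078376 .leaf) 557078646 (.node .leaf 557139576 .leaf)))))
 557139846
 (.node
 (.node
 (.node
 (.node (.node (.node .leaf 557140071 .leaf) 558061176 .leaf) 558061446 (.node (.node .leaf 558061671 .leaf) 558184071 .leaf))
 558184296
 (.node (.node (.node .leaf 558184566 .leaf) 559105671 .leaf) 559105896 (.node .leaf 559106166 .leaf)))
 559167096
 (.node
 (.node (.node (.node .leaf 559167366 .leaf) 559167591 .leaf) 560431941 (.node .leaf 560432211 .leaf))
 560432436
 (.node (.node (.node .leaf 560493396 .leaf) 560493621 .leaf) 560493891 (.node .leaf 561414996 .leaf))))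
 561415221
 (.node
 (.node
 (.node (.node (.node .leaf 561415491 .leaf) 561537861 .leaf) 561538131 (.node .leaf 561538356 .leaf))
 562459461
 (.node (.node (.node .leaf 562459731 .leaf) 562459956 .leaf) 562520916 (.node .leaf 562521141 .leaf)))
 562521411
 (.node
 (.node (.node (.node .leaf 4331951751 .leaf) 4331951976 .leaf) 4331952246 (.node .leaf 4332013176 .leaf))
 4332013446
 (.node (.node (.node .leaf 4332013671 .leaf) 4332934776 .leaf) 4332935046 (.node .leaf 4332935271 .leaf))))))
 4333057671
 (.node
 (.node
 (.node
 (.node
 (.node (.node (.node .leaf 4333057896 .leaf) 4333058166 .leaf) 4333979271 (.node (.node .leaf 4333979496 .leaf) 4333979766 .leaf))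
 4334040696
 (.node (.node (.node .leaf 4334040966 .leaf) 4334041191 .leaf) 4335305541 (.node .leaf 4335305811 .leaf)))
 4335306036
 (.node
 (.node (.node (.node .leaf 4335366996 .leaf) 4335367221 .leaf) 4335367491 (.node .leaf 4336288596 .leaf))
 4336288821
 (.node (.node (.node .leaf 4336289091 .leaf) 4336411461 .leaf) 4336411731 (.node .leaf 4336411956 .leaf))))
 4337333061
 (.node
 (.node
 (.node (.node (.node .leaf 4337333331 .leaf) 4337333556 .leaf) 4337394516 (.node .leaf 4337394741 .leaf))
 4337395011
 (.node (.node (.node .leaf 4835268216 .leaf) 4835268486 .leaf) 4835268711 (.node .leaf 4835329671 .leaf)))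
 4835329896
 (.node
 (.node (.node (.node .leaf 4835330166 .leaf) 4836251271 .leaf) 4836251496 (.node .leaf 4836251766 .leaf))
 4836374136
 (.node (.node (.node .leaf 4836374406 .leaf) 4836374631 .leaf) 4837295736 (.node .leaf 4837296006 .leaf)))))
 4837296231
 (.node
 (.node
 (.node
 (.node (.node (.node .leaf 4837357191 .leaf) 4837357416 .leaf) 4837357686 (.node .leaf 4838622036 .leaf))
 4838622261
 (.node (.node (.node .leaf 4838622531 .leaf) 4838683461 .leaf) 4838683731 (.node .leaf 4838683956 .leaf)))
 4839605061
 (.node
 (.node (.node (.node .leaf 4839605331 .leaf) 4839605556 .leaf) 4839727956 (.node .leaf 4839728181 .leaf))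
 4839728451
 (.node (.node (.node .leaf 4840649556 .leaf) 4840649781 .leaf) 4840650051 (.node .leaf 4840710981 .leaf))))
 4840711251
 (.node
 (.node
 (.node (.node (.node .leaf 4840711476 .leaf) 8610141816 .leaf) 8610142086 (.node .leaf 8610142311 .leaf))
 8610203271
 (.node (.node (.node .leaf 8610203496 .leaf) 8610203766 .leaf) 8611124871 (.node .leaf 8611125096 .leaf)))
 8611125366
 (.node
 (.node (.node (.node .leaf 8611247736 .leaf) 8611248006 .leaf) 8611248231 (.node .leaf 8612169336 .leaf))
 8612169606
 (.node (.node (.node .leaf 8612169831 .leaf) 8612230791 .leaf) 8612231016 (.node .leaf 8612231286 .leaf)))))))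
 8613495636
 (.node
 (.node
 (.node
 (.node
 (.node
 (.node (.node (.node .leaf 8613495861 .leaf) 8613496131 .leaf) 8613557061 (.node (.node .leaf 8613557331 .leaf) 8613557556 .leaf))
 8614478661
 (.node (.node (.node .leaf 8614478931 .leaf) 8614479156 .leaf) 8614601556 (.node .leaf 8614601781 .leaf)))
 8614602051
 (.node
 (.node (.node (.node .leaf 8615523156 .leaf) 8615523381 .leaf) 8615523651 (.node .leaf 8615584581 .leaf))
 8615584851
 (.node (.node (.node .leaf 8615585076 .leaf) 8861800071 .leaf) 8861800296 (.node .leaf 8861800566 .leaf))))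
 8861861496
 (.node
 (.node
 (.node (.node (.node .leaf 8861861766 .leaf) 8861861991 .leaf) 8862783096 (.node .leaf 8862783366 .leaf))
 8862783591
 (.node (.node (.node .leaf 8862905991 .leaf) 8862906216 .leaf) 8862906486 (.node .leaf 8863827591 .leaf)))
 8863827816
 (.node
 (.node (.node (.node .leaf 8863828086 .leaf) 8863889016 .leaf) 8863889286 (.node .leaf 8863889511 .leaf))
 8865153861
 (.node (.node (.node .leaf 8865154131 .leaf) 8865154356 .leaf) 8865215316 (.node .leaf 8865215541 .leaf)))))
 8865215811
 (.node
 (.node
 (.node
 (.node (.node (.node .leaf 8866136916 .leaf) 8866137141 .leaf) 8866137411 (.node .leaf 8866259781 .leaf))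
 8866260051
 (.node (.node (.node .leaf 8866260276 .leaf) 8867181381 .leaf) 8867181651 (.node .leaf 8867181876 .leaf)))
 8867242836
 (.node
 (.node (.node (.node .leaf 8867243061 .leaf) 8867243331 .leaf) 14042605191 (.node .leaf 14042605416 .leaf))
 14042605686
 (.node (.node (.node .leaf 14042666616 .leaf) 14042666886 .leaf) 14042667111 (.node .leaf 14043588216 .leaf))))
 14043588486
 (.node
 (.node
 (.node (.node (.node .leaf 14043588711 .leaf) 14043711111 .leaf) 14043711336 (.node .leaf 14043711606 .leaf))
 14044632711
 (.node (.node (.node .leaf 14044632936 .leaf) 14044633206 .leaf) 14044694136 (.node .leaf 14044694406 .leaf)))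
 14044694631
 (.node
 (.node (.node (.node .leaf 14049312786 .leaf) 14049313056 .leaf) 14049313281 (.node .leaf 14049374241 .leaf))
 14049374466
 (.node (.node (.node .leaf 14049374736 .leaf) 14050295841 .leaf) 14050296066 (.node .leaf 14050296336 .leaf))))))
 14050418706
 (.node
 (.node
 (.node
 (.node
 (.node (.node (.node .leaf 14050418976 .leaf) 14050419201 .leaf) 14051340306 (.node (.node .leaf 14051340576 .leaf) 14051340801 .leaf))
 14051401761
 (.node (.node (.node .leaf 14051401986 .leaf) 14051402256 .leaf) 14294263416 (.node .leaf 14294263686 .leaf)))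
 14294263911
 (.node
 (.node (.node (.node .leaf 14294324871 .leaf) 14294325096 .leaf) 14294325366 (.node .leaf 14295246471 .leaf))
 14295246696
 (.node (.node (.node .leaf 14295246966 .leaf) 14295369336 .leaf) 14295369606 (.node .leaf 14295369831 .leaf))))
 14296290936
 (.node
 (.node
 (.node (.node (.node .leaf 14296291206 .leaf) 14296291431 .leaf) 14296352391 (.node .leaf 14296352616 .leaf))
 14296352886
 (.node (.node (.node .leaf 14300971041 .leaf) 14300971266 .leaf) 14300971536 (.node .leaf 14301032466 .leaf)))
 14301032736
 (.node
 (.node (.node (.node .leaf 14301032961 .leaf) 14301954066 .leaf) 14301954336 (.node .leaf 14301954561 .leaf))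
 14302076961
 (.node (.node (.node .leaf 14302077186 .leaf) 14302077456 .leaf) 14302998561 (.node .leaf 14302998786 .leaf)))))
 14302999056
 (.node
 (.node
 (.node
 (.node (.node (.node .leaf 14303059986 .leaf) 14303060256 .leaf) 14303060481 (.node .leaf 18069137016 .leaf))
 18069137286
 (.node (.node (.node .leaf 18069137511 .leaf) 18069198471 .leaf) 18069198696 (.node .leaf 18069198966 .leaf)))
 18070120071
 (.node
 (.node (.node (.node .leaf 18070120296 .leaf) 18070120566 .leaf) 18070242936 (.node .leaf 18070243206 .leaf))
 18070243431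
 (.node (.node (.node .leaf 18071164536 .leaf) 18071164806 .leaf) 18071165031 (.node .leaf 18071225991 .leaf))))
 18071226216
 (.node
 (.node
 (.node (.node (.node .leaf 18071226486 .leaf) 18075844641 .leaf) 18075844866 (.node .leaf 18075845136 .leaf))
 18075906066
 (.node (.node (.node .leaf 18075906336 .leaf) 18075906561 .leaf) 18076827666 (.node .leaf 18076827936 .leaf)))
 18076828161
 (.node
 (.node (.node (.node .leaf 18076950561 .leaf) 18076950786 .leaf) 18076951056 (.node .leaf 18077872161 .leaf))
 18077872386
 (.node (.node (.node .leaf 18077872656 .leaf) 18077933586 .leaf) 18077933856 (.node .leaf 18077934081 .leaf))))))))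
 18572453511
 (.node
 (.node
 (.node
 (.node
 (.node
 (.node
 (.node (.node (.node .leaf 18572453736 .leaf) 18572454006 .leaf) 18572514936 (.node (.node .leaf 18572515206 .leaf) 18572515431 .leaf))
 18573436536
 (.node (.node (.node .leaf 18573436806 .leaf) 18573437031 .leaf) 18573559431 (.node .leaf 18573559656 .leaf)))
 18573559926
 (.node
 (.node (.node (.node .leaf 18574481031 .leaf) 18574481256 .leaf) 18574481526 (.node .leaf 18574542456 .leaf))
 18574542726
 (.node (.node (.node .leaf 18574542951 .leaf) 18579161106 .leaf) 18579161376 (.node .leaf 18579161601 .leaf))))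
 18579222561
 (.node
 (.node
 (.node (.node (.node .leaf 18579222786 .leaf) 18579223056 .leaf) 18580144161 (.node .leaf 18580144386 .leaf))
 18580144656
 (.node (.node (.node .leaf 18580267026 .leaf) 18580267296 .leaf) 18580267521 (.node .leaf 18581188626 .leaf)))
 18581188896
 (.node
 (.node (.node (.node .leaf 18581189121 .leaf) 18581250081 .leaf) 18581250306 (.node .leaf 18581250576 .leaf))
 22347327111
 (.node (.node (.node .leaf 22347327336 .leaf) 22347327606 .leaf) 22347388536 (.node .leaf 22347388806 .leaf)))))
 22347389031
 (.node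
 (.node
 (.node
 (.node (.node (.node .leaf 22348310136 .leaf) 22348310406 .leaf) 22348310631 (.node .leaf 22348433031 .leaf))
 22348433256
 (.node (.node (.node .leaf 22348433526 .leaf) 22349354631 .leaf) 22349354856 (.node .leaf 22349355126 .leaf)))
 22349416056
 (.node
 (.node (.node (.node .leaf 22349416326 .leaf) 22349416551 .leaf) 22354034706 (.node .leaf 22354034976 .leaf))
 22354035201
 (.node (.node (.node .leaf 22354096161 .leaf) 22354096386 .leaf) 22354096656 (.node .leaf 22355017761 .leaf))))
 22355017986
 (.node
 (.node
 (.node (.node (.node .leaf 22355018256 .leaf) 22355140626 .leaf) 22355140896 (.node .leaf 22355141121 .leaf))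
 22356062226
 (.node (.node (.node .leaf 22356062496 .leaf) 22356062721 .leaf) 22356123681 (.node .leaf 22356123906 .leaf)))
 22356124176
 (.node
 (.node (.node (.node .leaf 22598985336 .leaf) 22598985606 .leaf) 22598985831 (.node .leaf 22599046791 .leaf))
 22599047016
 (.node (.node (.node .leaf 22599047286 .leaf) 22599968391 .leaf) 22599968616 (.node .leaf 22599968886 .leaf))))))
 22600091256
 (.node
 (.node
 (.node
 (.node
 (.node (.node (.node .leaf 22600091526 .leaf) 22600091751 .leaf) 22601012856 (.node (.node .leaf 22601013126 .leaf) 22601013351 .leaf))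
 22601074311
 (.node (.node (.node .leaf 22601074536 .leaf) 22601074806 .leaf) 22605692961 (.node .leaf 22605693186 .leaf)))
 22605693456
 (.node
 (.node (.node (.node .leaf 22605754386 .leaf) 22605754656 .leaf) 22605754881 (.node .leaf 22606675986 .leaf))
 22606676256
 (.node (.node (.node .leaf 22606676481 .leaf) 22606798881 .leaf) 22606799106 (.node .leaf 22606799376 .leaf))))
 22607720481
 (.node
 (.node
 (.node (.node (.node .leaf 22607720706 .leaf) 22607720976 .leaf) 22607781906 (.node .leaf 22607782176 .leaf))
 22607782401
 (.node (.node (.node .leaf 27783144261 .leaf) 27783144531 .leaf) 27783144756 (.node .leaf 27783205716 .leaf)))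
 27783205941
 (.node
 (.node (.node (.node .leaf 27783206211 .leaf) 27784127316 .leaf) 27784127541 (.node .leaf 27784127811 .leaf))
 27784250181
 (.node (.node (.node .leaf 27784250451 .leaf) 27784250676 .leaf) 27785171781 (.node .leaf 27785172051 .leaf)))))
 27785172276
 (.node
 (.node
 (.node
 (.node (.node (.node .leaf 27785233236 .leaf) 27785233461 .leaf) 27785233731 (.node .leaf 27786498081 .leaf))
 27786498306
 (.node (.node (.node .leaf 27786498576 .leaf) 27786559506 .leaf) 27786559776 (.node .leaf 27786560001 .leaf)))
 27787481106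
 (.node
 (.node (.node (.node .leaf 27787481376 .leaf) 27787481601 .leaf) 27787604001 (.node .leaf 27787604226 .leaf))
 27787604496
 (.node (.node (.node .leaf 27788525601 .leaf) 27788525826 .leaf) 27788526096 (.node .leaf 27788587026 .leaf))))
 27788587296
 (.node
 (.node
 (.node (.node (.node .leaf 27788587521 .leaf) 28034802516 .leaf) 28034802741 (.node .leaf 28034803011 .leaf))
 28034863941
 (.node (.node (.node .leaf 28034864211 .leaf) 28034864436 .leaf) 28035785541 (.node .leaf 28035785811 .leaf)))
 28035786036
 (.node
 (.node (.node (.node .leaf 28035908436 .leaf) 28035908661 .leaf) 28035908931 (.node .leaf 28036830036 .leaf))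
 28036830261
 (.node (.node (.node .leaf 28036830531 .leaf) 28036891461 .leaf) 28036891731 (.node .leaf 28036891956 .leaf)))))))
 28038156306
 (.node
 (.node
 (.node
 (.node
 (.node
 (.node (.node (.node .leaf 28038156576 .leaf) 28038156801 .leaf) 28038217761 (.node (.node .leaf 28038217986 .leaf) 28038218256 .leaf))
 28039139361
 (.node (.node (.node .leaf 28039139586 .leaf) 28039139856 .leaf) 28039262226 (.node .leaf 28039262496 .leaf)))
 28039262721
 (.node
 (.node (.node (.node .leaf 28040183826 .leaf) 28040184096 .leaf) 28040184321 (.node .leaf 28040245281 .leaf))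
 28040245506
 (.node (.node (.node .leaf 28040245776 .leaf) 31809676116 .leaf) 31809676341 (.node .leaf 31809676611 .leaf))))
 31809737541
 (.node
 (.node
 (.node (.node (.node .leaf 31809737811 .leaf) 31809738036 .leaf) 31810659141 (.node .leaf 31810659411 .leaf))
 31810659636
 (.node (.node (.node .leaf 31810782036 .leaf) 31810782261 .leaf) 31810782531 (.node .leaf 31811703636 .leaf)))
 31811703861
 (.node
 (.node (.node (.node .leaf 31811704131 .leaf) 31811765061 .leaf) 31811765331 (.node .leaf 31811765556 .leaf))
 31813029906
 (.node (.node (.node .leaf 31813030176 .leaf) 31813030401 .leaf) 31813091361 (.node .leaf 31813091586 .leaf)))))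
 31813091856
 (.node
 (.node
 (.node
 (.node (.node (.node .leaf 31814012961 .leaf) 31814013186 .leaf) 31814013456 (.node .leaf 31814135826 .leaf))
 31814136096
 (.node (.node (.node .leaf 31814136321 .leaf) 31815057426 .leaf) 31815057696 (.node .leaf 31815057921 .leaf)))
 31815118881
 (.node
 (.node (.node (.node .leaf 31815119106 .leaf) 31815119376 .leaf) 32312992581 (.node .leaf 32312992851 .leaf))
 32312993076
 (.node (.node (.node .leaf 32313054036 .leaf) 32313054261 .leaf) 32313054531 (.node .leaf 32313975636 .leaf))))
 32313975861
 (.node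
 (.node
 (.node (.node (.node .leaf 32313976131 .leaf) 32314098501 .leaf) 32314098771 (.node .leaf 32314098996 .leaf))
 32315020101
 (.node (.node (.node .leaf 32315020371 .leaf) 32315020596 .leaf) 32315081556 (.node .leaf 32315081781 .leaf)))
 32315082051
 (.node
 (.node (.node (.node .leaf 32316346401 .leaf) 32316346626 .leaf) 32316346896 (.node .leaf 32316407826 .leaf))
 32316408096
 (.node (.node (.node .leaf 32316408321 .leaf) 32317329426 .leaf) 32317329696 (.node .leaf 32317329921 .leaf))))))
 32317452321
 (.node
 (.node
 (.node
 (.node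
 (.node (.node (.node .leaf 32317452546 .leaf) 32317452816 .leaf) 32318373921 (.node (.node .leaf 32318374146 .leaf) 32318374416 .leaf))
 32318435346
 (.node (.node (.node .leaf 32318435616 .leaf) 32318435841 .leaf) 36087866181 (.node .leaf 36087866451 .leaf)))
 36087866676
 (.node
 (.node (.node (.node .leaf 36087927636 .leaf) 36087927861 .leaf) 36087928131 (.node .leaf 36088849236 .leaf))
 36088849461
 (.node (.node (.node .leaf 36088849731 .leaf) 36088972101 .leaf) 36088972371 (.node .leaf 36088972596 .leaf))))
 36089893701
 (.node
 (.node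
 (.node (.node (.node .leaf 36089893971 .leaf) 36089894196 .leaf) 36089955156 (.node .leaf 36089955381 .leaf))
 36089955651
 (.node (.node (.node .leaf 36091220001 .leaf) 36091220226 .leaf) 36091220496 (.node .leaf 36091281426 .leaf)))
 36091281696
 (.node
 (.node (.node (.node .leaf 36091281921 .leaf) 36092203026 .leaf) 36092203296 (.node .leaf 36092203521 .leaf))
 36092325921
 (.node (.node (.node .leaf 36092326146 .leaf) 36092326416 .leaf) 36093247521 (.node .leaf 36093247746 .leaf)))))
 36093248016
 (.node
 (.node
 (.node
 (.node (.node (.node .leaf 36093308946 .leaf) 36093309216 .leaf) 36093309441 (.node .leaf 36339524436 .leaf))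
 36339524661
 (.node (.node (.node .leaf 36339524931 .leaf) 36339585861 .leaf) 36339586131 (.node .leaf 36339586356 .leaf)))
 36340507461
 (.node
 (.node (.node (.node .leaf 36340507731 .leaf) 36340507956 .leaf) 36340630356 (.node .leaf 36340630581 .leaf))
 36340630851
 (.node (.node (.node .leaf 36341551956 .leaf) 36341552181 .leaf) 36341552451 (.node .leaf 36341613381 .leaf))))
 36341613651
 (.node
 (.node
 (.node (.node (.node .leaf 36341613876 .leaf) 36342878226 .leaf) 36342878496 (.node .leaf 36342878721 .leaf))
 36342939681
 (.node (.node (.node .leaf 36342939906 .leaf) 36342940176 .leaf) 36343861281 (.node .leaf 36343861506 .leaf)))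
 36343861776
 (.node
 (.node (.node (.node .leaf 36343984146 .leaf) 36343984416 .leaf) 36343984641 (.node .leaf 36344905746 .leaf))
 36344906016
 (.node (.node (.node .leaf 36344906241 .leaf) 36344967201 .leaf) 36344967426 (.node .leaf 36344967696 .leaf)))))))))

/-- The group as a list. -/
def KL : List ℕ := KT.toList

theorem KL_increasing : increasing KL = true := by decide +kernel

theorem KL_nodup : KL.Nodup := nodup_of_increasing KL_increasing

theorem KL_length : KL.length = 648 := by decide +kernel

/-- Membership test. -/
def inK (a : ℕ) : Bool := KT.mem a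

theorem mem_of_inK {a : ℕ} (h : inK a = true) : a ∈ KL := KT.mem_toList h

/-- The normal subgroup `3³`. -/
def JL : List ℕ :=
  [36344967696, 28040245776, 31815119376, 36342940176, 28038218256, 31813091856,
   36343861776, 28039139856, 31814013456, 36344967201, 28040245281, 31815118881,
   36342939681, 28038217761, 31813091361, 36343861281, 28039139361, 31814012961,
   36344967426, 28040245506, 31815119106, 36342939906, 28038217986, 31813091586,
   36343861506, 28039139586, 31814013186]

/-- The normal subgroup `3³` as a tree. -/
def JT : CT :=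
 (.node
 (.node
 (.node (.node (.node .leaf 28038217761 .leaf) 28038217986 (.node .leaf 28038218256 .leaf)) 28039139361 (.node (.node .leaf 28039139586 .leaf) 28039139856 .leaf))
 28040245281
 (.node (.node (.node .leaf 28040245506 .leaf) 28040245776 (.node .leaf 31813091361 .leaf)) 31813091586 (.node (.node .leaf 31813091856 .leaf) 31814012961 .leaf)))
 31814013186
 (.node
 (.node (.node (.node .leaf 31814013456 .leaf) 31815118881 (.node .leaf 31815119106 .leaf)) 31815119376 (.node (.node .leaf 36342939681 .leaf) 36342939906 .leaf))
 36342940176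
 (.node (.node (.node .leaf 36343861281 .leaf) 36343861506 (.node .leaf 36343861776 .leaf)) 36344967201 (.node (.node .leaf 36344967426 .leaf) 36344967696 .leaf))))

/-- Membership test for `3³`. -/
def inJ (a : ℕ) : Bool := JT.mem a

theorem JT_eq : JL.all inJ = true ∧ JT.toList.all (fun a => JL.contains a) = true := by
  decide +kernel

theorem inJ_iff (a : ℕ) : inJ a = true ↔ a ∈ JL := by
  refine ⟨fun h => ?_, fun h => List.all_eq_true.mp JT_eq.1 a h⟩
  simpa using List.all_eq_true.mp JT_eq.2 a (JT.mem_toList h)

/-- Representatives of the cosets of `3³`. -/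
def QL : List ℕ :=
  [36344967696, 8867243331, 36344906241, 36089955651, 22601074806, 8615585076,
   22607720976, 8867181876, 36089894196, 8612231286, 22349355126, 8863889511,
   22349416551, 22356062721, 36341552451, 22601013351, 8615523651, 22607782401,
   8612169831, 22356124176, 8863828086, 36093248016, 36093309441, 36341613876]

/-- The four generators. -/
def gens : List ℕ := [36344967201, 8867243331, 36344906241, 36089955651]

/-- The value of a word in the generators. -/
def wordVal : List ℕ → ℕ
  | [] => idc
  | k :: r => comp (gens.getD k idc) (wordVal r)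

/-- Words for the representatives. -/
def QW : List (List ℕ) :=
  [[], [1], [2], [3], [1, 1], [2, 1], [3, 1], [1, 2], [3, 2], [1, 3], [2, 1, 1], [3, 1, 1], [1, 2, 1], [3, 2, 1], [1, 3, 1], [1, 1, 2], [2, 1, 2], [3, 1, 2], [1, 3, 2], [1, 1, 3], [2, 1, 3], [1, 2, 1, 1], [1, 1, 2, 1], [2, 1, 3, 1]]

theorem QL_words : QL = QW.map wordVal := by decide +kernel

theorem gens_mul_ok : gens.all (fun g => KL.all fun a =>
    inK (comp g a) && inK (comp (cinv g) a)) = true := by decide +kernel

theorem gens_inv_ok : gens.all (fun g => comp g (cinv g) == idc) = true := by decide +kernel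

end CfsgLib.CubeSFour
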