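import Cfsg.Agent.Lib.Involutions.CubeSFour.Checks2

/-!
# A subgroup `3³ : S₄` controlling centralizers of its normal `3³`

The group theoretic consequences: trivial intersections, the two classes of involutions stay
apart, and the fusion of elements of order three outside `3³`.
-/

set_option autoImplicit false
set_option linter.style.haveILetI false
set_option linter.unusedSectionVars false

namespace CfsgLib.CubeSFour

universe u

variable {G : Type u} [Group G]

/-- The configuration: `code` identifies `H` with the model. -/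
structure Config (H : Subgroup G) where
  code : G → ℕ
  mem_KL : ∀ h ∈ H, code h ∈ KL
  surj : ∀ a ∈ KL, ∃ h ∈ H, code h = a
  inj : ∀ g ∈ H, ∀ h ∈ H, code g = code h → g = h
  code_mul : ∀ g ∈ H, ∀ h ∈ H, code (g * h) = comp (code g) (code h)
  cent : ∀ g x : G, x ∈ H → inJ (code x) = true → x ≠ 1 → g * x = x * g → g ∈ H
  closed : ∀ g x : G, x ∈ H → inJ (code x) = true → g * x * g⁻¹ ∈ H →
    inJ (code (g * x * g⁻¹)) = true

theorem KL_idc : idc ∈ KL := mem_of_inK (by decide +kernel)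

namespace Config

variable {H : Subgroup G} (c : Config H)

open Classical in
/-- The element with a given code. -/
noncomputable def el (a : ℕ) : G := if h : a ∈ KL then (c.surj a h).choose else 1

theorem el_mem (a : ℕ) : c.el a ∈ H := by
  unfold el
  split_ifs with h
  · exact (c.surj a h).choose_spec.1
  · exact H.one_mem

theorem code_el {a : ℕ} (h : a ∈ KL) : c.code (c.el a) = a := by
  unfold el
  rw [dif_pos h]
  exact (c.surj a h).choose_spec.2

theorem el_code {g : G} (hg : g ∈ H) : c.el (c.code g) = g :=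
  c.inj _ (c.el_mem _) _ hg (c.code_el (c.mem_KL g hg))

theorem code_el' {a : ℕ} (h : inK a = true) : c.code (c.el a) = a := c.code_el (mem_of_inK h)

theorem code_one : c.code 1 = idc := by
  have h := c.code_mul _ (c.el_mem idc) _ (c.el_mem idc)
  rw [c.code_el KL_idc, show comp idc idc = idc by decide +kernel] at h
  have h1 : c.el idc * c.el idc = c.el idc :=
    c.inj _ (H.mul_mem (c.el_mem _) (c.el_mem _)) _ (c.el_mem _) (h.trans (c.code_el KL_idc).symm)
  rw [← mul_eq_left.mp h1, c.code_el KL_idc]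

theorem eq_one {g : G} (hg : g ∈ H) (h : c.code g = idc) : g = 1 :=
  c.inj g hg 1 H.one_mem (h.trans c.code_one.symm)

theorem code_ne {g : G} (hg : g ∈ H) (h : g ≠ 1) : (c.code g == idc) = false := by
  rw [beq_eq_false_iff_ne]
  exact fun e => h (c.eq_one hg e)

theorem code_inv {g : G} (hg : g ∈ H) : c.code g⁻¹ = cinv (c.code g) := by
  have h := List.all_eq_true.mp KL_inv _ (c.mem_KL g hg)
  simp only [Bool.and_eq_true, beq_iff_eq] at h
  have hk := c.code_el' h.2
  have h1 : g * c.el (cinv (c.code g)) = 1 :=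
    c.eq_one (H.mul_mem hg (c.el_mem _)) (by rw [c.code_mul _ hg _ (c.el_mem _), hk, h.1])
  rw [← eq_inv_of_mul_eq_one_right h1, hk]

theorem code_pow {g : G} (hg : g ∈ H) (n : ℕ) : c.code (g ^ n) = cpow (c.code g) n := by
  induction n with
  | zero => rw [pow_zero, c.code_one]; rfl
  | succ n ih =>
    rw [pow_succ', c.code_mul _ hg _ (H.pow_mem hg n), ih]
    rfl

theorem conj_mem {h x : G} (hh : h ∈ H) (hx : x ∈ H) : h * x * h⁻¹ ∈ H :=
  H.mul_mem (H.mul_mem hh hx) (H.inv_mem hh)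

theorem code_conj {h x : G} (hh : h ∈ H) (hx : x ∈ H) :
    c.code (h * x * h⁻¹) = cconj (c.code h) (c.code x) := by
  rw [mul_assoc, c.code_mul _ hh _ (H.mul_mem hx (H.inv_mem hh)),
    c.code_mul _ hx _ (H.inv_mem hh), c.code_inv hh]
  rfl

theorem comm_iff {g h : G} (hg : g ∈ H) (hh : h ∈ H) :
    g * h = h * g ↔ comp (c.code g) (c.code h) = comp (c.code h) (c.code g) := by
  rw [← c.code_mul _ hg _ hh, ← c.code_mul _ hh _ hg]
  exact ⟨fun e => by rw [e], fun e => c.inj _ (H.mul_mem hg hh) _ (H.mul_mem hh hg) e⟩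

theorem code_comp_el {a b : ℕ} (ha : a ∈ KL) (hb : b ∈ KL) :
    c.code (c.el a * c.el b) = comp a b := by
  rw [c.code_mul _ (c.el_mem _) _ (c.el_mem _), c.code_el ha, c.code_el hb]

theorem comp_mem (c : Config H) {a b : ℕ} (ha : a ∈ KL) (hb : b ∈ KL) : comp a b ∈ KL := by
  rw [← c.code_comp_el ha hb]
  exact c.mem_KL _ (H.mul_mem (c.el_mem _) (c.el_mem _))

theorem el_comp {a b : ℕ} (ha : a ∈ KL) (hb : b ∈ KL) : c.el (comp a b) = c.el a * c.el b :=
  c.inj _ (c.el_mem _) _ (H.mul_mem (c.el_mem _) (c.el_mem _))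
    (by rw [c.code_el (c.comp_mem ha hb), c.code_comp_el ha hb])

theorem el_pow {a : ℕ} (ha : a ∈ KL) (n : ℕ) : c.code (c.el a ^ n) = cpow a n := by
  rw [c.code_pow (c.el_mem _), c.code_el ha]

theorem J_mem_KL {j : ℕ} (hj : inJ j = true) : inK j = true := by
  have h := List.all_eq_true.mp JL_normal j ((inJ_iff j).mp hj)
  simp only [Bool.and_eq_true] at h
  exact h.1.1

theorem J_pow_three {x : G} (hx : x ∈ H) (hJ : inJ (c.code x) = true) : x ^ 3 = 1 := by
  have h := List.all_eq_true.mp JL_normal _ ((inJ_iff _).mp hJ)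
  simp only [Bool.and_eq_true, beq_iff_eq] at h
  exact c.eq_one (H.pow_mem hx 3) (by rw [c.code_pow hx, h.1.2])

theorem J_mul {x y : G} (hx : x ∈ H) (hy : y ∈ H) (hxJ : inJ (c.code x) = true)
    (hyJ : inJ (c.code y) = true) : inJ (c.code (x * y)) = true := by
  rw [c.code_mul _ hx _ hy]
  have h := List.all_eq_true.mp (List.all_eq_true.mp JL_mul _ ((inJ_iff _).mp hxJ)) _
    ((inJ_iff _).mp hyJ)
  exact h

theorem J_comm {x y : G} (hx : x ∈ H) (hy : y ∈ H) (hxJ : inJ (c.code x) = true)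
    (hyJ : inJ (c.code y) = true) : x * y = y * x := by
  have key : JL.all (fun j => JL.all fun k => comp j k == comp k j) = true := by decide +kernel
  rw [c.comm_iff hx hy]
  exact beq_iff_eq.mp
    (List.all_eq_true.mp (List.all_eq_true.mp key _ ((inJ_iff _).mp hxJ)) _ ((inJ_iff _).mp hyJ))

/-- The words in the generators lie in every subgroup containing the generators. -/
theorem word_mem {S : Subgroup G} (hS : ∀ a ∈ gens, c.el a ∈ S) :
    ∀ w : List ℕ, wordVal w ∈ KL ∧ c.el (wordVal w) ∈ S := by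
  intro w
  induction w with
  | nil =>
    refine ⟨KL_idc, ?_⟩
    rw [show wordVal [] = idc from rfl, ← c.code_one, c.el_code H.one_mem]
    exact S.one_mem
  | cons k w ih =>
    obtain ⟨h1, h2⟩ := ih
    have hg : gens.getD k idc ∈ KL ∧ c.el (gens.getD k idc) ∈ S := by
      by_cases hk : k < gens.length
      · rw [List.getD_eq_getElem?_getD, List.getElem?_eq_getElem hk, Option.getD_some]
        exact ⟨mem_of_inK (List.all_eq_true.mp (show gens.all inK = true by decide +kernel) _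
          (List.getElem_mem hk)), hS _ (List.getElem_mem hk)⟩
      · rw [List.getD_eq_getElem?_getD, List.getElem?_eq_none (Nat.le_of_not_lt hk),
          Option.getD_none]
        exact ⟨KL_idc, by rw [← c.code_one, c.el_code H.one_mem]; exact S.one_mem⟩
    refine ⟨c.comp_mem hg.1 h1, ?_⟩
    rw [show wordVal (k :: w) = comp (gens.getD k idc) (wordVal w) from rfl, c.el_comp hg.1 h1]
    exact S.mul_mem hg.2 h2

theorem decomp {a : ℕ} (ha : a ∈ KL) : ∃ q ∈ QL, ∃ j ∈ JL, a = comp q j := by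
  have h := KL_decomp
  rw [beq_iff_eq] at h
  rw [h.1] at ha
  obtain ⟨⟨i, j⟩, hp, rfl⟩ := List.mem_map.mp ha
  have hb := List.all_eq_true.mp h.2 _ hp
  simp only [Bool.and_eq_true, decide_eq_true_eq] at hb
  have hQ : i < QL.length := by
    rw [show QL.length = 24 by decide +kernel]; exact hb.1
  have hJ : j < JL.length := by
    rw [show JL.length = 27 by decide +kernel]; exact hb.2
  refine ⟨_, ?_, _, ?_, rfl⟩
  · rw [List.getD_eq_getElem?_getD, List.getElem?_eq_getElem hQ, Option.getD_some]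
    exact List.getElem_mem hQ
  · rw [List.getD_eq_getElem?_getD, List.getElem?_eq_getElem hJ, Option.getD_some]
    exact List.getElem_mem hJ

theorem gen_induction {S : Subgroup G} (hS : ∀ a ∈ gens, c.el a ∈ S) : H ≤ S := by
  intro g hg
  obtain ⟨q, hq, j, hj, e⟩ := decomp (c.mem_KL g hg)
  rw [QL_words] at hq
  rw [JL_words] at hj
  obtain ⟨v, -, rfl⟩ := List.mem_map.mp hq
  obtain ⟨w, -, rfl⟩ := List.mem_map.mp hj
  rw [← c.el_code hg, e, c.el_comp (c.word_mem hS v).1 (c.word_mem hS w).1]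
  exact S.mul_mem (c.word_mem hS v).2 (c.word_mem hS w).2

/-- The involution acting as a transposition. -/
noncomputable def sE : G := c.el sC

/-- The involution acting trivially on the coordinates. -/
noncomputable def uE : G := c.el uC

theorem facts : inK uC = true ∧ isU uC = true ∧ inK sC = true ∧ isS sC = true ∧
    inK jsC = true ∧ inJ jsC = true ∧ (jsC == idc) = false ∧
      comp sC jsC = comp jsC sC ∧ cpow jsC 3 = idc := by
  decide +kernel

theorem uE_mem : c.uE ∈ H := c.el_mem _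

theorem sE_mem : c.sE ∈ H := c.el_mem _

theorem code_u : c.code c.uE = uC := c.code_el' facts.1

theorem code_s : c.code c.sE = sC := c.code_el' facts.2.2.1

theorem foldr_mem {S : Subgroup G} (L : List ℕ) (hL : ∀ a ∈ L, a ∈ KL ∧ c.el a ∈ S) :
    L.foldr comp idc ∈ KL ∧ c.el (L.foldr comp idc) ∈ S := by
  induction L with
  | nil =>
    refine ⟨KL_idc, ?_⟩
    show c.el idc ∈ S
    rw [← c.code_one, c.el_code H.one_mem]
    exact S.one_mem
  | cons a L ih =>
    obtain ⟨h1, h2⟩ := hL a (by simp)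
    obtain ⟨h3, h4⟩ := ih fun x hx => hL x (by simp [hx])
    rw [List.foldr_cons]
    refine ⟨c.comp_mem h1 h3, ?_⟩
    rw [c.el_comp h1 h3]
    exact S.mul_mem h2 h4

theorem cconj_s {h : ℕ} (hh : inK h = true) :
    c.code (c.el h * c.sE * (c.el h)⁻¹) = cconj h sC := by
  rw [c.code_conj (c.el_mem h) c.sE_mem, c.code_el' hh, c.code_s]

/-- Conjugates of `sE` generate `H`. -/
theorem conj_induction {S : Subgroup G} (hS : ∀ h ∈ H, h * c.sE * h⁻¹ ∈ S) : H ≤ S := by
  refine c.gen_induction fun a ha => ?_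
  obtain ⟨h1, h2⟩ := sWords_ok
  rw [beq_iff_eq] at h1
  rw [h1] at ha
  obtain ⟨l, hl, rfl⟩ := List.mem_map.mp ha
  refine (c.foldr_mem _ fun b hb => ?_).2
  obtain ⟨h, hh, e⟩ := List.mem_map.mp hb
  have hk : inK h = true := List.all_eq_true.mp (List.all_eq_true.mp h2 l hl) h hh
  have hm : c.el h * c.sE * (c.el h)⁻¹ ∈ H := conj_mem (c.el_mem h) c.sE_mem
  have e' : c.code (c.el h * c.sE * (c.el h)⁻¹) = b := (c.cconj_s hk).trans e
  subst e'
  exact ⟨c.mem_KL _ hm, by rw [c.el_code hm]; exact hS _ (c.el_mem h)⟩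

/-! ### Trivial intersection -/

theorem cent_count {x : G} (hx : x ∈ H) :
    Nat.card {h : G // h ∈ H ∧ h * x = x * h} =
      (KL.filter fun a => comp a (c.code x) == comp (c.code x) a).length := by
  classical
  rw [← List.toFinset_card_of_nodup (KL_nodup.filter _), ← Nat.card_eq_finsetCard]
  refine Nat.card_congr
    { toFun := fun h => ⟨c.code h.1, ?_⟩
      invFun := fun a => ⟨c.el a.1, ?_⟩
      left_inv := fun h => Subtype.ext (c.el_code h.2.1)
      right_inv := fun a => Subtype.ext (c.code_el ?_) }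
  · rw [List.mem_toFinset, List.mem_filter, beq_iff_eq]
    exact ⟨c.mem_KL _ h.2.1, (c.comm_iff h.2.1 hx).mp h.2.2⟩
  · have h := a.2
    rw [List.mem_toFinset, List.mem_filter, beq_iff_eq] at h
    refine ⟨c.el_mem _, (c.comm_iff (c.el_mem _) hx).mpr ?_⟩
    rw [c.code_el h.1]
    exact h.2
  · exact (List.mem_filter.mp (List.mem_toFinset.mp a.2)).1

theorem J_classify {x : G} (hx : x ∈ H) (hJ : inJ (c.code x) = true) (h1 : x ≠ 1) :
    (KL.filter fun a => comp a (c.code x) == comp (c.code x) a).length =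
        jCard (nfix (c.code x)) ∧ nfix (c.code x) ∈ [6, 3, 0] ∧
      ∃ h ∈ H, c.code (h * x * h⁻¹) = jRep (nfix (c.code x)) := by
  have h := List.all_eq_true.mp J_classes _ ((inJ_iff _).mp hJ)
  rw [c.code_ne hx h1, Bool.false_or, Bool.and_eq_true, Bool.and_eq_true, List.any_eq_true] at h
  obtain ⟨⟨h2, h3⟩, k, hk, h4⟩ := h
  refine ⟨beq_iff_eq.mp h3, by simpa using h2, c.el k, c.el_mem k, ?_⟩
  rw [c.code_conj (c.el_mem _) hx, c.code_el hk]
  exact beq_iff_eq.mp h4

/-- The set `3³` has trivial intersections with its conjugates and `H` is its normalizer. -/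
theorem ti {x g : G} (hx : x ∈ H) (hJ : inJ (c.code x) = true) (h1 : x ≠ 1)
    (hgx : g * x * g⁻¹ ∈ H) : g ∈ H := by
  have hx1 : g * x * g⁻¹ ≠ 1 := fun e => h1 (by simpa using e)
  have hx1J := c.closed g x hx hJ hgx
  have hcard : Nat.card {h : G // h ∈ H ∧ h * x = x * h} =
      Nat.card {h : G // h ∈ H ∧ h * (g * x * g⁻¹) = g * x * g⁻¹ * h} := by
    refine Nat.card_congr ((MulAut.conj g).toEquiv.subtypeEquiv fun h => ?_)
    show h ∈ H ∧ h * x = x * h ↔ g * h * g⁻¹ ∈ H ∧
      g * h * g⁻¹ * (g * x * g⁻¹) = g * x * g⁻¹ * (g * h * g⁻¹)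
    have e : (g * h * g⁻¹ * (g * x * g⁻¹) = g * x * g⁻¹ * (g * h * g⁻¹)) ↔ h * x = x * h := by
      constructor
      · intro e
        have e' := congrArg (fun z => g⁻¹ * z * g) e
        simpa [mul_assoc] using e'
      · intro e
        calc g * h * g⁻¹ * (g * x * g⁻¹) = g * (h * x) * g⁻¹ := by group
          _ = g * (x * h) * g⁻¹ := by rw [e]
          _ = _ := by group
    rw [e]
    exact ⟨fun hh => ⟨c.cent _ _ hgx hx1J hx1 (e.mpr hh.2), hh.2⟩,
      fun hh => ⟨c.cent _ _ hx hJ h1 hh.2, hh.2⟩⟩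
  obtain ⟨n1, m1, a, ha, e1⟩ := c.J_classify hx hJ h1
  obtain ⟨n2, m2, b, hb, e2⟩ := c.J_classify hgx hx1J hx1
  rw [c.cent_count hx, c.cent_count hgx, n1, n2] at hcard
  have key : ∀ n ∈ [6, 3, 0], ∀ m ∈ [6, 3, 0], jCard n = jCard m → n = m := by decide
  rw [← key _ m1 _ m2 hcard] at e2
  have he : a * x * a⁻¹ = b * (g * x * g⁻¹) * b⁻¹ :=
    c.inj _ (conj_mem ha hx) _ (conj_mem hb hgx) (e1.trans e2.symm)
  have hcm : (a⁻¹ * b * g) * x = x * (a⁻¹ * b * g) := by
    calc (a⁻¹ * b * g) * x = a⁻¹ * (b * (g * x * g⁻¹) * b⁻¹) * b * g := by group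
      _ = a⁻¹ * (a * x * a⁻¹) * b * g := by rw [he]
      _ = _ := by group
  have h2 := c.cent _ _ hx hJ h1 hcm
  have h3 := H.mul_mem (H.mul_mem (H.inv_mem hb) ha) h2
  simpa [mul_assoc] using h3

theorem isD_power {x : G} (hx : x ∈ H) (h : isD (c.code x) = true) :
    ∃ k : ℕ, inJ (c.code (x ^ k)) = true ∧ x ^ k ≠ 1 := by
  simp only [isD, List.any_eq_true, Bool.and_eq_true] at h
  obtain ⟨k, -, h1, h2⟩ := h
  refine ⟨k, by rw [c.code_pow hx]; exact h2, fun e => ?_⟩
  rw [← c.code_pow hx k, e, c.code_one] at h1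
  simp at h1

theorem tiD {x g : G} (hx : x ∈ H) (h : isD (c.code x) = true) (hgx : g * x * g⁻¹ ∈ H) :
    g ∈ H := by
  obtain ⟨k, h1, h2⟩ := c.isD_power hx h
  refine c.ti (H.pow_mem hx k) h1 h2 ?_
  rw [← conj_pow]
  exact H.pow_mem hgx k

theorem isD_not_sq {x : G} (hx : x ∈ H) (h : isD (c.code x) = true) : x ^ 2 ≠ 1 := by
  intro e
  obtain ⟨k, h1, h2⟩ := c.isD_power hx h
  have h3 := c.J_pow_three (H.pow_mem hx k) h1
  have h4 : (x ^ k) ^ 2 = 1 := by rw [← pow_mul, mul_comm, pow_mul, e, one_pow]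
  apply h2
  calc x ^ k = (x ^ k) ^ 3 * ((x ^ k) ^ 2)⁻¹ := by group
    _ = 1 := by rw [h3, h4]; group

/-! ### Three-subgroups -/

theorem pow_nine (c : Config H) {p : G} (hp : p ∈ H) {n : ℕ} (h : p ^ 3 ^ n = 1) : p ^ 9 = 1 := by
  have h1 : p ^ 36 = 1 := c.eq_one (H.pow_mem hp 36) (by
    rw [c.code_pow hp]
    exact beq_iff_eq.mp (List.all_eq_true.mp KL_pow _ (c.mem_KL p hp)))
  obtain ⟨k, hk, e⟩ := (Nat.dvd_prime_pow Nat.prime_three).mp (orderOf_dvd_of_pow_eq_one h)
  have h36 := orderOf_dvd_of_pow_eq_one h1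
  rw [← orderOf_dvd_iff_pow_eq_one, e]
  rw [e] at h36
  have hk2 : k ≤ 2 := by
    by_contra hk2
    exact absurd ((pow_dvd_pow 3 (show 3 ≤ k by omega)).trans h36) (by norm_num)
  exact pow_dvd_pow 3 hk2

/-- An element of odd order inverting an element of order three does not exist. -/
theorem centralizes_of_odd {p j : G} (hj : j ^ 3 = 1) {n : ℕ} (hn : p ^ 3 ^ n = 1)
    (h : p * j * p⁻¹ ∈ Subgroup.zpowers j) : p * j = j * p := by
  obtain ⟨i, hi⟩ := Subgroup.mem_zpowers_iff.mp h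
  have h3 : j ^ (3 : ℤ) = 1 := by exact_mod_cast hj
  have hred : ∀ m : ℤ, j ^ m = j ^ (m % 3) := fun m => by
    conv_lhs => rw [← Int.emod_add_mul_ediv m 3, zpow_add, zpow_mul, h3, one_zpow, mul_one]
  rcases (show i % 3 = 0 ∨ i % 3 = 1 ∨ i % 3 = 2 by omega) with e | e | e <;>
    rw [hred, e] at hi
  · rw [zpow_zero] at hi
    have hj1 : j = 1 := by simpa using hi.symm
    simp [hj1]
  · rw [zpow_one] at hi
    calc p * j = p * j * p⁻¹ * p := by group
      _ = j * p := by rw [← hi]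
  · have hinv : p * j * p⁻¹ = j⁻¹ := by
      rw [← hi, eq_comm, inv_eq_iff_mul_eq_one, ← zpow_one_add]
      exact h3
    have hit : ∀ m : ℕ, p ^ m * j * (p ^ m)⁻¹ = if Even m then j else j⁻¹ := by
      intro m
      induction m with
      | zero => simp
      | succ m ih =>
        calc p ^ (m + 1) * j * (p ^ (m + 1))⁻¹ = p * (p ^ m * j * (p ^ m)⁻¹) * p⁻¹ := by
              rw [pow_succ']; group
          _ = _ := by
            rw [ih]
            by_cases hm : Even m
            · rw [if_pos hm, if_neg (by simp [parity_simps, hm]), hinv]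
            · rw [if_neg hm, if_pos (by simp [parity_simps, hm])]
              calc p * j⁻¹ * p⁻¹ = (p * j * p⁻¹)⁻¹ := by group
                _ = j := by rw [hinv, inv_inv]
    have h0 := hit (3 ^ n)
    rw [hn, if_neg (Nat.not_even_iff_odd.mpr (Odd.pow (by decide)))] at h0
    have hj2 : j = 1 := by
      have h2 : j * j = 1 := by
        have : j = j⁻¹ := by simpa using h0
        calc j * j = j * j⁻¹ := by rw [← this]
          _ = 1 := mul_inv_cancel j
      calc j = j ^ 3 * (j * j)⁻¹ := by group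
        _ = 1 := by rw [hj, h2]; group
    simp [hj2]

theorem exists_normalizing {P K : Subgroup G} [Finite G] (hP : IsPGroup 3 P) (hKP : K ≤ P)
    (hne : K ≠ P) : ∃ p ∈ P, p ∉ K ∧ ∀ k ∈ K, p * k * p⁻¹ ∈ K := by
  haveI : Fact (Nat.Prime 3) := ⟨Nat.prime_three⟩
  haveI : Group.IsNilpotent P := hP.isNilpotent
  have hlt : K.subgroupOf P < ⊤ := by
    refine lt_top_iff_ne_top.mpr fun e => hne (le_antisymm hKP ?_)
    intro p hp
    have : (⟨p, hp⟩ : P) ∈ K.subgroupOf P := e ▸ Subgroup.mem_top _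
    exact Subgroup.mem_subgroupOf.mp this
  obtain ⟨p, hp1, hp2⟩ := SetLike.exists_of_lt (Group.normalizerCondition_of_isNilpotent _ hlt)
  refine ⟨p, p.2, fun h => hp2 (Subgroup.mem_subgroupOf.mpr h), fun k hk => ?_⟩
  have := (Subgroup.mem_normalizer_iff.mp hp1 ⟨k, hKP hk⟩).mp (Subgroup.mem_subgroupOf.mpr hk)
  exact Subgroup.mem_subgroupOf.mp this

/-- A `3`-subgroup that is not properly normalized is conjugate to all others containing it. -/
theorem conj_le {K : Subgroup G} [Finite G] (S A : Subgroup G) (hK : IsPGroup 3 K) (hKS : K ≤ S)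
    (hA : IsPGroup 3 A) (hAS : A ≤ S)
    (hmax : ∀ p ∈ S, (∃ n : ℕ, p ^ 3 ^ n = 1) → (∀ k ∈ K, p * k * p⁻¹ ∈ K) → p ∈ K) :
    ∃ g ∈ S, ∀ a ∈ A, g * a * g⁻¹ ∈ K := by
  haveI : Fact (Nat.Prime 3) := ⟨Nat.prime_three⟩
  obtain ⟨P, hP⟩ := (hK.comap_subtype : IsPGroup 3 (K.subgroupOf S)).exists_le_sylow
  have hPK : (P : Subgroup S).map S.subtype = K := by
    by_contra hne
    have hle : K ≤ (P : Subgroup S).map S.subtype := fun k hk =>
      ⟨⟨k, hKS hk⟩, hP (Subgroup.mem_subgroupOf.mpr hk), rfl⟩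
    obtain ⟨p, hp, hpK, hn⟩ := exists_normalizing (P.isPGroup'.map S.subtype) hle (Ne.symm hne)
    obtain ⟨n, hn'⟩ := (P.isPGroup'.map S.subtype) ⟨p, hp⟩
    have hpow : p ^ 3 ^ n = 1 := congrArg Subtype.val hn'
    obtain ⟨q, -, rfl⟩ := hp
    exact hpK (hmax _ q.2 ⟨n, hpow⟩ hn)
  obtain ⟨Q, hQ⟩ := (hA.comap_subtype : IsPGroup 3 (A.subgroupOf S)).exists_le_sylow
  obtain ⟨g, hg⟩ := MulAction.exists_smul_eq S Q P
  refine ⟨g, g.2, fun a ha => ?_⟩
  rw [← hPK]
  refine ⟨g * ⟨a, hAS ha⟩ * g⁻¹, ?_, rfl⟩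
  rw [← hg, Sylow.coe_subgroup_smul]
  exact ⟨⟨a, hAS ha⟩, hQ (Subgroup.mem_subgroupOf.mpr ha), rfl⟩

/-- An involution of `H` is conjugate in `H` to exactly one of `uE` and `sE`. -/
theorem involution_cases {a : G} (ha : a ∈ H) (h2 : a * a = 1) (h1 : a ≠ 1) :
    (isU (c.code a) = true ∧ IsConj c.uE a) ∨ (isS (c.code a) = true ∧ IsConj c.sE a) := by
  have h := List.all_eq_true.mp involution_classes _ (c.mem_KL a ha)
  rw [← c.code_mul a ha a ha, h2, c.code_one, c.code_ne ha h1] at h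
  simp only [beq_self_eq_true, Bool.not_true, Bool.false_or, Bool.or_false, Bool.or_eq_true,
    Bool.and_eq_true, List.any_eq_true, beq_iff_eq] at h
  rcases h with ⟨h1, k, hk, e⟩ | ⟨h1, k, hk, e⟩
  · refine Or.inl ⟨h1, isConj_iff.mpr ⟨c.el k, c.inj _ (conj_mem (c.el_mem _) c.uE_mem) _ ha ?_⟩⟩
    rw [c.code_conj (c.el_mem _) c.uE_mem, c.code_el hk, c.code_u, e]
  · refine Or.inr ⟨h1, isConj_iff.mpr ⟨c.el k, c.inj _ (conj_mem (c.el_mem _) c.sE_mem) _ ha ?_⟩⟩
    rw [c.code_conj (c.el_mem _) c.sE_mem, c.code_el hk, c.code_s, e]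

theorem not_isConj [Finite G] : ¬ IsConj c.uE c.sE := by
  intro h
  obtain ⟨g, hg⟩ := isConj_iff.mp h
  obtain ⟨-, -, -, -, hjK, hjJ, hj1, hcm, hj3⟩ := facts
  have hj : c.code (c.el jsC) = jsC := c.code_el' hjK
  set j := c.el jsC
  have hjH : j ∈ H := c.el_mem _
  have hjne : j ≠ 1 := fun e => by
    have := congrArg c.code e
    rw [hj, c.code_one] at this
    rw [this] at hj1
    simp at hj1
  have hjJ' : inJ (c.code j) = true := by rw [hj]; exact hjJ
  have hj3' : j ^ 3 = 1 := c.J_pow_three hjH hjJ'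
  have hcm' : c.sE * j = j * c.sE := (c.comm_iff c.sE_mem hjH).mpr (by rw [c.code_s, hj]; exact hcm)
  let S := Subgroup.centralizer ({c.sE} : Set G)
  have hKS : Subgroup.zpowers j ≤ S := Subgroup.zpowers_le.mpr
    (Subgroup.mem_centralizer_singleton_iff.mpr hcm'.symm)
  have hK3 : IsPGroup 3 (Subgroup.zpowers j) := IsPGroup.of_card (n := 1) (by
    rw [Nat.card_zpowers, pow_one]
    haveI := Fact.mk Nat.prime_three
    exact orderOf_eq_prime hj3' hjne)
  -- an element of order three centralizing `uE`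
  have key : inK juC = true ∧ inJ juC = true ∧ (juC == idc) = false ∧
      comp juC uC = comp uC juC := by decide +kernel
  have hju : c.code (c.el juC) = juC := c.code_el' key.1
  set i := c.el juC
  have hiH : i ∈ H := c.el_mem _
  have hiJ : inJ (c.code i) = true := by rw [hju]; exact key.2.1
  have hine : i ≠ 1 := fun e => by
    have := congrArg c.code e
    rw [hju, c.code_one] at this
    have h3 := key.2.2.1
    rw [this] at h3
    simp at h3
  have hicm : i * c.uE = c.uE * i := (c.comm_iff hiH c.uE_mem).mpr (by rw [c.code_u, hju]; exact key.2.2.2)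
  have hA3 : IsPGroup 3 (Subgroup.zpowers (g * i * g⁻¹)) := IsPGroup.of_card (n := 1) (by
    rw [Nat.card_zpowers, pow_one, ← MulAut.conj_apply, MulEquiv.orderOf_eq]
    haveI := Fact.mk Nat.prime_three
    exact orderOf_eq_prime (c.J_pow_three hiH hiJ) hine)
  have hAS : Subgroup.zpowers (g * i * g⁻¹) ≤ S := Subgroup.zpowers_le.mpr
    (Subgroup.mem_centralizer_singleton_iff.mpr (by
      rw [← hg]
      calc g * i * g⁻¹ * (g * c.uE * g⁻¹) = g * (i * c.uE) * g⁻¹ := by group
        _ = g * (c.uE * i) * g⁻¹ := by rw [hicm]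
        _ = _ := by group))
  obtain ⟨d, hd, hdA⟩ := conj_le S _ hK3 hKS hA3 hAS (by
    rintro p hpS ⟨n, hn⟩ hnor
    have hcj := centralizes_of_odd hj3' hn (hnor j (Subgroup.mem_zpowers j))
    have hpH := c.cent p j hjH hjJ' hjne hcj
    have h9 := c.pow_nine hpH hn
    have hcs := Subgroup.mem_centralizer_singleton_iff.mp hpS
    have h := List.all_eq_true.mp cent_s _ (c.mem_KL p hpH)
    rw [← hj, ← c.code_s, ← c.code_mul _ hpH _ c.sE_mem, hcs,
      ← c.code_mul _ c.sE_mem _ hpH, ← c.code_mul _ hpH _ hjH, hcj,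
      ← c.code_mul _ hjH _ hpH, ← c.code_pow hpH, h9, c.code_one] at h
    simp only [beq_self_eq_true, Bool.and_self, Bool.not_true, Bool.false_or, List.any_eq_true,
      beq_iff_eq] at h
    obtain ⟨k, -, hk⟩ := h
    rw [← c.code_pow hjH] at hk
    rw [← c.inj _ (H.pow_mem hjH k) _ hpH hk]
    exact Subgroup.pow_mem _ (Subgroup.mem_zpowers j) k)
  have hin := hdA _ (Subgroup.mem_zpowers _)
  have hinH : (d * g) * i * (d * g)⁻¹ ∈ H := by
    have := Subgroup.zpowers_le.mpr hjH hin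
    simpa [mul_assoc] using this
  have hdg := c.ti hiH hiJ hine hinH
  have he : (d * g) * c.uE * (d * g)⁻¹ = c.sE := by
    calc (d * g) * c.uE * (d * g)⁻¹ = d * (g * c.uE * g⁻¹) * d⁻¹ := by group
      _ = d * c.sE * d⁻¹ := by rw [hg]
      _ = c.sE := by
        rw [Subgroup.mem_centralizer_singleton_iff.mp hd]
        group
  have h5 := congrArg c.code he
  rw [c.code_conj hdg c.uE_mem, c.code_u, c.code_s] at h5
  have h6 := List.all_eq_true.mp classes_conj _ (c.mem_KL _ hdg)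
  rw [Bool.and_eq_true, h5] at h6
  exact absurd h6.1 (by decide +kernel)

end Config

end CfsgLib.CubeSFour
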