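import Cfsg.Agent.Lib.Involutions.CubeSFour.Equations

/-!
# Sign analysis of five virtual characters

Five integral vectors on a finite set of "characters" with the Gram matrix, the linear relations and
the quadratic relations of the `3³ : S₄` configuration: some degree is one or two.
-/

set_option autoImplicit false
set_option maxHeartbeats 1600000

namespace CfsgLib.CubeSFour

open Finset

variable {ι : Type*} [Fintype ι] [DecidableEq ι]

theorem split_list {M : Type*} [AddCommMonoid M] (K : List ι) (hK : K.Nodup) (F : ι → M) :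
    ∑ i, F i = (K.map F).sum + ∑ i ∈ (K.toFinset)ᶜ, F i := by
  rw [← List.sum_toFinset _ hK, Finset.sum_add_sum_compl]

theorem zero_of_rest {K : List ι} (hK : K.Nodup) {m : ι → ℤ} {N : ℤ}
    (hN : ∑ i, m i * m i = N) (h : (K.map fun i => m i * m i).sum = N) :
    (∀ i, i ∉ K → m i = 0) := by
  intro i hi
  rw [split_list K hK, h] at hN
  have h0 : ∑ j ∈ (K.toFinset)ᶜ, m j * m j = 0 := by linarith
  have := (Finset.sum_eq_zero_iff_of_nonneg (fun j _ => mul_self_nonneg (m j))).mp h0 i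
    (by simp [hi])
  exact mul_self_eq_zero.mp this

theorem sum_of_support {K : List ι} (hK : K.Nodup) {m : ι → ℤ} (h : ∀ i, i ∉ K → m i = 0)
    {R : Type*} [Ring R] (F : ι → R) :
    ∑ i, (m i : R) * F i = (K.map fun i => (m i : R) * F i).sum := by
  rw [split_list K hK, add_eq_left]
  exact Finset.sum_eq_zero fun i hi => by
    rw [Finset.mem_compl, List.mem_toFinset] at hi
    rw [h i hi, Int.cast_zero, zero_mul]

/-- Entries of a vector of norm at most three are `0`, `1` or `-1`. -/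
theorem rest_units {K : List ι} (hK : K.Nodup) {m : ι → ℤ} {N : ℤ} {r : ℕ} (hr : r ≤ 3)
    (hN : ∑ i, m i * m i = N) (h : (K.map fun i => m i * m i).sum + r = N) :
    ∃ R : Finset ι, R.card = r ∧ (∀ i ∈ R, i ∉ K ∧ m i * m i = 1) ∧
      ∀ i, i ∉ K → i ∉ R → m i = 0 := by
  classical
  rw [split_list K hK] at hN
  have hsum : ∑ i ∈ (K.toFinset)ᶜ, m i * m i = r := by linarith
  set R := (K.toFinset)ᶜ.filter (fun i => m i ≠ 0) with hR
  have hu : ∀ i ∈ R, m i * m i = 1 := by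
    intro i hi
    rw [hR, Finset.mem_filter] at hi
    have h1 : m i * m i ≤ 3 := by
      have := Finset.single_le_sum (fun j _ => mul_self_nonneg (m j)) hi.1
      rw [hsum] at this
      linarith [(by exact_mod_cast hr : (r : ℤ) ≤ 3)]
    have h2 : -1 ≤ m i := by nlinarith
    have h3 : m i ≤ 1 := by nlinarith
    rcases (show m i = 1 ∨ m i = -1 by omega) with h4 | h4 <;> rw [h4] <;> norm_num
  refine ⟨R, ?_, fun i hi => ⟨by simpa using (Finset.mem_filter.mp hi).1, hu i hi⟩,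
    fun i hi hiR => ?_⟩
  · have : ∑ i ∈ R, m i * m i = r := by
      rw [← hsum, hR]
      exact Finset.sum_filter_of_ne fun i _ hne h0 => hne (by rw [h0, mul_zero])
    rw [Finset.sum_congr rfl hu, Finset.sum_const, nsmul_eq_mul, mul_one] at this
    exact_mod_cast this
  · by_contra h0
    exact hiR (Finset.mem_filter.mpr ⟨by simp [hi], h0⟩)

theorem exists_one_rest {K : List ι} (hK : K.Nodup) {m : ι → ℤ} {N : ℤ}
    (hN : ∑ i, m i * m i = N) (h : (K.map fun i => m i * m i).sum + 1 = N) :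
    ∃ G, (G :: K).Nodup ∧ m G * m G = 1 ∧ ∀ i, i ∉ (G :: K) → m i = 0 := by
  obtain ⟨R, hc, hu, hz⟩ := rest_units (r := 1) hK (by norm_num) hN (by exact_mod_cast h)
  obtain ⟨G, rfl⟩ := Finset.card_eq_one.mp hc
  refine ⟨G, List.nodup_cons.mpr ⟨(hu G (by simp)).1, hK⟩, (hu G (by simp)).2, fun i hi => ?_⟩
  simp only [List.mem_cons, not_or] at hi
  exact hz i hi.2 (by simp [hi.1])

theorem exists_two_rest {K : List ι} (hK : K.Nodup) {m : ι → ℤ} {N : ℤ}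
    (hN : ∑ i, m i * m i = N) (h : (K.map fun i => m i * m i).sum + 2 = N) :
    ∃ G G', (G :: G' :: K).Nodup ∧ m G * m G = 1 ∧ m G' * m G' = 1 ∧
      ∀ i, i ∉ (G :: G' :: K) → m i = 0 := by
  obtain ⟨R, hc, hu, hz⟩ := rest_units (r := 2) hK (by norm_num) hN (by exact_mod_cast h)
  obtain ⟨G, G', hne, rfl⟩ := Finset.card_eq_two.mp hc
  refine ⟨G, G', ?_, (hu G (by simp)).2, (hu G' (by simp)).2, fun i hi => ?_⟩
  · simp only [List.nodup_cons, List.mem_cons, not_or]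
    exact ⟨⟨hne, (hu G (by simp)).1⟩, (hu G' (by simp)).1, hK⟩
  · simp only [List.mem_cons, not_or] at hi
    exact hz i hi.2.2 (by simp [hi.1, hi.2.1])

theorem norm_le {K : List ι} (hK : K.Nodup) {m : ι → ℤ} {N : ℤ} (hN : ∑ i, m i * m i = N) :
    (K.map fun i => m i * m i).sum ≤ N := by
  rw [split_list K hK] at hN
  linarith [Finset.sum_nonneg (s := (K.toFinset)ᶜ) (f := fun i => m i * m i)
    (fun i _ => mul_self_nonneg (m i))]

theorem small_sq {a : ℤ} (h : a * a ≤ 3) : a ∈ [(-1 : ℤ), 0, 1] := by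
  have h2 : -1 ≤ a := by nlinarith
  have h3 : a ≤ 1 := by nlinarith
  simp only [List.mem_cons, List.not_mem_nil, or_false]
  omega

theorem three_cases : ∀ a b c : ℤ, a + b + c = 2 → a * a + b * b + c * c ≤ 4 →
    (a, b, c) ∈ [((1 : ℤ), (1 : ℤ), (0 : ℤ)), (1, 0, 1), (0, 1, 1), (2, 0, 0), (0, 2, 0),
      (0, 0, 2)] := by
  have key : ∀ a ∈ [(-2 : ℤ), -1, 0, 1, 2], ∀ b ∈ [(-2 : ℤ), -1, 0, 1, 2],
      ∀ c ∈ [(-2 : ℤ), -1, 0, 1, 2], a + b + c = 2 → a * a + b * b + c * c ≤ 4 →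
      (a, b, c) ∈ [((1 : ℤ), (1 : ℤ), (0 : ℤ)), (1, 0, 1), (0, 1, 1), (2, 0, 0), (0, 2, 0),
        (0, 0, 2)] := by decide
  intro a b c h1 h2
  have hb : ∀ z : ℤ, z * z ≤ 4 → z ∈ [(-2 : ℤ), -1, 0, 1, 2] := by
    intro z hz
    have h2 : -2 ≤ z := by nlinarith
    have h3 : z ≤ 2 := by nlinarith
    simp only [List.mem_cons, List.not_mem_nil, or_false]
    omega
  have := mul_self_nonneg a; have := mul_self_nonneg b; have := mul_self_nonneg c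
  exact key a (hb a (by linarith)) b (hb b (by linarith)) c (hb c (by linarith)) h1 h2

theorem five_cases : ∀ a b c d e : ℤ, a + b + c = 1 → a + b + d + e = 2 →
    a * a + b * b + c * c + d * d + e * e ≤ 3 →
    (a, b, c, d, e) ∈ [((1 : ℤ), (1 : ℤ), (-1 : ℤ), (0 : ℤ), (0 : ℤ)), (0, 0, 1, 1, 1),
      (1, 0, 0, 1, 0), (1, 0, 0, 0, 1), (0, 1, 0, 1, 0), (0, 1, 0, 0, 1)] := by
  have key : ∀ a ∈ [(-1 : ℤ), 0, 1], ∀ b ∈ [(-1 : ℤ), 0, 1], ∀ c ∈ [(-1 : ℤ), 0, 1],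
      ∀ d ∈ [(-1 : ℤ), 0, 1], ∀ e ∈ [(-1 : ℤ), 0, 1], a + b + c = 1 → a + b + d + e = 2 →
      a * a + b * b + c * c + d * d + e * e ≤ 3 →
      (a, b, c, d, e) ∈ [((1 : ℤ), (1 : ℤ), (-1 : ℤ), (0 : ℤ), (0 : ℤ)), (0, 0, 1, 1, 1),
        (1, 0, 0, 1, 0), (1, 0, 0, 0, 1), (0, 1, 0, 1, 0), (0, 1, 0, 0, 1)] := by decide +kernel
  intro a b c d e h1 h2 h3
  have := mul_self_nonneg a; have := mul_self_nonneg b; have := mul_self_nonneg c
  have := mul_self_nonneg d; have := mul_self_nonneg e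
  exact key a (small_sq (by linarith)) b (small_sq (by linarith)) c (small_sq (by linarith))
    d (small_sq (by linarith)) e (small_sq (by linarith)) h1 h2 h3

theorem six_cases : ∀ a b c d e f : ℤ, a + b + c = 1 → a + b + d + e = 0 → a + d + f = 0 →
    a * a + b * b + c * c + d * d + e * e + f * f ≤ 3 →
    (a, b, c, d, e, f) ∈ [((1 : ℤ), (0 : ℤ), (0 : ℤ), (-1 : ℤ), (0 : ℤ), (0 : ℤ)),
      (1, 0, 0, 0, -1, -1), (0, 1, 0, 0, -1, 0), (0, 1, 0, -1, 0, 1), (0, 0, 1, 0, 0, 0)] := by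
  have key : ∀ a ∈ [(-1 : ℤ), 0, 1], ∀ b ∈ [(-1 : ℤ), 0, 1], ∀ c ∈ [(-1 : ℤ), 0, 1],
      ∀ d ∈ [(-1 : ℤ), 0, 1], ∀ e ∈ [(-1 : ℤ), 0, 1], ∀ f ∈ [(-1 : ℤ), 0, 1],
      a + b + c = 1 → a + b + d + e = 0 → a + d + f = 0 →
      a * a + b * b + c * c + d * d + e * e + f * f ≤ 3 →
      (a, b, c, d, e, f) ∈ [((1 : ℤ), (0 : ℤ), (0 : ℤ), (-1 : ℤ), (0 : ℤ), (0 : ℤ)),
        (1, 0, 0, 0, -1, -1), (0, 1, 0, 0, -1, 0), (0, 1, 0, -1, 0, 1),
        (0, 0, 1, 0, 0, 0)] := by decide +kernel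
  intro a b c d e f h1 h2 h3 h4
  have := mul_self_nonneg a; have := mul_self_nonneg b; have := mul_self_nonneg c
  have := mul_self_nonneg d; have := mul_self_nonneg e; have := mul_self_nonneg f
  exact key a (small_sq (by linarith)) b (small_sq (by linarith)) c (small_sq (by linarith))
    d (small_sq (by linarith)) e (small_sq (by linarith)) f (small_sq (by linarith)) h1 h2 h3 h4

theorem eight_cases : ∀ a b c d e f g h : ℤ, a + b + c = -1 → a + b + d + e = 0 → a + d + f = 0 →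
    c + g + h = 0 → a * a + b * b + c * c + d * d + e * e + f * f + g * g + h * h ≤ 2 →
    (a, b, c, d, e, f, g, h) ∈ [((-1 : ℤ), (0 : ℤ), (0 : ℤ), (1 : ℤ), (0 : ℤ), (0 : ℤ), (0 : ℤ),
      (0 : ℤ)), (0, -1, 0, 0, 1, 0, 0, 0), (0, 0, -1, 0, 0, 0, 1, 0),
      (0, 0, -1, 0, 0, 0, 0, 1)] := by
  intro a b c d e f g h h1 h2 h3 h4 h5
  have := mul_self_nonneg a; have := mul_self_nonneg b; have := mul_self_nonneg c
  have := mul_self_nonneg d; have := mul_self_nonneg e; have := mul_self_nonneg f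
  have := mul_self_nonneg g; have := mul_self_nonneg h
  obtain rfl : c = -1 - a - b := by linarith
  obtain rfl : e = -a - b - d := by linarith
  obtain rfl : f = -a - d := by linarith
  obtain rfl : h = 1 + a + b - g := by linarith
  have key : ∀ a ∈ [(-1 : ℤ), 0, 1], ∀ b ∈ [(-1 : ℤ), 0, 1], ∀ d ∈ [(-1 : ℤ), 0, 1],
      ∀ g ∈ [(-1 : ℤ), 0, 1], a * a + b * b + (-1 - a - b) * (-1 - a - b) + d * d +
        (-a - b - d) * (-a - b - d) + (-a - d) * (-a - d) + g * g +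
        (1 + a + b - g) * (1 + a + b - g) ≤ 2 →
      (a, b, -1 - a - b, d, -a - b - d, -a - d, g, 1 + a + b - g) ∈
        [((-1 : ℤ), (0 : ℤ), (0 : ℤ), (1 : ℤ), (0 : ℤ), (0 : ℤ), (0 : ℤ), (0 : ℤ)),
          (0, -1, 0, 0, 1, 0, 0, 0), (0, 0, -1, 0, 0, 0, 1, 0),
          (0, 0, -1, 0, 0, 0, 0, 1)] := by decide +kernel
  exact key a (small_sq (by linarith)) b (small_sq (by linarith)) d (small_sq (by linarith))
    g (small_sq (by linarith)) h5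

/-- The data of the analysis. -/
structure Sys (ι : Type*) [Fintype ι] where
  deg : ι → ℕ
  deg_pos : ∀ i, 0 < deg i
  x : ι → ℂ
  y : ι → ℂ
  one : ι
  deg_one : deg one = 1
  m0 : ι → ℤ
  m1 : ι → ℤ
  m3 : ι → ℤ
  m5 : ι → ℤ
  m6 : ι → ℤ
  n0 : ∑ i, m0 i * m0 i = 3
  n1 : ∑ i, m1 i * m1 i = 2
  n3 : ∑ i, m3 i * m3 i = 4
  n5 : ∑ i, m5 i * m5 i = 4
  n6 : ∑ i, m6 i * m6 i = 4
  d05 : ∑ i, m0 i * m5 i = 2
  d03 : ∑ i, m0 i * m3 i = 1
  d35 : ∑ i, m3 i * m5 i = 2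
  d06 : ∑ i, m0 i * m6 i = 1
  d36 : ∑ i, m3 i * m6 i = 1
  d56 : ∑ i, m5 i * m6 i = 0
  d01 : ∑ i, m0 i * m1 i = -1
  d13 : ∑ i, m1 i * m3 i = 0
  d15 : ∑ i, m1 i * m5 i = 0
  d16 : ∑ i, m1 i * m6 i = 0
  t0 : m0 one = 0
  t1 : m1 one = 0
  t3 : m3 one = 1
  t5 : m5 one = 0
  t6 : m6 one = 1
  lin : ∀ m, m = m0 ∨ m = m1 ∨ m = m3 ∨ m = m5 ∨ m = m6 →
    ∑ i, (m i : ℂ) * (deg i : ℂ) = 0 ∧ ∑ i, (m i : ℂ) * x i = 0 ∧ ∑ i, (m i : ℂ) * y i = 0
  q0a : ∑ i, (m0 i : ℂ) * (x i ^ 2 / (deg i : ℂ)) = 0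
  q0c : ∑ i, (m0 i : ℂ) * (y i ^ 2 / (deg i : ℂ)) = 2 / 3
  q3a : ∑ i, (m3 i : ℂ) * (x i ^ 2 / (deg i : ℂ)) = 3 / 2
  q3b : ∑ i, (m3 i : ℂ) * (x i * y i / (deg i : ℂ)) = 1
  q3c : ∑ i, (m3 i : ℂ) * (y i ^ 2 / (deg i : ℂ)) = 4 / 3
  q5a : ∑ i, (m5 i : ℂ) * (x i ^ 2 / (deg i : ℂ)) = 3 / 2
  q5b : ∑ i, (m5 i : ℂ) * (x i * y i / (deg i : ℂ)) = 0
  q6a : ∑ i, (m6 i : ℂ) * (x i ^ 2 / (deg i : ℂ)) = 3 / 4
  q6b : ∑ i, (m6 i : ℂ) * (x i * y i / (deg i : ℂ)) = 1 / 2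
  q6c : ∑ i, (m6 i : ℂ) * (y i ^ 2 / (deg i : ℂ)) = 1

end CfsgLib.CubeSFour
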