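import Cfsg.Agent.Lib.Involutions.CubeSFour.Induced

/-!
# The equations satisfied by the five virtual characters and the linear character
-/

set_option autoImplicit false
set_option linter.style.haveILetI false
set_option linter.unusedSectionVars false

namespace CfsgLib.CubeSFour

open Cfsg CfsgLib.ThreeLocalChars
open scoped ComplexConjugate

universe u

/-- The sum of an irreducible character over the products of elements of two classes. -/
theorem sum_two_classes {G : Type u} [Group G] [Fintype G] (u v : G) (χ : IrrCharacter G)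
    (K L : Finset G) (hK : ∀ x, x ∈ K ↔ IsConj u x) (hL : ∀ x, x ∈ L ↔ IsConj v x) :
    ∑ x ∈ K, ∑ y ∈ L, (χ : G → ℂ) (x * y) =
      (K.card : ℂ) * L.card * ((χ : G → ℂ) u * (χ : G → ℂ) v / (χ : G → ℂ) 1) := by
  classical
  obtain ⟨χ, n, ρ, hρ, rfl⟩ := χ
  have key : ∀ (w : G) (M : Finset G), (∀ x, x ∈ M ↔ IsConj w x) →
      ∑ x ∈ M, ρ x = ((M.card : ℂ) * ρ.character w / (Module.finrank ℂ (Fin n → ℂ) : ℂ)) •
        (LinearMap.id : (Fin n → ℂ) →ₗ[ℂ] _) := by
    intro w M hM
    have hsum : Chars.classSum ρ w = ∑ x ∈ M, ρ x := by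
      rw [Chars.classSum, show M = Finset.univ.filter (fun x => IsConj w x) by ext x; simp [hM],
        Finset.sum_filter]
    have hcard : (Nat.card {x : G // IsConj w x} : ℂ) = (M.card : ℂ) := by
      rw [Nat.card_congr (Equiv.subtypeEquivRight fun x => (hM x).symm), Nat.card_eq_fintype_card,
        Fintype.card_coe]
    have hsc := Chars.classSum_eq_scalar ρ w
    rwa [hsum, hcard] at hsc
  set p : ℂ := (K.card : ℂ) * ρ.character u / (Module.finrank ℂ (Fin n → ℂ) : ℂ) with hp
  set q : ℂ := (L.card : ℂ) * ρ.character v / (Module.finrank ℂ (Fin n → ℂ) : ℂ) with hq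
  have h2 : ∑ x ∈ K, ∑ y ∈ L, ρ (x * y) = (p * q) • (LinearMap.id : (Fin n → ℂ) →ₗ[ℂ] _) := by
    simp only [map_mul, ← Finset.mul_sum, ← Finset.sum_mul, key u K hK, key v L hL]
    ext w
    simp [Module.End.mul_apply, smul_smul, hp, hq, mul_comm]
  have h3 := congrArg (LinearMap.trace ℂ (Fin n → ℂ)) h2
  simp only [map_sum, map_smul, LinearMap.trace_id, smul_eq_mul] at h3
  show ∑ x ∈ K, ∑ y ∈ L, ρ.character (x * y) =
    (K.card : ℂ) * L.card * (ρ.character u * ρ.character v / ρ.character 1)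
  rw [Representation.char_one]
  simp only [Representation.character] at h3 ⊢
  rw [h3, hp, hq]
  have hn : (Module.finrank ℂ (Fin n → ℂ) : ℂ) ≠ 0 :=
    Nat.cast_ne_zero.mpr (Chars.finrank_pos_of_isIrreducible ρ).ne'
  simp only [Representation.character]
  field_simp

namespace Config

variable {G : Type u} [Group G] [Fintype G] {H : Subgroup G} (c : Config H)

theorem inner_ind_ind (i j : Idx) : classInner (c.ind i) (c.ind j) = (gramVal i j : ℂ) := by
  rw [c.inner_ind i (c.isClassFunction_ind j)]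
  have h := congrArg Z12.ev (Z12.eq_of_beq
    (List.all_eq_true.mp (List.all_eq_true.mp gram_ok i (mem_idxList i)) j (mem_idxList j)))
  rw [Z12.ev_int, Z12.ev_sum, List.map_map] at h
  rw [show (i.elems.map fun a => (i.theta a).ev * conj (c.ind j (c.el a))) =
      i.elems.map (Z12.ev ∘ fun m => if (i.theta m).beq Z12.zero then Z12.zero else
        (i.theta m).mul (j.induced m).conj) from List.map_congr_left fun a ha => ?_, h]
  · have h0 : (i.ord : ℂ) ≠ 0 := by cases i <;> simp [Idx.ord]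
    push_cast
    field_simp
  · show _ = Z12.ev (if (i.theta a).beq Z12.zero then Z12.zero else
      (i.theta a).mul (j.induced a).conj)
    by_cases hz : (i.theta a).beq Z12.zero = true
    · rw [if_pos hz, Z12.eq_of_beq hz, Z12.ev_zero, zero_mul]
    · rw [if_neg hz, Z12.ev_mul, Z12.ev_conj]
      have hs := List.all_eq_true.mp (List.all_eq_true.mp supp_ok i (mem_idxList i)) a ha
      rw [Bool.not_eq_true] at hz
      rw [hz, Bool.false_or] at hs
      rw [c.ind_apply j (elems_KL i ha) hs]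

theorem inner_ind_one (i : Idx) : classInner (c.ind i) (fun _ => (1 : ℂ)) = (trivVal i : ℂ) := by
  rw [c.inner_ind i (fun _ _ => rfl)]
  have h := congrArg Z12.ev (Z12.eq_of_beq (List.all_eq_true.mp triv_ok i (mem_idxList i)))
  rw [Z12.ev_int, Z12.ev_sum, List.map_map] at h
  have h0 : (i.ord : ℂ) ≠ 0 := by cases i <;> simp [Idx.ord]
  simp only [map_one, mul_one]
  rw [show (i.elems.map fun a => (i.theta a).ev) = i.elems.map (Z12.ev ∘ i.theta) from rfl, h]
  push_cast
  field_simp

theorem inner_ind_const (i : Idx) (h : trivVal i = 0) {F : G → ℂ} (hF : IsClassFunction G F)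
    {z : ℂ} (hval : ∀ g ∈ H, c.code g ∈ i.elems → F g = z) : classInner (c.ind i) F = 0 := by
  have h1 := c.inner_ind_one i
  rw [h, Int.cast_zero, c.inner_ind i (fun _ _ => rfl)] at h1
  rw [c.inner_ind i hF]
  rw [List.map_congr_left (g := fun a => conj z * ((i.theta a).ev * conj (1 : ℂ))) fun a ha => by
      rw [hval _ (c.el_mem a) (by rw [c.code_el (elems_KL i ha)]; exact ha), map_one]; ring,
    List.sum_map_mul_left]
  linear_combination conj z * h1

open Classical in
/-- The conjugacy class of an element, as a finset. -/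
noncomputable def cls (_c : Config H) (a : G) : Finset G :=
  Finset.univ.filter fun x => IsConj a x

theorem mem_cls (a x : G) : x ∈ c.cls a ↔ IsConj a x := by simp [cls]

/-- The class sums of an induced function. -/
theorem class_sum (a b : G) (A B : ℕ → Bool) (ha : a * a = 1) (hb : b * b = 1)
    (hA : ∀ x ∈ H, (IsConj a x ↔ A (c.code x) = true))
    (hB : ∀ x ∈ H, (IsConj b x ↔ B (c.code x) = true)) (i : Idx) :
    ∑ x ∈ c.cls a, ∑ y ∈ c.cls b, c.ind i (x * y) =
      (Nat.card G : ℂ) / i.ord * (countSum i A B).ev := by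
  classical
  have hinv : ∀ {x : G}, IsConj a x → x * x = 1 := by
    intro x hx
    obtain ⟨g, rfl⟩ := isConj_iff.mp hx
    calc g * a * g⁻¹ * (g * a * g⁻¹) = g * (a * a) * g⁻¹ := by group
      _ = 1 := by rw [ha]; group
  have hinv' : ∀ {x : G}, IsConj b x → x * x = 1 := by
    intro x hx
    obtain ⟨g, rfl⟩ := isConj_iff.mp hx
    calc g * b * g⁻¹ * (g * b * g⁻¹) = g * (b * b) * g⁻¹ := by group
      _ = 1 := by rw [hb]; group
  let F : G → ℂ := fun z => (((c.cls a).filter fun x => IsConj b (x⁻¹ * z)).card : ℂ)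
  have hF : IsClassFunction G F := by
    intro z g
    simp only [F, Nat.cast_inj]
    refine Finset.card_bij' (fun x _ => g⁻¹ * x * g) (fun x _ => g * x * g⁻¹) ?_ ?_ ?_ ?_
    · intro x hx
      simp only [Finset.mem_filter, mem_cls] at hx ⊢
      exact ⟨hx.1.trans (isConj_iff.mpr ⟨g⁻¹, by simp⟩),
        hx.2.trans (isConj_iff.mpr ⟨g⁻¹, by simp [mul_assoc]⟩)⟩
    · intro x hx
      simp only [Finset.mem_filter, mem_cls] at hx ⊢
      exact ⟨hx.1.trans (isConj_iff.mpr ⟨g, rfl⟩),
        hx.2.trans (isConj_iff.mpr ⟨g, by simp [mul_assoc]⟩)⟩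
    · intro x _; simp [mul_assoc]
    · intro x _; simp [mul_assoc]
  have hswap : ∑ x ∈ c.cls a, ∑ y ∈ c.cls b, c.ind i (x * y) =
      ∑ z : G, c.ind i z * conj (F z) := by
    have h1 : ∀ x : G, ∑ y ∈ c.cls b, c.ind i (x * y) =
        ∑ z : G, if IsConj b (x⁻¹ * z) then c.ind i z else 0 := by
      intro x
      rw [cls, Finset.sum_filter, ← Equiv.sum_comp (Equiv.mulLeft x⁻¹)]
      simp
    simp only [h1]
    rw [Finset.sum_comm]
    refine Finset.sum_congr rfl fun z _ => ?_
    rw [← Finset.sum_filter, Finset.sum_const, nsmul_eq_mul, map_natCast, mul_comm]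
  have hloc : ∀ m ∈ i.elems, isD m = true →
      F (c.el m) = (((KL.filter A).filter fun x => B (comp x m)).length : ℂ) := by
    intro m hm hD
    have hmK := elems_KL i hm
    simp only [F, Nat.cast_inj]
    rw [← List.toFinset_card_of_nodup ((KL_nodup.filter _).filter _)]
    have hprop : ∀ x ∈ (c.cls a).filter fun x => IsConj b (x⁻¹ * c.el m),
        x ∈ H ∧ A (c.code x) = true ∧ B (comp (c.code x) m) = true := by
      intro x hx
      simp only [Finset.mem_filter, mem_cls] at hx
      have hxx := hinv hx.1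
      have hxi : x⁻¹ = x := inv_eq_of_mul_eq_one_right hxx
      have hyy := hinv' hx.2
      have hconj : x * c.el m * x⁻¹ = (c.el m)⁻¹ := by
        rw [hxi] at hyy
        refine eq_inv_of_mul_eq_one_left ?_
        rw [hxi]
        simpa [mul_assoc] using hyy
      have hxH : x ∈ H := c.tiD (c.el_mem m) (by rw [c.code_el hmK]; exact hD)
        (by rw [hconj]; exact H.inv_mem (c.el_mem m))
      refine ⟨hxH, (hA x hxH).mp hx.1, ?_⟩
      rw [hxi] at hx
      have hy := (hB _ (H.mul_mem hxH (c.el_mem m))).mp hx.2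
      rwa [c.code_mul _ hxH _ (c.el_mem m), c.code_el hmK] at hy
    refine Finset.card_bij' (fun x _ => c.code x) (fun n _ => c.el n) ?_ ?_ ?_ ?_
    · intro x hx
      obtain ⟨h1, h2, h3⟩ := hprop x hx
      rw [List.mem_toFinset, List.mem_filter, List.mem_filter]
      exact ⟨⟨c.mem_KL x h1, h2⟩, h3⟩
    · intro n hn
      rw [List.mem_toFinset, List.mem_filter, List.mem_filter] at hn
      simp only [Finset.mem_filter, mem_cls]
      have h1 : IsConj a (c.el n) := (hA _ (c.el_mem n)).mpr (by rw [c.code_el hn.1.1]; exact hn.1.2)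
      refine ⟨h1, ?_⟩
      rw [inv_eq_of_mul_eq_one_right (hinv h1)]
      refine (hB _ (H.mul_mem (c.el_mem n) (c.el_mem m))).mpr ?_
      rw [c.code_comp_el hn.1.1 hmK]
      exact hn.2
    · intro x hx; exact c.el_code (hprop x hx).1
    · intro n hn
      rw [List.mem_toFinset, List.mem_filter, List.mem_filter] at hn
      exact c.code_el hn.1.1
  have h := c.inner_ind i hF
  rw [Chars.inner_def, inv_mul_eq_iff_eq_mul₀ (Chars.card_ne_zero G)] at h
  rw [hswap, h, countSum, Z12.ev_sum, List.map_map, div_mul_eq_mul_div, ← mul_div_assoc',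
    inv_mul_eq_div]
  congr 3
  refine List.map_congr_left fun m hm => ?_
  simp only [Function.comp_apply]
  by_cases hz : (i.theta m).beq Z12.zero = true
  · rw [if_pos hz, Z12.eq_of_beq hz, Z12.ev_zero, zero_mul]
  · rw [if_neg hz, Z12.ev_mul, Z12.ev_int]
    have hs := List.all_eq_true.mp (List.all_eq_true.mp supp_ok i (mem_idxList i)) m hm
    rw [Bool.not_eq_true] at hz
    rw [hz, Bool.false_or] at hs
    rw [hloc m hm hs, map_natCast, Int.cast_natCast]

/-- The multiplicities. -/
noncomputable def mult (i : Idx) (χ : IrrCharacter G) : ℤ :=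
  ((Chars.isGeneralized_iff_inner.mp (c.isGeneralized_ind i)).2 χ).choose

theorem mult_spec (i : Idx) (χ : IrrCharacter G) :
    classInner (c.ind i) (χ : G → ℂ) = c.mult i χ :=
  ((Chars.isGeneralized_iff_inner.mp (c.isGeneralized_ind i)).2 χ).choose_spec

theorem u_involution : c.uE * c.uE = 1 := by
  refine c.eq_one (H.mul_mem c.uE_mem c.uE_mem) ?_
  rw [c.code_mul _ c.uE_mem _ c.uE_mem, c.code_u]
  decide +kernel

theorem s_involution : c.sE * c.sE = 1 := by
  refine c.eq_one (H.mul_mem c.sE_mem c.sE_mem) ?_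
  rw [c.code_mul _ c.sE_mem _ c.sE_mem, c.code_s]
  decide +kernel

theorem class_in_H {x : G} (hx : x ∈ H) :
    (IsConj c.uE x ↔ isU (c.code x) = true) ∧ (IsConj c.sE x ↔ isS (c.code x) = true) := by
  have disj : ∀ a : ℕ, isU a = true → isS a = true → False := by
    intro a h1 h2
    simp only [isU, isS, Bool.and_eq_true, beq_iff_eq] at h1 h2
    omega
  have hinv : ∀ {a : G}, a * a = 1 → IsConj a x → x * x = 1 := by
    intro a ha h
    obtain ⟨g, rfl⟩ := isConj_iff.mp h
    calc g * a * g⁻¹ * (g * a * g⁻¹) = g * (a * a) * g⁻¹ := by group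
      _ = 1 := by rw [ha]; group
  have hne : ∀ {a : G}, a ≠ 1 → IsConj a x → x ≠ 1 := by
    intro a ha h e
    rw [e, isConj_one_left] at h
    exact ha h
  have hu1 : c.uE ≠ 1 := fun e => by
    have h := c.code_u
    rw [e, c.code_one] at h
    exact absurd h (by decide +kernel)
  have hs1 : c.sE ≠ 1 := fun e => by
    have h := c.code_s
    rw [e, c.code_one] at h
    exact absurd h (by decide +kernel)
  have hcls : ∀ {p : ℕ → Bool}, (p = isU ∨ p = isS) → p (c.code x) = true →
      x * x = 1 ∧ x ≠ 1 := by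
    intro p hp hpx
    have h2 : comp (c.code x) (c.code x) = idc ∧ nfix (c.code x) ≠ 9 := by
      rcases hp with rfl | rfl <;> simp only [isU, isS, Bool.and_eq_true, beq_iff_eq] at hpx <;>
        exact ⟨hpx.1, by omega⟩
    refine ⟨c.eq_one (H.mul_mem hx hx) (by rw [c.code_mul x hx x hx]; exact h2.1), fun e => ?_⟩
    have h9 := h2.2
    rw [e, c.code_one] at h9
    exact h9 (by decide +kernel)
  constructor
  · refine ⟨fun h => ?_, fun h => ?_⟩
    · rcases c.involution_cases hx (hinv c.u_involution h) (hne hu1 h) with ⟨h1, -⟩ | ⟨-, h1⟩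
      · exact h1
      · exact absurd (h.trans h1.symm) c.not_isConj
    · obtain ⟨h2, h1⟩ := hcls (Or.inl rfl) h
      rcases c.involution_cases hx h2 h1 with ⟨-, h3⟩ | ⟨h3, -⟩
      · exact h3
      · exact (disj _ h h3).elim
  · refine ⟨fun h => ?_, fun h => ?_⟩
    · rcases c.involution_cases hx (hinv c.s_involution h) (hne hs1 h) with ⟨-, h1⟩ | ⟨h1, -⟩
      · exact absurd (h1.trans h.symm) c.not_isConj
      · exact h1
    · obtain ⟨h2, h1⟩ := hcls (Or.inr rfl) h
      rcases c.involution_cases hx h2 h1 with ⟨h3, -⟩ | ⟨-, h3⟩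
      · exact (disj _ h3 h).elim
      · exact h3

/-- The system of equations. -/
theorem exists_linear : ∃ μ : G →* ℂˣ, μ c.sE ≠ 1 := by
  classical
  haveI := Chars.irrFintype G
  let d : IrrCharacter G → ℕ := fun χ => (Chars.irr_degree_nat χ.2).choose
  have hd : ∀ χ : IrrCharacter G, 0 < d χ ∧ (χ : G → ℂ) 1 = (d χ : ℂ) := fun χ =>
    (Chars.irr_degree_nat χ.2).choose_spec
  have hgram : ∀ i j, ∑ χ, c.mult i χ * c.mult j χ = gramVal i j := by
    intro i j
    have h := Chars.inner_eq_sum (c.isClassFunction_ind i) (c.ind j)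
    simp only [c.inner_ind_ind, c.mult_spec, map_intCast] at h
    exact_mod_cast h.symm
  have hone : ∀ i, c.mult i (Chars.principal G) = trivVal i := by
    intro i
    have h := c.mult_spec i (Chars.principal G)
    rw [show ((Chars.principal G : IrrCharacter G) : G → ℂ) = fun _ => 1 from rfl,
      c.inner_ind_one] at h
    exact_mod_cast h.symm
  have hexp : ∀ (i : Idx) (g : G), c.ind i g = ∑ χ, (c.mult i χ : ℂ) * (χ : G → ℂ) g := by
    intro i g
    conv_lhs => rw [Chars.classFun_eq_sum (c.isClassFunction_ind i), Finset.sum_apply]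
    simp only [Pi.smul_apply, smul_eq_mul, c.mult_spec]
  have hlin : ∀ i (a : G), a * a = 1 → ∑ χ, (c.mult i χ : ℂ) * (χ : G → ℂ) a = 0 := fun i a ha => by
    rw [← hexp, c.ind_sq i ha]
  -- scales
  obtain ⟨nA, hnA⟩ : ∃ n, n = (c.cls c.uE).card := ⟨_, rfl⟩
  obtain ⟨nB, hnB⟩ : ∃ n, n = (c.cls c.sE).card := ⟨_, rfl⟩
  have hnA0 : (nA : ℂ) ≠ 0 := Nat.cast_ne_zero.mpr (hnA ▸
    (Finset.card_pos.mpr ⟨c.uE, (c.mem_cls _ _).mpr (IsConj.refl _)⟩).ne')
  have hnB0 : (nB : ℂ) ≠ 0 := Nat.cast_ne_zero.mpr (hnB ▸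
    (Finset.card_pos.mpr ⟨c.sE, (c.mem_cls _ _).mpr (IsConj.refl _)⟩).ne')
  have hG0 : (Nat.card G : ℂ) ≠ 0 := Chars.card_ne_zero G
  obtain ⟨α, hα⟩ := IsAlgClosed.exists_pow_nat_eq
    (2 * (Nat.card G : ℂ) / (nA : ℂ) ^ 2) (n := 2) two_pos
  have hα0 : α ≠ 0 := by
    rintro rfl
    rw [zero_pow two_ne_zero] at hα
    exact div_ne_zero (mul_ne_zero two_ne_zero hG0) (pow_ne_zero 2 hnA0) hα.symm
  obtain ⟨β, hβ⟩ : ∃ β : ℂ, β = 3 * (Nat.card G : ℂ) / (nA * nB * α) := ⟨_, rfl⟩
  have hβ0 : β ≠ 0 := hβ ▸ div_ne_zero (mul_ne_zero three_ne_zero hG0)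
    (mul_ne_zero (mul_ne_zero hnA0 hnB0) hα0)
  -- the three class sums
  have hquad : ∀ (i : Idx) (a b : G) (A B : ℕ → Bool) (v : ℤ),
      a * a = 1 → b * b = 1 → (∀ x ∈ H, (IsConj a x ↔ A (c.code x) = true)) →
      (∀ x ∈ H, (IsConj b x ↔ B (c.code x) = true)) →
      (countSum i A B).beq (Z12.int v) = true →
      ((c.cls a).card : ℂ) * (c.cls b).card *
        (∑ χ, (c.mult i χ : ℂ) * ((χ : G → ℂ) a * (χ : G → ℂ) b / (d χ : ℂ))) =
        (Nat.card G : ℂ) * ((v : ℂ) / i.ord) := by
    intro i a b A B v ha hb hA hB hv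
    have h := c.class_sum a b A B ha hb hA hB i
    rw [Z12.eq_of_beq hv, Z12.ev_int, div_mul_eq_mul_div, ← mul_div_assoc'] at h
    rw [← h]
    simp only [hexp]
    rw [Finset.mul_sum]
    conv_rhs => arg 2; ext x; rw [Finset.sum_comm]
    rw [Finset.sum_comm]
    refine Finset.sum_congr rfl fun χ _ => ?_
    simp only [← Finset.mul_sum]
    rw [sum_two_classes a b χ (c.cls a) (c.cls b) (c.mem_cls a) (c.mem_cls b), (hd χ).2]
    ring
  have hU : ∀ x ∈ H, (IsConj c.uE x ↔ isU (c.code x) = true) := fun x hx => (c.class_in_H hx).1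
  have hS : ∀ x ∈ H, (IsConj c.sE x ↔ isS (c.code x) = true) := fun x hx => (c.class_in_H hx).2
  have hcount := fun i => List.all_eq_true.mp count_ok i (mem_idxList i)
  simp only [Bool.and_eq_true] at hcount
  have hxx : ∀ i, ∑ χ, (c.mult i χ : ℂ) * (((χ : G → ℂ) c.uE / α) ^ 2 / (d χ : ℂ)) =
      ((countVal i).1 : ℂ) / i.ord / 2 := by
    intro i
    have h := hquad i c.uE c.uE isU isU _ c.u_involution c.u_involution hU hU (hcount i).1.1
    rw [← hnA] at h
    have e : ∀ χ : IrrCharacter G, (c.mult i χ : ℂ) * (((χ : G → ℂ) c.uE / α) ^ 2 / (d χ : ℂ)) =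
        (1 / α ^ 2) * ((c.mult i χ : ℂ) * ((χ : G → ℂ) c.uE * (χ : G → ℂ) c.uE / (d χ : ℂ))) :=
      fun χ => by ring
    rw [Finset.sum_congr rfl (fun χ _ => e χ), ← Finset.mul_sum]
    generalize (∑ χ, (c.mult i χ : ℂ) * ((χ : G → ℂ) c.uE * (χ : G → ℂ) c.uE / (d χ : ℂ))) = S at h
    generalize ((countVal i).1 : ℂ) / i.ord = R at h
    rw [hα]
    field_simp
    linear_combination h
  have hxy : ∀ i, ∑ χ, (c.mult i χ : ℂ) * ((χ : G → ℂ) c.uE / α * ((χ : G → ℂ) c.sE / β) /
      (d χ : ℂ)) = ((countVal i).2.1 : ℂ) / i.ord / 3 := by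
    intro i
    have h := hquad i c.uE c.sE isU isS _ c.u_involution c.s_involution hU hS (hcount i).1.2
    rw [← hnA, ← hnB] at h
    have e : ∀ χ : IrrCharacter G, (c.mult i χ : ℂ) * ((χ : G → ℂ) c.uE / α *
        ((χ : G → ℂ) c.sE / β) / (d χ : ℂ)) = (1 / (α * β)) *
          ((c.mult i χ : ℂ) * ((χ : G → ℂ) c.uE * (χ : G → ℂ) c.sE / (d χ : ℂ))) :=
      fun χ => by ring
    rw [Finset.sum_congr rfl (fun χ _ => e χ), ← Finset.mul_sum]
    generalize (∑ χ, (c.mult i χ : ℂ) * ((χ : G → ℂ) c.uE * (χ : G → ℂ) c.sE / (d χ : ℂ))) = S at h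
    generalize ((countVal i).2.1 : ℂ) / i.ord = R at h
    rw [hβ]
    field_simp
    linear_combination h
  have hyy : ∀ i, ∑ χ, (c.mult i χ : ℂ) * (((χ : G → ℂ) c.sE / β) ^ 2 / (d χ : ℂ)) =
      ((countVal i).2.2 : ℂ) / i.ord * (2 / 9) := by
    intro i
    have h := hquad i c.sE c.sE isS isS _ c.s_involution c.s_involution hS hS (hcount i).2
    rw [← hnB] at h
    have hβ2 : β ^ 2 = 9 * (Nat.card G : ℂ) / (2 * (nB : ℂ) ^ 2) := by
      rw [hβ, div_pow, mul_pow (_ : ℂ) α, hα]
      field_simp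
      ring
    have e : ∀ χ : IrrCharacter G, (c.mult i χ : ℂ) * (((χ : G → ℂ) c.sE / β) ^ 2 / (d χ : ℂ)) =
        (1 / β ^ 2) * ((c.mult i χ : ℂ) * ((χ : G → ℂ) c.sE * (χ : G → ℂ) c.sE / (d χ : ℂ))) :=
      fun χ => by ring
    rw [Finset.sum_congr rfl (fun χ _ => e χ), ← Finset.mul_sum]
    generalize (∑ χ, (c.mult i χ : ℂ) * ((χ : G → ℂ) c.sE * (χ : G → ℂ) c.sE / (d χ : ℂ))) = S at h
    generalize ((countVal i).2.2 : ℂ) / i.ord = R at h
    rw [hβ2]
    field_simp
    linear_combination h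
  -- the five vectors
  let m1 : IrrCharacter G → ℤ := fun χ => c.mult .b χ - c.mult .a χ
  let m6 : IrrCharacter G → ℤ := fun χ => c.mult .e χ - c.mult .d χ
  have sub_r : ∀ (i j k : Idx), ∑ χ, c.mult k χ * (c.mult i χ - c.mult j χ) =
      gramVal k i - gramVal k j := by
    intro i j k
    simp only [mul_sub, Finset.sum_sub_distrib, hgram]
  have sub_lr : ∀ (i j k l : Idx), ∑ χ, (c.mult k χ - c.mult l χ) * (c.mult i χ - c.mult j χ) =
      gramVal k i - gramVal k j - (gramVal l i - gramVal l j) := by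
    intro i j k l
    simp only [sub_mul, Finset.sum_sub_distrib, sub_r]
  have lsub : ∀ (i j : Idx) (F : IrrCharacter G → ℂ),
      ∑ χ, ((c.mult i χ - c.mult j χ : ℤ) : ℂ) * F χ =
        ∑ χ, (c.mult i χ : ℂ) * F χ - ∑ χ, (c.mult j χ : ℂ) * F χ := by
    intro i j F
    push_cast
    simp only [sub_mul, Finset.sum_sub_distrib]
  have hdlin : ∀ i, ∑ χ, (c.mult i χ : ℂ) * (d χ : ℂ) = 0 := fun i => by
    simpa only [(hd _).2] using hlin i 1 (one_mul 1)
  have hxlin : ∀ i, ∑ χ, (c.mult i χ : ℂ) * ((χ : G → ℂ) c.uE / α) = 0 := fun i => by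
    simp only [mul_div_assoc', ← Finset.sum_div, hlin i c.uE c.u_involution, zero_div]
  have hylin : ∀ i, ∑ χ, (c.mult i χ : ℂ) * ((χ : G → ℂ) c.sE / β) = 0 := fun i => by
    simp only [mul_div_assoc', ← Finset.sum_div, hlin i c.sE c.s_involution, zero_div]
  let S : Sys (IrrCharacter G) :=
    { deg := d
      deg_pos := fun χ => (hd χ).1
      x := fun χ => (χ : G → ℂ) c.uE / α
      y := fun χ => (χ : G → ℂ) c.sE / β
      one := Chars.principal G
      deg_one := by
        have h := (hd (Chars.principal G)).2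
        rw [Chars.principal_apply] at h
        exact_mod_cast h.symm
      m0 := c.mult .a
      m1 := m1
      m3 := c.mult .c
      m5 := c.mult .d
      m6 := m6
      n0 := by rw [hgram]; rfl
      n1 := by simp only [m1, sub_lr]; rfl
      n3 := by rw [hgram]; rfl
      n5 := by rw [hgram]; rfl
      n6 := by simp only [m6, sub_lr]; rfl
      d05 := by rw [hgram]; rfl
      d03 := by rw [hgram]; rfl
      d35 := by rw [hgram]; rfl
      d06 := by simp only [m6, sub_r]; rfl
      d36 := by simp only [m6, sub_r]; rfl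
      d56 := by simp only [m6, sub_r]; rfl
      d01 := by simp only [m1, sub_r]; rfl
      d13 := by simp only [m1, mul_comm (_ - _) (c.mult _ _), sub_r]; rfl
      d15 := by simp only [m1, mul_comm (_ - _) (c.mult _ _), sub_r]; rfl
      d16 := by simp only [m1, m6, sub_lr]; rfl
      t0 := hone .a
      t1 := by simp only [m1, hone]; rfl
      t3 := hone .c
      t5 := hone .d
      t6 := by simp only [m6, hone]; rfl
      lin := by
        rintro m (rfl | rfl | rfl | rfl | rfl) <;>
          refine ⟨?_, ?_, ?_⟩ <;>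
            simp only [m1, m6, lsub, hdlin, hxlin, hylin, sub_zero]
      q0a := by rw [hxx]; norm_num [countVal, Idx.ord]
      q0c := by rw [hyy]; norm_num [countVal, Idx.ord]
      q3a := by rw [hxx]; norm_num [countVal, Idx.ord]
      q3b := by rw [hxy]; norm_num [countVal, Idx.ord]
      q3c := by rw [hyy]; norm_num [countVal, Idx.ord]
      q5a := by rw [hxx]; norm_num [countVal, Idx.ord]
      q5b := by rw [hxy]; norm_num [countVal, Idx.ord]
      q6a := by simp only [m6, lsub, hxx]; norm_num [countVal, Idx.ord]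
      q6b := by simp only [m6, lsub, hxy]; norm_num [countVal, Idx.ord]
      q6c := by simp only [m6, lsub, hyy]; norm_num [countVal, Idx.ord] }
  by_contra hno
  push Not at hno
  obtain ⟨χ, ⟨h1, h2⟩ | ⟨h1, h2⟩⟩ := S.small
  · obtain ⟨μ, hμ⟩ := Chars.exists_hom_of_degree_one (Chars.isCharacter_of_irr χ.2)
      (by rw [(hd χ).2, show d χ = 1 from h1, Nat.cast_one])
    have hker : H ≤ μ.ker := c.conj_induction fun h _ => by
      rw [MonoidHom.mem_ker, map_mul, map_mul, hno μ, mul_one, map_inv, mul_inv_cancel]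
    apply h2
    show c.mult .a χ = 0
    have h := c.mult_spec .a χ
    rw [c.inner_ind_const .a rfl (Chars.isClassFunction_irr χ) (z := 1)
      (fun g hg _ => by rw [hμ]; simp [MonoidHom.mem_ker.mp (hker hg)])] at h
    exact_mod_cast h.symm
  · obtain ⟨ψ, hψ⟩ := χ
    obtain ⟨n, ρ, hρ, rfl⟩ := hψ
    have hn : Module.finrank ℂ (Fin n → ℂ) = 2 := by
      have h := (hd ⟨ρ.character, n, ρ, hρ, rfl⟩).2
      rw [show d ⟨ρ.character, n, ρ, hρ, rfl⟩ = 2 from h1] at h
      simp only [Representation.char_one] at h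
      exact_mod_cast h
    let e : G →* ℂˣ := MonoidHom.toHomUnits (LinearMap.det.comp ρ)
    have hdet : LinearMap.det (ρ c.sE) = 1 := by
      have h := congrArg (fun z : ℂˣ => (z : ℂ)) (hno e)
      simpa [e] using h
    obtain ⟨ε, hε, hεs⟩ : ∃ ε : ℂ, (ε = 1 ∨ ε = -1) ∧ ρ c.sE = ε • 1 := by
      obtain ⟨b, ν, hν, -, hb, -, -, -⟩ := Chars.exists_eigenbasis_rep ρ c.sE
      have hM : LinearMap.toMatrix b b (ρ c.sE) = Matrix.diagonal ν := by
        ext k l
        rw [LinearMap.toMatrix_apply, hb l, map_smul, Module.Basis.repr_self]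
        by_cases hkl : k = l
        · subst hkl; simp
        · simp [hkl]
      have hprod : ∏ k, ν k = 1 := by
        rw [← Matrix.det_diagonal, ← hM, LinearMap.det_toMatrix, hdet]
      have hord : orderOf c.sE ∣ 2 := orderOf_dvd_of_pow_eq_one (by rw [pow_two, c.s_involution])
      have hpm : ∀ k, ν k = 1 ∨ ν k = -1 := by
        intro k
        obtain ⟨t, ht⟩ := hord
        have h2 : ν k ^ 2 = 1 := by rw [ht, pow_mul, hν k, one_pow]
        exact sq_eq_one_iff.mp h2
      let e2 : Fin (Module.finrank ℂ (Fin n → ℂ)) ≃ Fin 2 := finCongr hn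
      have hprod2 : ν (e2.symm 0) * ν (e2.symm 1) = 1 := by
        rw [← hprod, ← Equiv.prod_comp e2.symm, Fin.prod_univ_two]
      have heq : ν (e2.symm 1) = ν (e2.symm 0) := by
        rcases hpm (e2.symm 0) with h | h <;> rw [h] at hprod2 ⊢
        · linear_combination hprod2
        · linear_combination -hprod2
      refine ⟨ν (e2.symm 0), hpm _, b.ext fun k => ?_⟩
      rw [hb k, LinearMap.smul_apply, Module.End.one_apply]
      obtain ⟨j, rfl⟩ := e2.symm.surjective k
      fin_cases j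
      · rfl
      · exact congrArg (· • _) heq
    let Z : Subgroup G :=
      { carrier := {g | ∃ δ : ℂ, δ * δ = 1 ∧ ρ g = δ • 1}
        one_mem' := ⟨1, one_mul 1, by rw [map_one, one_smul]⟩
        mul_mem' := by
          rintro x y ⟨δ, hδ, hx⟩ ⟨δ', hδ', hy⟩
          refine ⟨δ * δ', by linear_combination (δ' * δ') * hδ + hδ', ?_⟩
          rw [map_mul, hx, hy, smul_mul_smul_comm, one_mul]
        inv_mem' := by
          rintro x ⟨δ, hδ, hx⟩
          refine ⟨δ, hδ, ?_⟩
          have h : ρ x⁻¹ * ρ x = 1 := by rw [← map_mul, inv_mul_cancel, map_one]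
          rw [hx, mul_smul_comm, mul_one] at h
          calc ρ x⁻¹ = (δ * δ) • ρ x⁻¹ := by rw [hδ, one_smul]
            _ = δ • 1 := by rw [mul_smul, h] }
    have hZ : H ≤ Z := c.conj_induction fun h _ => by
      refine ⟨ε, by rcases hε with rfl | rfl <;> norm_num, ?_⟩
      rw [map_mul, map_mul, hεs, mul_smul_comm, mul_one, smul_mul_assoc, ← map_mul,
        mul_inv_cancel, map_one]
    apply h2
    show c.mult .d _ = 0
    have h := c.mult_spec .d ⟨ρ.character, n, ρ, hρ, rfl⟩
    rw [c.inner_ind_const .d rfl (Chars.isClassFunction_irr _) (z := 2) (fun g hg hgd => ?_)] at h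
    · exact_mod_cast h.symm
    · show ρ.character g = 2
      have h9 : g ^ 9 = 1 := c.eq_one (H.pow_mem hg 9) (by
        rw [c.code_pow hg]
        exact beq_iff_eq.mp (List.all_eq_true.mp elems_d_pow _ hgd))
      have h9' : ρ g ^ 9 = 1 := by rw [← map_pow, h9, map_one]
      have hg1 : ρ g = 1 := by
        obtain ⟨δ, hδ, h⟩ := hZ hg
        have h9δ : δ ^ 9 = δ := by
          linear_combination (δ ^ 7 + δ ^ 5 + δ ^ 3 + δ) * hδ
        rw [h, smul_pow, one_pow, h9δ] at h9'
        rw [h, h9']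
      rw [Representation.character, hg1, LinearMap.trace_one, hn]
      norm_num

end Config

end CfsgLib.CubeSFour
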